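import Cfsg.Agent.N2.Sp2.MdSuz_m3
import Cfsg.Agent.N2.Sp2.MdCo2_m3
import Cfsg.Agent.N2.Cl.D4.B44_mg_m3
import Cfsg.Agent.N2.Cl.Br.Main_m3
import Cfsg.Agent.H198.TriBase
import Cfsg.Agent.LieRecognition.FieldSemilinear
import Cfsg.Agent.H749.QuadSplit
import Cfsg.Agent.N2.Co2L.Inst_m3
import Cfsg.Agent.H198.TriCls
import Cfsg.Agent.H161.TriLin
import Cfsg.Agent.H752.SemiNormal
import Cfsg.Agent.H126.TriRigid
import Cfsg.Agent.H206.TriCent
import Cfsg.Agent.H989.OkuboRoot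
import Cfsg.Agent.H669.TriBal
import Cfsg.Agent.Omega.NOThreeL.ATwo.Fam_m3
import Cfsg.Agent.SolvableStructure.HallConverse
import Cfsg.Agent.N2.G2.Why_m3
import Cfsg.Agent.N2.C1.L_mg_m3
import Cfsg.Agent.SB.Tor.Refl_m3
import Cfsg.Agent.SB.Fr.Main_m3
import Cfsg.Agent.FastGrp
import Cfsg.Agent.Prune
set_option linter.all false

section
prune_inst 0x7ff1a8f9bbb8b9deffff7e7fa7decffc39911fffe6dff94bbfe02bff0bdf030009c5a38d89e000fe1e97421410a87843f9ffce7fe26bdc7ffffd5ff41ffbee0ff5f7b5085190ac140fbc6ffe83e0778e7f3fffffffffffffffffffffffffffaeffbfffffffff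

-- part: N2/Sp1/VHS
section
prune_inst 0x10000000000000
set_option linter.all false

/-- decoders of the packed data (elaboration time only) -/
private noncomputable def pk61d (b S i : Nat) : Nat := Nat.mod (Nat.shiftRight S (Nat.mul b i)) (Nat.shiftLeft (nat_lit 1) b)
private noncomputable def pk61c {α : Type} (t : Nat) (a : α) (f : Nat → α) : α := Nat.rec a (fun k _ => f k) t
private noncomputable def pk61f {α : Type} (t : Nat) (f : Nat → α) : α := Nat.rec (f Nat.zero) (fun k _ => f (Nat.succ k)) t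
private noncomputable def pk61l {α : Type} (f : Nat → α) (s e : Nat) (tl : List α) : List α :=
  pk61f e fun e => Nat.rec tl (fun k ih => List.cons (pk61f (Nat.sub e (Nat.succ k)) f) ih) (Nat.sub e s)
private noncomputable def pk61o {α : Type} (O : (n : Nat) → OfNat α n → α) (I : (n : Nat) → OfNat α n) (t : Nat) : α :=
  pk61c t (O (nat_lit 0) (I (nat_lit 0))) fun k => O (Nat.succ k) (I (Nat.succ k))
private noncomputable def lq26c4d0ed26 {T : Sort _} (f :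
    type_of% (@_root_.List.cons.{0}) →
    type_of% (@_root_.Prod.mk.{0, 0}) →
    type_of% (@_root_.List.nil.{0}) →
    type_of% (@_root_.List.cons.{0} (Prod Nat (Prod Nat (Prod (List Nat) (List (List (Prod Nat Nat))))))) →
    type_of% (@_root_.List.cons.{0} (List Nat)) → T) : T :=
  f (@_root_.List.cons.{0}) (@_root_.Prod.mk.{0, 0}) (@_root_.List.nil.{0}) (@_root_.List.cons.{0} (Prod Nat (Prod Nat (Prod (List Nat) (List (List (Prod Nat Nat))))))) (@_root_.List.cons.{0} (List Nat))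

/-!
# N2 (S3519), sporadic rows: the exact sieve for HS (helper45; generated by notes/N2/sp45/emit.py.txt)
-/

set_option autoImplicit false

namespace Cfsg.Agent.N2.Sp1.HS

open Cfsg Cfsg.Agent.FP3 Cfsg.Agent.TAB.Eng Cfsg.Agent.TAB.Use Cfsg.Agent.N2.Sp Cfsg.Agent.N2.Sp.HS

/-- the solutions -/
noncomputable def SOL : List (List ℕ) :=
  let y0 : List (List ℕ) := (by
  refine (?fq9001 : (fun (On : (n : Nat) → OfNat Nat n → Nat) (In : (n : Nat) → OfNat Nat n) => (pk61l (fun i0 => (pk61l (fun i1 => (pk61o On In (pk61d (nat_lit 9) 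
    (nat_lit 0x180a0399c0d25a241007d3c18cc05a2812c90401e0dc6c30168a04e241186c32180a03c180a030140200) (pk61d (nat_lit 6) 
    (nat_lit 0x240000138d66c10000000000000000000008000dd3400400000000000000000007800005cf6010000000000000000005550000173d804000000000000000001e0000005cf60100000000000000000001e6000173c00400000000000000000155580005cf0010000000000000000000147c00002ce04000000000000000001401f00000b38100000000000000000001488010018004000000000000000000000000c84a00100000000000000000001e0000171800400000000000000000106400005c600100000000000000000065000001718004000000000000000001e0000005c600100000000000000000044f00001c00004000000000000000001a00000070000100000000000000000000000015d28804000000000000000000050000700b3810000000000000000000143c008024704000000000000000001400f0020091c100000000000000000001448018008704000000000000000000051300000b001) i1)))) (Nat.mul (nat_lit 21) i0) (Nat.mul (nat_lit 21)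 (Nat.succ i0)) List.nil)) (nat_lit 0) (nat_lit 23) List.nil : List (List ℕ)))
    = ?xq9001 → (List (List ℕ))) ?hq9001; (case hq9001 => (set_option maxRecDepth 1000000 in conv => lhs; reduce)); intro _; exact ?xq9001 (@OfNat.ofNat Nat) instOfNatNat : List (List ℕ))
  let y1 : List (List ℕ) := (by
  refine (?fq9002 : (fun (On : (n : Nat) → OfNat Nat n → Nat) (In : (n : Nat) → OfNat Nat n) (tl : List (List ℕ)) => (pk61l (fun i0 => (pk61l (fun i1 => (pk61o On In (pk61d (nat_lit 7) (Nat.add 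
    (nat_lit 0x46002801f2004000000000000000000000000a4003004e00080000000000000000000000016800e005c00100000000000000000000030000000140780020000000000000000000006000000000196404000000000000000000000c000000000646408000000000000000000001800c8000006400100000000000000000000000000001880d98020000000000000000000000002100250091804000000000000000000000000000062066000800000000000000000000000000024406c00100000000000000000000000012000080d80020000000000000000000000001e004900f000400000000000000000000000054003201e0008000000000000000000000000c000c400c0010000000000000000000000001e0000801800200000000000000000000002000000000f000400000000000000000000083000000001e000800000000000000000000204000000003c001000000000000000000000300000000c80000200000000000000000000000000003001b30040000000000000000000000003c001001e40080000000000000000000000000000c00ac40100000000000000000000000000003800d8802000000000000000000000000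18001001b1004000000000000000000000000380040026200800000000000000000000000090000004c401000000000000000000000000100018005880200000000000000000000000028001000b1004000000000000000000000000680000006200800000000000000000000000078002007c0010000000000000000000000000d001c00b800200000000000000000000000022001801700040000000000000000000000003c009001e00080000000000000000000000009800a003c00100000000000000000000000017000400780020000000000000000000000002a0038007000400000000000000000000000064003000e00080000000000000000000000300000028007810000000000000000000003000000005000f0200000000000000000000000c000000a0f0004000000000000000000000c0000000141e00080000000000000000000018000000000640010000000000000000000000000000008018c0200000000000000000000000000000100f000400000000000000000000000000006200600080000000000000000000009000000046000010000000000000000000000060000000028a0200000000000000000000000c00000000f0004000000000000000000000c0000000001e00080000000000000000000000300000a00140010000000000000000000000000000080059002000000000000000000000000110004001180400000000000000000000000000002002620080000000000000000000000000000c002c401)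 (Nat.shiftLeft 
    (nat_lit 0x1019003c007800200000000000000000000002046002800f00040000000000000000000020008c005001e000800000000000000000000000000000a06d20100000000000000000000000000000141f800200000000000000000000000000009281b00040000000000000000000000005a004d0120008000000000000000000000000c8006009d0010000000000000000000000001700240179002000000000000000000000) (nat_lit 8000))) i1))) (Nat.mul (nat_lit 21) i0) (Nat.mul (nat_lit 21) (Nat.succ i0)) List.nil)) (nat_lit 0) (nat_lit 64) tl : List (List ℕ)))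
    = ?xq9002 → (List (List ℕ))) ?hq9002; (case hq9002 => (set_option maxRecDepth 1000000 in conv => lhs; reduce)); intro _; exact ?xq9002 (@OfNat.ofNat Nat) instOfNatNat y0 : List (List ℕ))
  (by
  refine (?fq9003 : (fun (On : (n : Nat) → OfNat Nat n → Nat) (In : (n : Nat) → OfNat Nat n) (tl : List (List ℕ)) => (pk61l (fun i0 => (pk61l (fun i1 => (pk61o On In (pk61d (nat_lit 5) 
    (nat_lit 0x1c0100e8080000000000000000100100340400000000000000000a00001a0200000000000000000440102481000000000000000001e0380a40800000000000000001300c0520400000000000000000881200902000000000000000005405004810000000000000000032008024080000000000000000000101b0040000000000000000000180980200000000000000000380203c010000000000000000020020160080000000000000000140000b0040000000000000000070140380200000000000000000480601c01000000000000000002c0100e0080000000000000000100300300400000000000000000a0100180200000000000000000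600400c010000000000000000038000060080000000000000025e0000000040000000000000000000008024200000000000000000000042401000000000000000000000006c080000000000000000000000740400000000000000000000801a0200000000000000000000002c8100000000000000000000200e408000000000000000009004012040000000000000000000000780200000000000000000000402c0100000000000000000000400e008000000000000000009004050040000000000000000050040180200000000000000000300000c0100000000000000000120280200800000000000000000b00c010040000000000000000068020080200000000000000000000040061000000000000000000000206008000000000000001000000002840000000000000008000000280200000000000000000000040001000000000000000000000002608000000000000000000000032040000000000000000000040090200000000000000000000001441000000000000000000001006208000000000000000000010011040000000000000000000000380200000000000000000000201401000000000000000000002006008000000000000000006000010040000000000000000400000000200000000000000040000000001000000000000000000000000308000000000000000000000011040000000000000000000000104200000000000000000000200021000000000000000000000006008000000000000000000008010040000000000000000000000004200000000000000000000000401)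 i1))) (Nat.mul (nat_lit 21) i0) (Nat.mul (nat_lit 21) (Nat.succ i0)) List.nil)) (nat_lit 0) (nat_lit 64) tl : List (List ℕ)))
    = ?xq9003 → (List (List ℕ))) ?hq9003; (case hq9003 => (set_option maxRecDepth 1000000 in conv => lhs; reduce)); intro _; exact ?xq9003 (@OfNat.ofNat Nat) instOfNatNat y1 : List (List ℕ))

/-- the certificates -/
noncomputable def CL : List Ct := (beta% delta% lq26c4d0ed26 fun a b c d _ =>
 (let f:=(let f:=(let f:=(let f:=(let f:=(d (b 1925<|b 29<|b c (a (a (b 1 12)<|c)<|a c<|a c<|c))<|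
 d (b 1980<|b 29<|b (a 11<|c) (a (a (b 1 21)<|c)<|a c<|a c<|a c<|a c<|a c<|a c<|a c<|a c<|c))<|
 d (b 2000<|b 29<|b c (a (a (b 568 0)<|a (b 3 1)<|a (b 630 2)<|a (b 291 3)<|a (b 1529 4)<|a (b 1541 5)<|a (b 322 6)<|a (b 1995 7)<|c)<|a c<|a c<|a c<|a c<|
 a c<|a c<|a c<|c))<|
 d (b 2016<|b 29<|b (a 7<|c) (a (a (b 1 21)<|c)<|a c<|a c<|a c<|a c<|a c<|a c<|c))<|
 d (b 2100<|b 28<|b (a 7<|c) (a (a (b 1 21)<|c)<|a c<|a c<|a c<|a c<|a c<|a c<|a c<|a c<|c))<|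
 d (b 2112<|b 28<|b (a 11<|c) (a (a (b 1 21)<|c)<|a c<|a c<|a c<|a c<|a c<|a c<|c))<|c);
 (d (b 1760<|b 30<|b (a 11<|c) (a (a (b 1 21)<|c)<|a c<|a c<|a c<|a c<|a c<|a c<|a c<|c))<|
 d (b 1792<|b 30<|b (a 7<|c) (a (a (b 1 21)<|c)<|a c<|a c<|a c<|a c<|a c<|c))<|
 d (b 1800<|b 30<|b (a 1800<|c) (a c<|a (a (b 586 0)<|a (b 595 1)<|a (b 582 2)<|a (b 1400 3)<|a (b 1592 4)<|a (b 1286 5)<|a (b 1090 6)<|a (b 1170 7)<|a (b 35
 9)<|a (b 1799 10)<|c)<|a (a (b 1035 0)<|a (b 84 1)<|a (b 1090 2)<|a (b 1537 3)<|a (b 87 4)<|a (b 659 5)<|a (b 75 6)<|a (b 348 7)<|c)<|a (a (b 1500 0)<|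
 a (b 1147 1)<|a (b 1255 2)<|a (b 485 3)<|a (b 156 4)<|a (b 687 5)<|a (b 638 6)<|a (b 443 7)<|a (b 6 10)<|a (b 1798 11)<|c)<|a (a (b 1096 0)<|a (b 739
 1)<|a (b 1037 2)<|a (b 969 3)<|a (b 274 4)<|a (b 694 5)<|a (b 1799 6)<|c)<|a (a (b 701 0)<|a (b 475 1)<|a (b 388 2)<|a (b 887 3)<|a (b 1713 4)<|c)<|
 a (a (b 1720 0)<|a (b 1155 1)<|a (b 1155 2)<|a (b 765 3)<|a (b 1797 10)<|a (b 1 11)<|c)<|a (a (b 1 14)<|c)<|a (a (b 1 21)<|c)<|c))<|
 d (b 1848<|b 29<|b (a 7<|c) (a (a (b 1 21)<|c)<|a c<|a c<|a c<|a c<|a c<|a c<|c))<|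
 d (b 1920<|b 29<|b (a 1920<|c) (a c<|a (a (b 823 0)<|a (b 296 1)<|a (b 747 2)<|a (b 752 3)<|a (b 418 4)<|a (b 710 5)<|a (b 291 6)<|a (b 1716 7)<|a (b 19
 8)<|c)<|a (a (b 963 0)<|a (b 1761 1)<|a (b 1321 2)<|a (b 1569 3)<|a (b 215 4)<|a (b 1004 5)<|a (b 1521 6)<|a (b 1915 7)<|c)<|a (a (b 1107 0)<|a (b 1234
 1)<|a (b 790 2)<|a (b 1570 3)<|a (b 1061 4)<|a (b 1527 5)<|a (b 971 6)<|a (b 6 10)<|a (b 1918 11)<|c)<|a (a (b 1563 0)<|a (b 1332 1)<|a (b 1890 2)<|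
 a (b 1781 3)<|a (b 1131 4)<|a (b 187 5)<|a (b 1919 6)<|c)<|a (a (b 550 0)<|a (b 735 1)<|a (b 735 2)<|a (b 975 3)<|a (b 15 10)<|a (b 1915 11)<|
 a (b 1537 14)<|a (b 1 17)<|c)<|a (a (b 1810 0)<|a (b 1005 1)<|a (b 1005 2)<|a (b 1725 3)<|a (b 1917 10)<|a (b 1 11)<|c)<|a (a (b 1 14)<|c)<|a (a (b 1 21)<|c)<|c))<|
 f));
 (let f:=(d (b 1575<|b 31<|b (a 7<|c) (a (a (b 1 21)<|c)<|a c<|a c<|a c<|c))<|
 d (b 1584<|b 31<|b (a 11<|c) (a (a (b 1 21)<|c)<|a c<|a c<|a c<|a c<|a c<|a c<|c))<|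
 d (b 1600<|b 31<|b (a 1600<|c) (a c<|a (a (b 607 0)<|a (b 580 1)<|a (b 219 2)<|a (b 1286 3)<|a (b 868 4)<|a (b 378 5)<|a (b 1555 6)<|a (b 122 7)<|a (b 245
 8)<|a (b 1598 10)<|c)<|a (a (b 550 0)<|a (b 721 1)<|a (b 550 2)<|a (b 1469 3)<|a (b 1077 4)<|a (b 1227 5)<|a (b 1590 6)<|a (b 1599 7)<|c)<|a (a (b 915
 0)<|a (b 1421 1)<|a (b 707 2)<|a (b 858 3)<|a (b 1223 4)<|a (b 17 5)<|c)<|a (a (b 469 0)<|a (b 400 1)<|a (b 400 2)<|a (b 720 3)<|a (b 1440 4)<|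
 a (b 1440 5)<|a (b 1553 10)<|a (b 16 11)<|a (b 1 13)<|c)<|a (a (b 1430 0)<|a (b 1325 1)<|a (b 1325 2)<|a (b 1445 3)<|a (b 90 4)<|a (b 90 5)<|a (b 1597
 10)<|a (b 1 11)<|c)<|a (a (b 1 14)<|c)<|a (a (b 1 21)<|c)<|c))<|
 d (b 1650<|b 30<|b (a 11<|c) (a (a (b 1 21)<|c)<|a c<|a c<|a c<|a c<|a c<|c))<|
 d (b 1680<|b 30<|b (a 7<|c) (a (a (b 1 21)<|c)<|a c<|a c<|a c<|a c<|a c<|a c<|a c<|a c<|c))<|
 d (b 1750<|b 30<|b (a 7<|c) (a (a (b 1 21)<|c)<|a c<|a c<|a c<|a c<|c))<|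
 f);
 (d (b 1408<|b 32<|b (a 11<|c) (a (a (b 1 21)<|c)<|a c<|a c<|a c<|a c<|a c<|c))<|
 d (b 1440<|b 32<|b (a 1440<|c) (a c<|a (a (b 1153 0)<|a (b 1334 1)<|a (b 702 2)<|a (b 1322 3)<|a (b 31 4)<|a (b 383 5)<|a (b 378 6)<|a (b 987 7)<|a (b 7
 8)<|c)<|a (a (b 702 0)<|a (b 1434 1)<|a (b 1363 2)<|a (b 946 3)<|a (b 429 4)<|a (b 485 5)<|a (b 435 6)<|a (b 1419 7)<|c)<|a (a (b 27 0)<|a (b 1342 1)<|
 a (b 334 2)<|a (b 274 3)<|a (b 449 4)<|a (b 159 5)<|a (b 647 6)<|a (b 6 10)<|a (b 1438 11)<|c)<|a (a (b 669 0)<|a (b 1398 1)<|a (b 254 2)<|a (b 331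
 3)<|a (b 915 4)<|a (b 41 5)<|a (b 1439 6)<|c)<|a (a (b 1410 0)<|a (b 900 1)<|a (b 900 2)<|a (b 630 3)<|a (b 1422 10)<|a (b 6 11)<|a (b 1439 12)<|c)<|
 a (a (b 715 0)<|a (b 630 1)<|a (b 630 2)<|a (b 1065 3)<|a (b 1437 10)<|a (b 1 11)<|c)<|a (a (b 1 14)<|c)<|a (a (b 1 21)<|c)<|c))<|
 d (b 1500<|b 31<|b c (a (a (b 959 0)<|a (b 28 1)<|a (b 855 2)<|a (b 1235 3)<|a (b 984 4)<|a (b 109 5)<|a (b 192 6)<|a (b 467 7)<|a (b 1499 8)<|c)<|a c<|
 a c<|a c<|a c<|a c<|a c<|a c<|a c<|c))<|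
 d (b 1536<|b 31<|b c (a (a (b 849 0)<|a (b 1411 1)<|a (b 542 2)<|a (b 635 3)<|a (b 284 4)<|a (b 731 5)<|a (b 8 6)<|c)<|a c<|a c<|a c<|a c<|a c<|a c<|c))<|
 d (b 1540<|b 31<|b (a 7<|c) (a (a (b 1 21)<|c)<|a c<|a c<|a c<|a c<|a c<|a c<|a c<|c))<|
 f)));
 (let f:=(let f:=(d (b 1280<|b 33<|b (a 1280<|c) (a c<|a (a (b 1215 0)<|a (b 1070 1)<|a (b 760 2)<|a (b 1255 3)<|a (b 660 4)<|a (b 1190 5)<|a (b 780 6)<|a (b 1220 7)<|
 a (b 1265 10)<|a (b 5 11)<|a (b 255 14)<|a (b 1279 17)<|c)<|a (a (b 827 0)<|a (b 833 1)<|a (b 245 2)<|a (b 913 3)<|a (b 483 4)<|a (b 1096 5)<|a (b 13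
 6)<|a (b 1279 7)<|c)<|a (a (b 905 0)<|a (b 715 1)<|a (b 907 2)<|a (b 576 3)<|a (b 139 4)<|a (b 1227 5)<|c)<|a (a (b 623 0)<|a (b 1099 1)<|a (b 133 2)<|
 a (b 282 3)<|a (b 58 4)<|c)<|a (a (b 130 0)<|a (b 605 1)<|a (b 605 2)<|a (b 125 3)<|a (b 1277 10)<|a (b 1 11)<|c)<|a (a (b 1 14)<|c)<|a (a (b 1 21)<|c)<|c))<|
 d (b 1320<|b 33<|b (a 11<|c) (a (a (b 1 21)<|c)<|a c<|a c<|a c<|a c<|a c<|a c<|a c<|a c<|c))<|
 d (b 1344<|b 33<|b (a 7<|c) (a (a (b 1 21)<|c)<|a c<|a c<|a c<|a c<|a c<|a c<|c))<|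
 d (b 1375<|b 32<|b c (a (a (b 1 12)<|c)<|a c<|a c<|c))<|
 d (b 1386<|b 32<|b (a 7<|c) (a (a (b 1 21)<|c)<|a c<|a c<|a c<|c))<|
 d (b 1400<|b 32<|b (a 7<|c) (a (a (b 1 21)<|c)<|a c<|a c<|a c<|a c<|a c<|a c<|a c<|c))<|
 f);
 (d (b 1152<|b 34<|b (a 1152<|c) (a c<|a (a (b 35 0)<|a (b 48 1)<|a (b 983 2)<|a (b 696 3)<|a (b 72 4)<|a (b 1091 5)<|a (b 1 6)<|c)<|a (a (b 135 0)<|a (b 1032 1)<|
 a (b 955 2)<|a (b 1012 3)<|a (b 387 4)<|a (b 1139 5)<|c)<|a (a (b 3 0)<|a (b 1150 1)<|a (b 1 8)<|c)<|a (a (b 2 0)<|a (b 1151 1)<|c)<|a (a (b 6 8)<|a (b 1151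
 12)<|c)<|a (a (b 1 21)<|c)<|c))<|
 d (b 1155<|b 34<|b (a 7<|c) (a (a (b 1 21)<|c)<|a c<|a c<|a c<|c))<|
 d (b 1200<|b 34<|b (a 1200<|c) (a c<|a (a (b 82 0)<|a (b 480 1)<|a (b 39 2)<|a (b 930 3)<|a (b 709 4)<|a (b 177 5)<|a (b 815 6)<|a (b 995 7)<|a (b 1198
 10)<|c)<|a (a (b 207 0)<|a (b 615 1)<|a (b 200 2)<|a (b 69 3)<|a (b 514 4)<|a (b 403 5)<|a (b 1038 6)<|a (b 38 7)<|c)<|a (a (b 630 0)<|a (b 223 1)<|
 a (b 1000 2)<|a (b 983 3)<|a (b 639 4)<|a (b 708 5)<|a (b 413 6)<|a (b 260 7)<|a (b 6 10)<|a (b 1198 11)<|c)<|a (a (b 426 0)<|a (b 351 1)<|a (b 402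
 2)<|a (b 8 3)<|a (b 417 4)<|a (b 364 5)<|a (b 1199 6)<|c)<|a (a (b 869 0)<|a (b 960 1)<|a (b 960 2)<|a (b 720 3)<|a (b 1153 10)<|a (b 16 11)<|a (b 1
 13)<|c)<|a (a (b 655 0)<|a (b 810 1)<|a (b 810 2)<|a (b 945 3)<|a (b 1197 10)<|a (b 1 11)<|c)<|a (a (b 1 14)<|c)<|a (a (b 1 21)<|c)<|c))<|
 d (b 1232<|b 34<|b (a 7<|c) (a (a (b 1 21)<|c)<|a c<|a c<|a c<|a c<|a c<|c))<|
 d (b 1260<|b 33<|b (a 7<|c) (a (a (b 1 21)<|c)<|a c<|a c<|a c<|a c<|a c<|a c<|a c<|a c<|c))<|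
 f));
 (let f:=(d (b 1008<|b 36<|b (a 7<|c) (a (a (b 1 21)<|c)<|a c<|a c<|a c<|a c<|a c<|a c<|c))<|
 d (b 1050<|b 35<|b (a 7<|c) (a (a (b 1 21)<|c)<|a c<|a c<|a c<|a c<|a c<|c))<|
 d (b 1056<|b 35<|b (a 11<|c) (a (a (b 1 21)<|c)<|a c<|a c<|a c<|a c<|a c<|a c<|c))<|
 d (b 1100<|b 35<|b (a 11<|c) (a (a (b 1 21)<|c)<|a c<|a c<|a c<|a c<|a c<|a c<|a c<|c))<|
 d (b 1120<|b 35<|b (a 7<|c) (a (a (b 1 21)<|c)<|a c<|a c<|a c<|a c<|a c<|a c<|a c<|c))<|
 d (b 1125<|b 35<|b c (a (a (b 487 0)<|a (b 1122 1)<|a (b 672 2)<|a (b 665 3)<|c)<|a c<|a c<|a c<|c))<|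
 f);
 (d (b 900<|b 37<|b (a 2<|a 900<|c) (a c<|a (a (b 755 0)<|a (b 765 1)<|a (b 726 2)<|a (b 368 3)<|a (b 196 4)<|a (b 426 5)<|a (b 745 6)<|a (b 239 7)<|a (b 408
 9)<|a (b 2 10)<|c)<|a (a (b 120 0)<|a (b 12 1)<|a (b 860 2)<|a (b 496 3)<|a (b 236 4)<|a (b 712 5)<|a (b 420 6)<|a (b 664 7)<|a (b 1 21)<|c)<|a (a (b 9 0)<|
 a (b 805 1)<|a (b 800 2)<|a (b 752 3)<|a (b 353 4)<|a (b 686 5)<|a (b 524 6)<|a (b 6 10)<|a (b 898 11)<|c)<|a (a (b 79 0)<|a (b 70 1)<|a (b 621 2)<|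
 a (b 168 3)<|a (b 733 4)<|a (b 4 5)<|a (b 1 6)<|c)<|a (a (b 1 0)<|a (b 279 1)<|a (b 428 2)<|a (b 445 3)<|a (b 869 4)<|c)<|a (a (b 790 0)<|a (b 465 1)<|
 a (b 465 2)<|a (b 825 3)<|a (b 897 10)<|a (b 1 11)<|c)<|a (a (b 1 14)<|c)<|a (a (b 1 22)<|c)<|c))<|
 d (b 924<|b 37<|b (a 7<|c) (a (a (b 1 21)<|c)<|a c<|a c<|a c<|a c<|a c<|a c<|c))<|
 d (b 960<|b 36<|b (a 960<|c) (a c<|a (a (b 144 0)<|a (b 645 1)<|a (b 477 2)<|a (b 397 3)<|a (b 286 4)<|a (b 933 5)<|a (b 597 6)<|a (b 818 7)<|a (b 957 8)<|c)<|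
 a (a (b 510 0)<|a (b 18 1)<|a (b 451 2)<|a (b 794 3)<|a (b 445 4)<|a (b 389 5)<|a (b 579 6)<|a (b 947 7)<|c)<|a (a (b 729 0)<|a (b 676 1)<|a (b 618 2)<|
 a (b 660 3)<|a (b 689 4)<|a (b 745 5)<|a (b 191 6)<|a (b 6 10)<|a (b 958 11)<|c)<|a (a (b 555 0)<|a (b 180 1)<|a (b 138 2)<|a (b 653 3)<|a (b 723 4)<|
 a (b 955 5)<|a (b 959 6)<|c)<|a (a (b 149 0)<|a (b 720 1)<|a (b 720 2)<|a (b 720 3)<|a (b 913 10)<|a (b 16 11)<|a (b 1 13)<|c)<|a (a (b 70 0)<|a (b 225 1)<|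
 a (b 225 2)<|a (b 45 3)<|a (b 957 10)<|a (b 1 11)<|c)<|a (a (b 1 14)<|c)<|a (a (b 1 21)<|c)<|c))<|
 d (b 990<|b 36<|b (a 11<|c) (a (a (b 1 21)<|c)<|a c<|a c<|a c<|a c<|a c<|c))<|
 d (b 1000<|b 36<|b c (a (a (b 664 0)<|a (b 794 1)<|a (b 865 2)<|a (b 68 3)<|a (b 167 4)<|a (b 943 5)<|a (b 431 6)<|a (b 985 7)<|c)<|a c<|a c<|a c<|a c<|
 a c<|a c<|a c<|c))<|
 f))));
 (let f:=(let f:=(let f:=(d (b 800<|b 39<|b (a 800<|c) (a c<|a (a (b 536 0)<|a (b 285 1)<|a (b 684 2)<|a (b 195 3)<|a (b 165 4)<|a (b 117 5)<|a (b 491 7)<|a (b 791 9)<|a (b 798 10)<|c)<|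
 a (a (b 540 0)<|a (b 261 1)<|a (b 480 2)<|a (b 521 3)<|a (b 525 4)<|a (b 469 5)<|a (b 3 7)<|c)<|a (a (b 755 0)<|a (b 469 1)<|a (b 47 2)<|a (b 374 3)<|
 a (b 195 4)<|a (b 777 5)<|c)<|a (a (b 69 0)<|a (b 160 1)<|a (b 160 2)<|a (b 720 3)<|a (b 753 10)<|a (b 16 11)<|a (b 1 13)<|c)<|a (a (b 305 0)<|a (b 60 1)<|
 a (b 60 2)<|a (b 145 3)<|a (b 797 10)<|a (b 1 11)<|c)<|a (a (b 1 14)<|c)<|a (a (b 1 21)<|c)<|c))<|
 d (b 825<|b 38<|b (a 11<|c) (a (a (b 1 21)<|c)<|a c<|a c<|a c<|c))<|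
 d (b 840<|b 38<|b (a 7<|c) (a (a (b 1 21)<|c)<|a c<|a c<|a c<|a c<|a c<|a c<|a c<|a c<|c))<|
 d (b 875<|b 38<|b c (a (a (b 1 16)<|c)<|a c<|a c<|c))<|
 d (b 880<|b 37<|b (a 11<|c) (a (a (b 1 21)<|c)<|a c<|a c<|a c<|a c<|a c<|a c<|a c<|c))<|
 d (b 896<|b 37<|b (a 7<|c) (a (a (b 1 21)<|c)<|a c<|a c<|a c<|a c<|a c<|c))<|
 f);
 (d (b 720<|b 40<|b (a 720<|c) (a c<|a (a (b 12 0)<|a (b 159 1)<|a (b 387 2)<|a (b 151 3)<|a (b 148 4)<|a (b 319 5)<|a (b 423 6)<|a (b 116 7)<|a (b 709 8)<|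
 a (b 719 9)<|c)<|a (a (b 177 0)<|a (b 657 1)<|a (b 416 2)<|a (b 675 3)<|a (b 46 4)<|a (b 301 5)<|a (b 42 6)<|a (b 218 7)<|c)<|a (a (b 54 0)<|a (b 133 1)<|
 a (b 129 2)<|a (b 291 3)<|a (b 356 4)<|a (b 613 5)<|a (b 500 6)<|a (b 405 7)<|a (b 6 10)<|a (b 718 11)<|c)<|a (a (b 358 0)<|a (b 487 1)<|a (b 500 2)<|
 a (b 126 3)<|a (b 211 4)<|a (b 52 5)<|a (b 719 6)<|c)<|a (a (b 3 0)<|a (b 461 1)<|a (b 288 2)<|a (b 561 3)<|a (b 691 4)<|c)<|a (a (b 100 0)<|a (b 255 1)<|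
 a (b 255 2)<|a (b 405 3)<|a (b 717 10)<|a (b 1 11)<|c)<|a (a (b 1 14)<|c)<|a (a (b 1 21)<|c)<|c))<|
 d (b 750<|b 39<|b c (a (a (b 157 0)<|a (b 687 1)<|a (b 372 2)<|a (b 245 3)<|a (b 390 4)<|a (b 405 5)<|c)<|a c<|a c<|a c<|a c<|a c<|c))<|
 d (b 768<|b 39<|b (a 768<|c) (a c<|a (a (b 340 0)<|a (b 196 1)<|a (b 84 2)<|a (b 332 3)<|a (b 748 4)<|a (b 88 5)<|a (b 764 8)<|a (b 1 11)<|c)<|a (a (b 472 0)<|
 a (b 623 1)<|a (b 21 2)<|a (b 659 3)<|a (b 379 4)<|a (b 22 5)<|c)<|a (a (b 3 0)<|a (b 766 1)<|a (b 1 8)<|c)<|a (a (b 2 0)<|a (b 767 1)<|c)<|a (a (b 6 8)<|a (b 767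
 12)<|c)<|a (a (b 1 21)<|c)<|c))<|
 d (b 770<|b 39<|b (a 7<|c) (a (a (b 1 21)<|c)<|a c<|a c<|a c<|a c<|c))<|
 d (b 792<|b 39<|b (a 11<|c) (a (a (b 1 21)<|c)<|a c<|a c<|a c<|a c<|a c<|a c<|c))<|
 f));
 (let f:=(d (b 640<|b 42<|b (a 640<|c) (a c<|a (a (b 275 0)<|a (b 164 1)<|a (b 577 2)<|a (b 272 3)<|a (b 334 4)<|a (b 311 5)<|a (b 633 6)<|a (b 20 7)<|c)<|a (a (b 192 0)<|
 a (b 349 1)<|a (b 368 2)<|a (b 561 3)<|a (b 49 4)<|a (b 285 5)<|a (b 639 7)<|c)<|a (a (b 554 0)<|a (b 336 1)<|a (b 523 2)<|a (b 45 3)<|a (b 293 4)<|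
 a (b 618 5)<|c)<|a (a (b 69 0)<|a (b 400 3)<|a (b 593 10)<|a (b 16 11)<|a (b 1 13)<|c)<|a (a (b 285 0)<|a (b 200 1)<|a (b 200 2)<|a (b 145 3)<|a (b 637
 10)<|a (b 1 11)<|c)<|a (a (b 1 14)<|c)<|a (a (b 1 21)<|c)<|c))<|
 d (b 660<|b 41<|b (a 11<|c) (a (a (b 1 21)<|c)<|a c<|a c<|a c<|a c<|a c<|a c<|a c<|a c<|c))<|
 d (b 672<|b 41<|b (a 7<|c) (a (a (b 1 21)<|c)<|a c<|a c<|a c<|a c<|a c<|a c<|c))<|
 d (b 693<|b 41<|b c (a (a (b 1 15)<|c)<|a c<|c))<|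
 d (b 700<|b 40<|b (a 7<|c) (a (a (b 1 21)<|c)<|a c<|a c<|a c<|a c<|a c<|a c<|a c<|c))<|
 d (b 704<|b 40<|b (a 11<|c) (a (a (b 1 21)<|c)<|a c<|a c<|a c<|a c<|a c<|c))<|
 f);
 (d (b 560<|b 43<|b (a 7<|c) (a (a (b 1 21)<|c)<|a c<|a c<|a c<|a c<|a c<|a c<|a c<|c))<|
 d (b 576<|b 43<|b (a 576<|c) (a c<|a (a (b 167 0)<|a (b 322 1)<|a (b 73 2)<|a (b 506 3)<|a (b 218 4)<|a (b 523 5)<|a (b 573 6)<|c)<|a (a (b 128 0)<|a (b 517 1)<|
 a (b 503 2)<|a (b 537 3)<|a (b 569 4)<|a (b 570 5)<|c)<|a (a (b 3 0)<|a (b 574 1)<|a (b 1 8)<|c)<|a (a (b 2 0)<|a (b 575 1)<|c)<|a (a (b 6 8)<|a (b 575 12)<|c)<|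
 a (a (b 1 21)<|c)<|c))<|
 d (b 600<|b 42<|b (a 600<|c) (a c<|a (a (b 70 0)<|a (b 583 1)<|a (b 295 2)<|a (b 63 3)<|a (b 64 4)<|a (b 465 5)<|a (b 248 6)<|a (b 577 7)<|a (b 484 10)<|
 a (b 43 11)<|a (b 543 12)<|a (b 13 13)<|a (b 119 14)<|a (b 599 17)<|c)<|a (a (b 90 0)<|a (b 519 1)<|a (b 505 2)<|a (b 52 3)<|a (b 42 4)<|a (b 479 5)<|
 a (b 30 6)<|a (b 3 7)<|c)<|a (a (b 75 0)<|a (b 358 1)<|a (b 235 2)<|a (b 378 3)<|a (b 244 4)<|a (b 408 5)<|a (b 308 6)<|a (b 145 7)<|a (b 6 10)<|a (b 598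
 11)<|c)<|a (a (b 61 0)<|a (b 210 1)<|a (b 210 2)<|a (b 570 3)<|a (b 119 5)<|a (b 599 7)<|a (b 18 10)<|a (b 594 11)<|a (b 1 12)<|c)<|a (a (b 269 0)<|
 a (b 360 1)<|a (b 360 2)<|a (b 120 3)<|a (b 553 10)<|a (b 16 11)<|a (b 1 13)<|c)<|a (a (b 130 0)<|a (b 285 1)<|a (b 285 2)<|a (b 45 3)<|a (b 597 10)<|
 a (b 1 11)<|c)<|a (a (b 1 14)<|c)<|a (a (b 1 21)<|c)<|c))<|
 d (b 616<|b 42<|b (a 7<|c) (a (a (b 1 21)<|c)<|a c<|a c<|a c<|a c<|a c<|c))<|
 d (b 630<|b 42<|b (a 7<|c) (a (a (b 1 21)<|c)<|a c<|a c<|a c<|a c<|a c<|c))<|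
 f)));
 (let f:=(let f:=(d (b 500<|b 45<|b c (a (a (b 208 0)<|a (b 443 1)<|a (b 280 2)<|a (b 171 3)<|a (b 124 4)<|a (b 46 5)<|a (b 132 6)<|a (b 495 7)<|c)<|a c<|a c<|a c<|a c<|
 a c<|a c<|a c<|c))<|
 d (b 504<|b 45<|b (a 7<|c) (a (a (b 1 21)<|c)<|a c<|a c<|a c<|a c<|a c<|a c<|c))<|
 d (b 512<|b 45<|b c (a (a (b 67 0)<|a (b 1 1)<|a (b 206 2)<|a (b 33 3)<|a (b 272 4)<|a (b 1 5)<|c)<|a c<|a c<|a c<|a c<|a c<|c))<|
 d (b 525<|b 44<|b (a 7<|c) (a (a (b 1 21)<|c)<|a c<|a c<|a c<|c))<|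
 d (b 528<|b 44<|b (a 11<|c) (a (a (b 1 21)<|c)<|a c<|a c<|a c<|a c<|a c<|a c<|c))<|
 d (b 550<|b 44<|b (a 11<|c) (a (a (b 1 21)<|c)<|a c<|a c<|a c<|a c<|c))<|
 f);
 (d (b 448<|b 47<|b (a 7<|c) (a (a (b 1 21)<|c)<|a c<|a c<|a c<|a c<|a c<|c))<|
 d (b 450<|b 47<|b (a 450<|c) (a c<|a (a (b 159 0)<|a (b 253 1)<|a (b 216 2)<|a (b 267 3)<|a (b 383 4)<|a (b 150 5)<|c)<|a (a (b 325 0)<|a (b 243 1)<|a (b 252 2)<|
 a (b 402 3)<|a (b 397 4)<|a (b 377 5)<|a (b 169 7)<|a (b 3 10)<|a (b 449 11)<|c)<|a (a (b 79 0)<|a (b 1 1)<|a (b 361 2)<|a (b 363 3)<|c)<|a (a (b 1 14)<|c)<|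
 a (a (b 1 21)<|c)<|c))<|
 d (b 462<|b 46<|b (a 7<|c) (a (a (b 1 21)<|c)<|a c<|a c<|a c<|c))<|
 d (b 480<|b 46<|b (a 480<|c) (a c<|a (a (b 88 0)<|a (b 233 1)<|a (b 297 2)<|a (b 377 3)<|a (b 70 4)<|a (b 377 5)<|a (b 9 6)<|a (b 450 7)<|a (b 1 8)<|c)<|a (a (b 375
 0)<|a (b 309 1)<|a (b 19 2)<|a (b 277 3)<|a (b 21 4)<|a (b 458 5)<|a (b 411 6)<|a (b 477 7)<|c)<|a (a (b 156 0)<|a (b 109 1)<|a (b 244 2)<|a (b 13 3)<|
 a (b 23 4)<|a (b 162 5)<|a (b 473 6)<|a (b 6 10)<|a (b 478 11)<|c)<|a (a (b 152 0)<|a (b 293 1)<|a (b 146 2)<|a (b 350 3)<|a (b 125 4)<|a (b 78 5)<|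
 a (b 479 6)<|c)<|a (a (b 389 0)<|a (b 240 3)<|a (b 433 10)<|a (b 16 11)<|a (b 1 13)<|c)<|a (a (b 175 0)<|a (b 90 1)<|a (b 90 2)<|a (b 345 3)<|a (b 477 10)<|
 a (b 1 11)<|c)<|a (a (b 1 14)<|c)<|a (a (b 1 21)<|c)<|c))<|
 d (b 495<|b 45<|b (a 11<|c) (a (a (b 1 21)<|c)<|a c<|a c<|a c<|c))<|
 f));
 (let f:=(d (b 384<|b 49<|b (a 384<|c) (a c<|a (a (b 100 0)<|a (b 196 1)<|a (b 228 2)<|a (b 332 3)<|a (b 124 4)<|a (b 40 5)<|a (b 380 8)<|a (b 1 11)<|c)<|a (a (b 28 0)<|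
 a (b 239 1)<|a (b 57 2)<|a (b 83 3)<|a (b 127 4)<|a (b 10 5)<|c)<|a (a (b 3 0)<|a (b 382 1)<|a (b 1 8)<|c)<|a (a (b 2 0)<|a (b 383 1)<|c)<|a (a (b 6 8)<|a (b 383
 12)<|c)<|a (a (b 1 21)<|c)<|c))<|
 d (b 385<|b 49<|b c (a (a (b 1 12)<|c)<|a c<|a c<|c))<|
 d (b 396<|b 49<|b (a 11<|c) (a (a (b 1 21)<|c)<|a c<|a c<|a c<|a c<|a c<|a c<|c))<|
 d (b 400<|b 49<|b (a 400<|c) (a c<|a (a (b 11 0)<|a (b 54 1)<|a (b 74 2)<|a (b 103 3)<|a (b 126 4)<|a (b 382 5)<|a (b 46 6)<|a (b 377 8)<|a (b 398 9)<|a (b 3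
 10)<|c)<|a (a (b 224 0)<|a (b 356 1)<|a (b 120 2)<|a (b 10 3)<|a (b 242 4)<|a (b 163 5)<|a (b 2 6)<|a (b 399 8)<|c)<|a (a (b 320 0)<|a (b 158 1)<|a (b 147
 2)<|a (b 147 3)<|a (b 241 4)<|a (b 12 5)<|c)<|a (a (b 251 0)<|a (b 69 1)<|a (b 128 2)<|a (b 25 3)<|a (b 379 4)<|c)<|a (a (b 225 0)<|a (b 220 1)<|a (b 220
 2)<|a (b 105 3)<|a (b 397 10)<|a (b 1 11)<|c)<|a (a (b 1 14)<|c)<|a (a (b 1 21)<|c)<|c))<|
 d (b 420<|b 48<|b (a 7<|c) (a (a (b 1 21)<|c)<|a c<|a c<|a c<|a c<|a c<|a c<|a c<|a c<|c))<|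
 d (b 440<|b 47<|b (a 11<|c) (a (a (b 1 21)<|c)<|a c<|a c<|a c<|a c<|a c<|a c<|a c<|c))<|
 f);
 (d (b 336<|b 51<|b (a 7<|c) (a (a (b 1 21)<|c)<|a c<|a c<|a c<|a c<|a c<|a c<|c))<|
 d (b 350<|b 51<|b (a 7<|c) (a (a (b 1 21)<|c)<|a c<|a c<|a c<|a c<|c))<|
 d (b 352<|b 51<|b (a 11<|c) (a (a (b 1 21)<|c)<|a c<|a c<|a c<|a c<|a c<|c))<|
 d (b 360<|b 50<|b (a 360<|c) (a c<|a (a (b 205 0)<|a (b 60 1)<|a (b 210 2)<|a (b 247 3)<|a (b 302 4)<|a (b 315 5)<|a (b 242 6)<|a (b 256 7)<|a (b 1 10)<|c)<|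
 a (a (b 129 0)<|a (b 342 1)<|a (b 37 2)<|a (b 9 3)<|a (b 176 4)<|a (b 110 5)<|a (b 264 6)<|a (b 37 7)<|c)<|a (a (b 24 0)<|a (b 328 1)<|a (b 322 2)<|a (b 11
 3)<|a (b 264 4)<|a (b 306 5)<|a (b 242 6)<|a (b 128 7)<|a (b 6 10)<|a (b 358 11)<|c)<|a (a (b 120 0)<|a (b 180 3)<|a (b 158 10)<|a (b 84 11)<|a (b 50
 13)<|a (b 70 14)<|a (b 1 19)<|c)<|a (a (b 29 0)<|a (b 240 1)<|a (b 240 2)<|a (b 240 3)<|a (b 313 10)<|a (b 16 11)<|a (b 1 13)<|c)<|a (a (b 295 0)<|a (b 330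
 1)<|a (b 330 2)<|a (b 285 3)<|a (b 357 10)<|a (b 1 11)<|c)<|a (a (b 1 14)<|c)<|a (a (b 1 21)<|c)<|c))<|
 d (b 375<|b 50<|b c (a (a (b 187 0)<|a (b 372 1)<|a (b 222 2)<|a (b 215 3)<|c)<|a c<|a c<|a c<|c))<|
 f)))));
 (let f:=(let f:=(let f:=(let f:=(d (b 288<|b 54<|b (a 288<|c) (a c<|a (a (b 132 0)<|a (b 56 1)<|a (b 232 2)<|a (b 232 3)<|a (b 278 4)<|a (b 14 6)<|a (b 4 8)<|a (b 1 17)<|c)<|a (a (b 132 0)<|
 a (b 272 1)<|a (b 284 2)<|a (b 284 3)<|a (b 61 4)<|a (b 1 6)<|c)<|a (a (b 3 0)<|a (b 286 1)<|a (b 1 8)<|c)<|a (a (b 2 0)<|a (b 287 1)<|c)<|a (a (b 6 8)<|a (b 287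
 12)<|c)<|a (a (b 1 21)<|c)<|c))<|
 d (b 300<|b 53<|b (a 2<|a 300<|c) (a c<|a (a (b 173 0)<|a (b 9 1)<|a (b 231 2)<|a (b 95 3)<|a (b 130 4)<|a (b 27 5)<|a (b 151 6)<|a (b 83 7)<|a (b 24 8)<|a (b 2
 10)<|c)<|a (a (b 155 0)<|a (b 250 1)<|a (b 260 2)<|a (b 31 3)<|a (b 24 4)<|a (b 215 5)<|a (b 27 6)<|a (b 50 7)<|a (b 263 8)<|a (b 1 21)<|c)<|a (a (b 114
 0)<|a (b 175 1)<|a (b 190 2)<|a (b 247 3)<|a (b 188 4)<|a (b 291 5)<|a (b 179 6)<|a (b 6 10)<|a (b 298 11)<|c)<|a (a (b 99 0)<|a (b 252 1)<|a (b 146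
 2)<|a (b 117 3)<|a (b 6 4)<|a (b 234 5)<|a (b 1 6)<|c)<|a (a (b 31 0)<|a (b 117 1)<|a (b 8 2)<|a (b 151 3)<|a (b 11 4)<|c)<|a (a (b 115 0)<|a (b 90 1)<|
 a (b 90 2)<|a (b 75 3)<|a (b 297 10)<|a (b 1 11)<|c)<|a (a (b 1 14)<|c)<|a (a (b 1 22)<|c)<|c))<|
 d (b 308<|b 53<|b (a 7<|c) (a (a (b 1 21)<|c)<|a c<|a c<|a c<|a c<|a c<|c))<|
 d (b 315<|b 53<|b (a 7<|c) (a (a (b 1 21)<|c)<|a c<|a c<|a c<|c))<|
 d (b 320<|b 52<|b (a 320<|c) (a c<|a (a (b 172 0)<|a (b 221 1)<|a (b 177 2)<|a (b 57 3)<|a (b 84 4)<|a (b 226 5)<|a (b 1 6)<|a (b 32 7)<|c)<|a (a (b 178 0)<|a (b 13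
 1)<|a (b 152 2)<|a (b 33 3)<|a (b 139 4)<|a (b 65 5)<|a (b 1 7)<|c)<|a (a (b 297 0)<|a (b 91 1)<|a (b 115 2)<|a (b 104 3)<|a (b 83 4)<|a (b 315 5)<|c)<|
 a (a (b 309 0)<|a (b 240 1)<|a (b 240 2)<|a (b 80 3)<|a (b 273 10)<|a (b 16 11)<|a (b 1 13)<|c)<|a (a (b 40 0)<|a (b 35 1)<|a (b 35 2)<|a (b 165 3)<|
 a (b 317 10)<|a (b 1 11)<|c)<|a (a (b 1 14)<|c)<|a (a (b 1 21)<|c)<|c))<|
 d (b 330<|b 52<|b (a 11<|c) (a (a (b 1 21)<|c)<|a c<|a c<|a c<|a c<|a c<|c))<|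
 f);
 (d (b 252<|b 57<|b (a 7<|c) (a (a (b 1 21)<|c)<|a c<|a c<|a c<|a c<|a c<|a c<|c))<|
 d (b 256<|b 56<|b (a 256<|c) (a c<|a (a (b 252 0)<|a (b 128 8)<|a (b 194 12)<|a (b 1 15)<|c)<|a (a (b 3 0)<|a (b 254 1)<|a (b 1 8)<|c)<|a (a (b 2 0)<|a (b 255 1)<|c)<|
 a (a (b 6 8)<|a (b 255 12)<|c)<|a (a (b 1 21)<|c)<|c))<|
 d (b 264<|b 56<|b (a 11<|c) (a (a (b 1 21)<|c)<|a c<|a c<|a c<|a c<|a c<|a c<|c))<|
 d (b 275<|b 55<|b c (a (a (b 1 12)<|c)<|a c<|a c<|c))<|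
 d (b 280<|b 55<|b (a 7<|c) (a (a (b 1 21)<|c)<|a c<|a c<|a c<|a c<|a c<|a c<|a c<|c))<|
 f));
 (let f:=(d (b 220<|b 59<|b (a 11<|c) (a (a (b 1 21)<|c)<|a c<|a c<|a c<|a c<|a c<|a c<|a c<|c))<|
 d (b 224<|b 59<|b (a 7<|c) (a (a (b 1 21)<|c)<|a c<|a c<|a c<|a c<|a c<|c))<|
 d (b 225<|b 59<|b (a 225<|c) (a c<|a (a (b 34 0)<|a (b 1 1)<|a (b 181 2)<|a (b 183 3)<|c)<|a (a (b 1 14)<|c)<|a (a (b 1 21)<|c)<|c))<|
 d (b 231<|b 58<|b c (a (a (b 1 15)<|c)<|a c<|c))<|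
 d (b 240<|b 57<|b (a 240<|c) (a c<|a (a (b 176 0)<|a (b 19 1)<|a (b 57 2)<|a (b 207 3)<|a (b 88 4)<|a (b 205 5)<|a (b 213 6)<|a (b 64 7)<|a (b 239 8)<|c)<|
 a (a (b 81 0)<|a (b 93 1)<|a (b 32 2)<|a (b 51 3)<|a (b 118 4)<|a (b 49 5)<|a (b 222 6)<|a (b 2 7)<|c)<|a (a (b 72 0)<|a (b 187 1)<|a (b 104 2)<|a (b 149
 3)<|a (b 149 4)<|a (b 134 5)<|a (b 167 6)<|a (b 6 10)<|a (b 238 11)<|c)<|a (a (b 42 0)<|a (b 195 1)<|a (b 76 2)<|a (b 114 3)<|a (b 183 4)<|a (b 108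
 5)<|a (b 239 6)<|c)<|a (a (b 149 0)<|a (b 193 10)<|a (b 16 11)<|a (b 1 13)<|c)<|a (a (b 55 0)<|a (b 30 1)<|a (b 30 2)<|a (b 105 3)<|a (b 90 4)<|a (b 90 5)<|
 a (b 237 10)<|a (b 1 11)<|c)<|a (a (b 1 14)<|c)<|a (a (b 1 21)<|c)<|c))<|
 d (b 250<|b 57<|b c (a (a (b 216 0)<|a (b 226 1)<|a (b 56 2)<|a (b 25 3)<|a (b 130 4)<|c)<|a c<|a c<|a c<|a c<|c))<|
 f);
 (d (b 180<|b 63<|b (a 2<|a 180<|c) (a c<|a (a (b 115 0)<|a (b 92 1)<|a (b 102 2)<|a (b 36 3)<|a (b 130 4)<|a (b 38 5)<|a (b 55 6)<|a (b 172 7)<|a (b 54 8)<|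
 a (b 155 9)<|a (b 132 10)<|a (b 76 11)<|a (b 179 12)<|c)<|a (a (b 48 0)<|a (b 84 1)<|a (b 122 2)<|a (b 118 3)<|a (b 20 4)<|a (b 118 5)<|a (b 60 6)<|
 a (b 52 7)<|a (b 1 21)<|c)<|a (a (b 67 0)<|a (b 150 1)<|a (b 18 2)<|a (b 92 3)<|a (b 108 4)<|a (b 6 5)<|a (b 41 6)<|a (b 172 8)<|a (b 6 10)<|a (b 178
 11)<|c)<|a (a (b 117 0)<|a (b 150 1)<|a (b 18 2)<|a (b 127 3)<|a (b 48 4)<|a (b 146 5)<|a (b 1 6)<|c)<|a (a (b 150 0)<|a (b 90 3)<|a (b 162 10)<|a (b 6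
 11)<|a (b 179 12)<|c)<|a (a (b 145 0)<|a (b 120 1)<|a (b 120 2)<|a (b 135 3)<|a (b 177 10)<|a (b 1 11)<|c)<|a (a (b 1 14)<|c)<|a (a (b 1 22)<|c)<|c))<|
 d (b 192<|b 62<|b (a 192<|c) (a c<|a (a (b 78 0)<|a (b 58 1)<|a (b 178 2)<|a (b 180 3)<|a (b 58 4)<|a (b 6 5)<|a (b 116 8)<|a (b 46 12)<|a (b 191 18)<|c)<|
 a (a (b 11 0)<|a (b 46 1)<|a (b 89 2)<|a (b 186 3)<|a (b 125 4)<|a (b 3 5)<|c)<|a (a (b 3 0)<|a (b 190 1)<|a (b 1 8)<|c)<|a (a (b 2 0)<|a (b 191 1)<|c)<|a (a (b 6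
 8)<|a (b 191 12)<|c)<|a (a (b 1 21)<|c)<|c))<|
 d (b 198<|b 61<|b (a 11<|c) (a (a (b 1 21)<|c)<|a c<|a c<|a c<|c))<|
 d (b 200<|b 61<|b (a 200<|c) (a c<|a (a (b 77 0)<|a (b 126 1)<|a (b 17 2)<|a (b 107 3)<|a (b 195 4)<|a (b 123 5)<|a (b 9 6)<|a (b 5 7)<|a (b 5 8)<|a (b 199
 10)<|c)<|a (a (b 157 0)<|a (b 24 1)<|a (b 115 2)<|a (b 84 3)<|a (b 55 4)<|a (b 4 5)<|a (b 15 10)<|a (b 195 11)<|a (b 161 14)<|a (b 1 17)<|c)<|a (a (b 150
 0)<|a (b 150 1)<|a (b 56 2)<|a (b 74 3)<|a (b 106 4)<|a (b 36 10)<|a (b 188 11)<|a (b 199 18)<|c)<|a (a (b 51 0)<|a (b 145 1)<|a (b 138 2)<|a (b 127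
 3)<|a (b 193 4)<|c)<|a (a (b 150 0)<|a (b 145 1)<|a (b 145 2)<|a (b 5 3)<|a (b 197 10)<|a (b 1 11)<|c)<|a (a (b 1 14)<|c)<|a (a (b 1 21)<|c)<|c))<|
 d (b 210<|b 60<|b (a 7<|c) (a (a (b 1 21)<|c)<|a c<|a c<|a c<|a c<|a c<|c))<|
 f)));
 (let f:=(let f:=(d (b 154<|b 67<|b (a 7<|c) (a (a (b 1 21)<|c)<|a c<|a c<|c))<|
 d (b 160<|b 66<|b (a 5<|a 160<|c) (a c<|a (a (b 14 0)<|a (b 142 1)<|a (b 24 2)<|a (b 106 3)<|a (b 126 4)<|a (b 140 5)<|a (b 156 6)<|a (b 64 10)<|a (b 32 11)<|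
 a (b 1 21)<|c)<|a (a (b 27 0)<|a (b 129 1)<|a (b 156 2)<|a (b 89 3)<|a (b 157 4)<|a (b 2 5)<|c)<|a (a (b 136 0)<|a (b 127 1)<|a (b 64 2)<|a (b 36 3)<|a (b 1
 4)<|a (b 130 5)<|a (b 1 6)<|c)<|a (a (b 140 0)<|a (b 135 1)<|a (b 135 2)<|a (b 85 3)<|a (b 157 10)<|a (b 1 11)<|c)<|a (a (b 1 14)<|c)<|a (a (b 1 22)<|c)<|c))<|
 d (b 165<|b 65<|b (a 11<|c) (a (a (b 1 21)<|c)<|a c<|a c<|a c<|c))<|
 d (b 168<|b 65<|b (a 7<|c) (a (a (b 1 21)<|c)<|a c<|a c<|a c<|a c<|a c<|c))<|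
 d (b 175<|b 64<|b c (a (a (b 1 16)<|c)<|a c<|a c<|c))<|
 d (b 176<|b 64<|b (a 11<|c) (a (a (b 1 21)<|c)<|a c<|a c<|a c<|a c<|a c<|c))<|
 f);
 (d (b 128<|b 71<|b (a 128<|c) (a c<|a (a (b 124 0)<|a (b 127 1)<|a (b 1 3)<|c)<|a (a (b 59 0)<|a (b 125 2)<|a (b 56 3)<|a (b 124 4)<|c)<|a (a (b 6 0)<|a (b 127 3)<|c)<|
 a (a (b 1 21)<|c)<|c))<|
 d (b 132<|b 70<|b (a 11<|c) (a (a (b 1 21)<|c)<|a c<|a c<|a c<|a c<|a c<|c))<|
 d (b 140<|b 69<|b (a 7<|c) (a (a (b 1 21)<|c)<|a c<|a c<|a c<|a c<|a c<|a c<|c))<|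
 d (b 144<|b 68<|b (a 144<|c) (a c<|a (a (b 57 0)<|a (b 5 1)<|a (b 132 2)<|a (b 27 3)<|a (b 25 4)<|c)<|a (a (b 51 0)<|a (b 126 1)<|a (b 26 3)<|a (b 27 4)<|a (b 5 8)<|
 a (b 143 14)<|c)<|a (a (b 139 0)<|a (b 126 1)<|a (b 50 3)<|a (b 115 4)<|c)<|a (a (b 6 0)<|a (b 143 3)<|c)<|a (a (b 1 21)<|c)<|c))<|
 d (b 150<|b 67<|b (a 150<|c) (a c<|a (a (b 132 0)<|a (b 136 1)<|a (b 99 2)<|a (b 57 3)<|a (b 68 4)<|a (b 75 5)<|c)<|a (a (b 80 0)<|a (b 93 1)<|a (b 105 2)<|a (b 39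
 3)<|a (b 20 4)<|a (b 68 5)<|a (b 3 10)<|a (b 149 11)<|c)<|a (a (b 19 0)<|a (b 1 1)<|a (b 121 2)<|a (b 123 3)<|c)<|a (a (b 1 14)<|c)<|a (a (b 1 21)<|c)<|c))<|
 f));
 (let f:=(d (b 105<|b 76<|b (a 7<|c) (a (a (b 1 21)<|c)<|a c<|a c<|a c<|c))<|
 d (b 110<|b 74<|b (a 11<|c) (a (a (b 1 21)<|c)<|a c<|a c<|a c<|a c<|c))<|
 d (b 112<|b 74<|b (a 7<|c) (a (a (b 1 21)<|c)<|a c<|a c<|a c<|a c<|c))<|
 d (b 120<|b 72<|b (a 30<|a 120<|c) (a c<|a (a (b 36 0)<|a (b 98 1)<|a (b 63 2)<|a (b 18 3)<|a (b 76 4)<|a (b 75 6)<|a (b 3 7)<|c)<|a (a (b 60 0)<|a (b 90 1)<|a (b 74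
 2)<|a (b 50 3)<|a (b 74 4)<|a (b 57 5)<|a (b 52 6)<|a (b 17 8)<|a (b 48 10)<|a (b 24 11)<|a (b 1 21)<|c)<|a (a (b 99 0)<|a (b 51 1)<|a (b 83 2)<|a (b 77
 3)<|a (b 83 4)<|a (b 9 5)<|a (b 112 6)<|a (b 2 8)<|a (b 114 10)<|a (b 2 11)<|c)<|a (a (b 42 0)<|a (b 112 2)<|a (b 112 4)<|a (b 111 5)<|a (b 116 6)<|
 a (b 1 8)<|c)<|a (a (b 85 0)<|a (b 45 3)<|a (b 117 10)<|a (b 1 11)<|c)<|a (a (b 1 14)<|c)<|a (a (b 1 22)<|c)<|c))<|
 d (b 125<|b 71<|b c (a (a (b 4 0)<|a (b 124 3)<|c)<|a c<|a c<|c))<|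
 d (b 126<|b 71<|b (a 7<|c) (a (a (b 1 21)<|c)<|a c<|a c<|a c<|c))<|
 f);
 (d (b 88<|b 80<|b (a 11<|c) (a (a (b 1 21)<|c)<|a c<|a c<|a c<|a c<|c))<|
 d (b 90<|b 79<|b (a 90<|c) (a c<|a (a (b 25 0)<|a (b 73 1)<|a (b 19 2)<|a (b 75 3)<|a (b 12 5)<|a (b 33 6)<|a (b 27 10)<|a (b 21 11)<|a (b 17 14)<|a (b 89
 17)<|c)<|a (a (b 16 0)<|a (b 70 1)<|a (b 70 2)<|a (b 30 3)<|a (b 68 5)<|a (b 7 6)<|a (b 3 10)<|a (b 89 11)<|c)<|a (a (b 7 0)<|a (b 1 1)<|a (b 73 2)<|a (b 75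
 3)<|c)<|a (a (b 1 14)<|c)<|a (a (b 1 21)<|c)<|c))<|
 d (b 96<|b 78<|b (a 48<|a 96<|c) (a c<|a (a (b 88 0)<|a (b 28 3)<|a (b 64 4)<|a (b 64 8)<|a (b 86 13)<|a (b 1 21)<|c)<|a (a (b 46 0)<|a (b 63 1)<|a (b 15 3)<|a (b 70
 4)<|a (b 93 8)<|a (b 95 13)<|c)<|a (a (b 46 0)<|a (b 21 1)<|a (b 23 3)<|a (b 34 4)<|c)<|a (a (b 6 0)<|a (b 95 3)<|c)<|a (a (b 1 22)<|c)<|c))<|
 d (b 99<|b 77<|b c (a (a (b 1 15)<|c)<|a c<|c))<|
 d (b 100<|b 77<|b (a 2<|a 50<|a 100<|c) (a c<|a (a (b 6 0)<|a (b 66 1)<|a (b 14 2)<|a (b 78 3)<|a (b 68 4)<|a (b 26 10)<|a (b 58 11)<|a (b 68 12)<|a (b 8 13)<|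
 a (b 92 14)<|a (b 11 21)<|a (b 1 22)<|c)<|a (a (b 8 0)<|a (b 76 1)<|a (b 44 2)<|a (b 8 3)<|a (b 88 4)<|a (b 84 10)<|a (b 72 11)<|a (b 88 12)<|a (b 1
 21)<|c)<|a (a (b 40 0)<|a (b 60 1)<|a (b 60 2)<|a (b 80 3)<|a (b 24 10)<|a (b 92 11)<|a (b 99 13)<|a (b 1 14)<|c)<|a (a (b 20 0)<|a (b 55 1)<|a (b 55 2)<|
 a (b 65 3)<|a (b 97 10)<|a (b 1 11)<|c)<|a (a (b 1 14)<|c)<|a (a (b 1 23)<|c)<|c))<|
 f))));
 (let f:=(let f:=(let f:=(d (b 70<|b 86<|b (a 7<|c) (a (a (b 1 21)<|c)<|a c<|a c<|a c<|a c<|c))<|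
 d (b 72<|b 86<|b (a 72<|c) (a c<|a (a (b 61 0)<|a (b 36 1)<|a (b 11 2)<|a (b 64 3)<|a (b 6 4)<|a (b 62 5)<|c)<|a (a (b 57 0)<|a (b 63 1)<|a (b 24 3)<|a (b 33 4)<|
 a (b 6 5)<|a (b 1 8)<|a (b 3 13)<|a (b 71 15)<|c)<|a (a (b 29 0)<|a (b 51 1)<|a (b 16 3)<|a (b 13 4)<|a (b 70 5)<|c)<|a (a (b 68 8)<|a (b 71 19)<|c)<|a (a (b 1
 21)<|c)<|c))<|
 d (b 75<|b 84<|b (a 75<|c) (a c<|a (a (b 4 0)<|a (b 1 1)<|a (b 61 2)<|a (b 63 3)<|c)<|a (a (b 1 14)<|c)<|a (a (b 1 21)<|c)<|c))<|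
 d (b 77<|b 84<|b c (a (a (b 1 0)<|c)<|c))<|
 d (b 80<|b 83<|b (a 80<|c) (a c<|a (a (b 19 0)<|a (b 73 1)<|a (b 43 2)<|a (b 11 3)<|a (b 18 4)<|a (b 35 5)<|a (b 65 6)<|a (b 1 7)<|c)<|a (a (b 66 0)<|a (b 56 5)<|
 a (b 76 6)<|a (b 68 10)<|a (b 4 11)<|a (b 14 14)<|a (b 1 19)<|c)<|a (a (b 59 0)<|a (b 50 1)<|a (b 50 2)<|a (b 15 3)<|a (b 14 5)<|a (b 79 6)<|c)<|a (a (b 35
 0)<|a (b 30 1)<|a (b 30 2)<|a (b 65 3)<|a (b 77 10)<|a (b 1 11)<|c)<|a (a (b 1 14)<|c)<|a (a (b 1 21)<|c)<|c))<|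
 d (b 84<|b 81<|b (a 7<|c) (a (a (b 1 21)<|c)<|a c<|a c<|a c<|a c<|a c<|c))<|
 f);
 (d (b 56<|b 93<|b (a 7<|c) (a (a (b 1 21)<|c)<|a c<|a c<|a c<|a c<|c))<|
 d (b 60<|b 91<|b (a 2<|a 60<|c) (a c<|a (a (b 11 0)<|a (b 7 1)<|a (b 3 2)<|a (b 12 3)<|a (b 16 4)<|a (b 14 5)<|a (b 6 6)<|a (b 4 7)<|a (b 59 9)<|c)<|a (a (b 56 0)<|
 a (b 40 2)<|a (b 40 3)<|a (b 40 5)<|a (b 20 6)<|a (b 40 7)<|a (b 24 10)<|a (b 32 11)<|a (b 22 16)<|a (b 53 18)<|a (b 1 21)<|c)<|a (a (b 34 0)<|a (b 30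
 1)<|a (b 50 2)<|a (b 59 3)<|a (b 50 5)<|a (b 40 6)<|a (b 50 7)<|a (b 54 10)<|a (b 2 11)<|c)<|a (a (b 50 0)<|a (b 30 3)<|a (b 54 10)<|a (b 2 11)<|a (b 59
 16)<|c)<|a (a (b 55 0)<|a (b 30 1)<|a (b 30 2)<|a (b 15 3)<|a (b 57 10)<|a (b 1 11)<|c)<|a (a (b 1 14)<|c)<|a (a (b 1 22)<|c)<|c))<|
 d (b 63<|b 89<|b (a 7<|c) (a (a (b 1 21)<|c)<|a c<|c))<|
 d (b 64<|b 89<|b (a 64<|c) (a c<|a (a (b 52 0)<|a (b 2 3)<|a (b 7 8)<|a (b 2 13)<|a (b 63 21)<|c)<|a (a (b 12 0)<|a (b 62 3)<|a (b 3 8)<|a (b 1 13)<|c)<|a (a (b 6 0)<|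
 a (b 63 3)<|c)<|a (a (b 1 21)<|c)<|c))<|
 d (b 66<|b 88<|b (a 11<|c) (a (a (b 1 21)<|c)<|a c<|a c<|a c<|c))<|
 f));
 (let f:=(d (b 42<|b 102<|b (a 7<|c) (a (a (b 1 21)<|c)<|a c<|a c<|a c<|c))<|
 d (b 44<|b 101<|b (a 11<|c) (a (a (b 1 21)<|c)<|a c<|a c<|a c<|a c<|c))<|
 d (b 45<|b 100<|b (a 45<|c) (a c<|a (a (b 43 0)<|a (b 1 1)<|a (b 37 2)<|a (b 39 3)<|c)<|a (a (b 1 14)<|c)<|a (a (b 1 21)<|c)<|c))<|
 d (b 48<|b 98<|b (a 48<|c) (a c<|a (a (b 30 0)<|a (b 39 1)<|a (b 47 2)<|a (b 5 3)<|a (b 42 4)<|a (b 5 5)<|a (b 2 6)<|c)<|a (a (b 14 0)<|a (b 35 1)<|a (b 37 3)<|a (b 18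
 4)<|a (b 41 8)<|a (b 4 16)<|a (b 47 21)<|c)<|a (a (b 34 0)<|a (b 37 1)<|a (b 35 3)<|a (b 30 4)<|c)<|a (a (b 2 8)<|a (b 47 16)<|c)<|a (a (b 1 21)<|c)<|c))<|
 d (b 50<|b 97<|b (a 50<|c) (a c<|a (a (b 14 0)<|a (b 48 1)<|a (b 21 2)<|a (b 2 3)<|a (b 8 4)<|a (b 5 5)<|c)<|a (a (b 11 0)<|a (b 47 1)<|a (b 27 2)<|a (b 3 3)<|a (b 39
 5)<|a (b 29 7)<|a (b 47 10)<|a (b 1 11)<|c)<|a (a (b 1 14)<|c)<|a (a (b 1 21)<|c)<|c))<|
 d (b 55<|b 94<|b c (a (a (b 1 12)<|c)<|a c<|a c<|c))<|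
 f);
 (d (b 32<|b 112<|b (a 32<|c) (a c<|a (a (b 27 0)<|a (b 1 6)<|a (b 29 8)<|a (b 31 13)<|c)<|a (a (b 12 0)<|a (b 30 3)<|a (b 3 8)<|a (b 1 13)<|c)<|a (a (b 6 0)<|a (b 31 3)<|c)<|
 a (a (b 1 21)<|c)<|c))<|
 d (b 33<|b 111<|b c (a (a (b 1 15)<|c)<|a c<|c))<|
 d (b 35<|b 109<|b c (a (a (b 1 16)<|c)<|a c<|a c<|c))<|
 d (b 36<|b 108<|b (a 2<|a 36<|c) (a c<|a (a (b 8 0)<|a (b 6 1)<|a (b 3 3)<|a (b 2 4)<|a (b 29 8)<|a (b 31 10)<|a (b 1 13)<|c)<|a (a (b 12 0)<|a (b 12 1)<|a (b 8 3)<|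
 a (b 12 4)<|a (b 16 8)<|a (b 4 19)<|a (b 1 21)<|c)<|a (a (b 4 0)<|a (b 6 1)<|a (b 5 3)<|a (b 10 4)<|c)<|a (a (b 23 0)<|a (b 2 3)<|a (b 35 4)<|c)<|a (a (b 1 22)<|c)<|c))<|
 d (b 40<|b 104<|b (a 5<|a 10<|a 40<|c) (a c<|a (a (b 1 0)<|a (b 32 1)<|a (b 21 2)<|a (b 39 3)<|a (b 5 4)<|a (b 17 5)<|a (b 9 7)<|a (b 20 10)<|a (b 20 11)<|a (b 37
 21)<|a (b 1 22)<|c)<|a (a (b 29 0)<|a (b 28 1)<|a (b 9 2)<|a (b 11 3)<|a (b 5 4)<|a (b 33 5)<|a (b 1 7)<|c)<|a (a (b 32 0)<|a (b 16 10)<|a (b 8 11)<|a (b 1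
 21)<|c)<|a (a (b 20 0)<|a (b 15 1)<|a (b 15 2)<|a (b 5 3)<|a (b 37 10)<|a (b 1 11)<|c)<|a (a (b 1 14)<|c)<|a (a (b 1 23)<|c)<|c))<|
 f)));
 (let f:=(let f:=(d (b 21<|b 129<|b (a 7<|c) (a (a (b 1 21)<|c)<|a c<|c))<|
 d (b 22<|b 127<|b (a 11<|c) (a (a (b 1 21)<|c)<|a c<|a c<|c))<|
 d (b 24<|b 123<|b (a 24<|c) (a c<|a (a (b 13 0)<|a (b 7 1)<|a (b 23 2)<|a (b 13 3)<|a (b 4 4)<|a (b 13 8)<|a (b 22 13)<|a (b 1 14)<|c)<|a (a (b 7 0)<|a (b 3 1)<|a (b 8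
 3)<|a (b 13 4)<|a (b 11 8)<|a (b 2 13)<|a (b 23 14)<|c)<|a (a (b 1 0)<|a (b 21 1)<|a (b 8 3)<|a (b 19 4)<|c)<|a (a (b 1 8)<|a (b 23 21)<|c)<|a (a (b 1 21)<|c)<|c))<|
 d (b 25<|b 122<|b (a 25<|c) (a c<|a (a (b 1 14)<|c)<|a (a (b 1 21)<|c)<|c))<|
 d (b 28<|b 117<|b (a 7<|c) (a (a (b 1 21)<|c)<|a c<|a c<|a c<|a c<|c))<|
 d (b 30<|b 114<|b (a 30<|c) (a c<|a (a (b 27 0)<|a (b 18 1)<|a (b 26 3)<|a (b 8 4)<|a (b 3 5)<|a (b 1 7)<|c)<|a (a (b 10 0)<|a (b 19 1)<|a (b 25 2)<|a (b 3 3)<|a (b 20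
 5)<|a (b 13 10)<|a (b 29 11)<|c)<|a (a (b 25 0)<|a (b 1 1)<|a (b 25 2)<|a (b 27 3)<|c)<|a (a (b 1 14)<|c)<|a (a (b 1 21)<|c)<|c))<|
 f);
 (d (b 14<|b 147<|b (a 7<|c) (a (a (b 1 21)<|c)<|a c<|a c<|c))<|
 d (b 15<|b 144<|b (a 15<|c) (a c<|a (a (b 12 0)<|a (b 1 1)<|a (b 13 2)<|a (b 10 3)<|c)<|a (a (b 7 0)<|a (b 14 20)<|c)<|a (a (b 1 21)<|c)<|c))<|
 d (b 16<|b 141<|b (a 16<|c) (a c<|a (a (b 13 8)<|a (b 15 13)<|c)<|a (a (b 4 8)<|a (b 14 16)<|c)<|a (a (b 2 8)<|a (b 15 16)<|c)<|a (a (b 1 21)<|c)<|c))<|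
 d (b 18<|b 136<|b (a 18<|c) (a c<|a (a (b 15 0)<|a (b 6 1)<|a (b 16 3)<|a (b 1 13)<|c)<|a (a (b 11 0)<|a (b 8 1)<|a (b 6 2)<|a (b 17 3)<|c)<|a (a (b 1 21)<|c)<|c))<|
 d (b 20<|b 131<|b (a 2<|a 5<|a 20<|c) (a c<|a (a (b 4 14)<|c)<|a (a (b 10 0)<|a (b 4 1)<|a (b 8 2)<|a (b 14 3)<|a (b 18 5)<|a (b 2 10)<|a (b 1 21)<|c)<|a (a (b 16 0)<|a (b 8
 10)<|a (b 4 11)<|a (b 1 22)<|c)<|a (a (b 5 0)<|a (b 5 3)<|a (b 17 10)<|a (b 1 11)<|c)<|a (a (b 1 14)<|c)<|a (a (b 1 23)<|c)<|c))<|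
 f));
 (let f:=(d (b 7<|b 186<|b c (a (a (b 1 0)<|c)<|c))<|
 d (b 8<|b 177<|b (a 2<|a 8<|c) (a c<|a (a (b 5 8)<|a (b 7 13)<|c)<|a (a (b 1 21)<|c)<|a c<|a (a (b 1 22)<|c)<|c))<|
 d (b 9<|b 171<|b (a 9<|c) (a c<|a (a (b 1 21)<|c)<|c))<|
 d (b 10<|b 165<|b (a 10<|c) (a c<|a (a (b 5 0)<|a (b 4 6)<|a (b 8 10)<|a (b 7 11)<|a (b 9 17)<|a (b 9 21)<|c)<|a (a (b 5 0)<|a (b 2 6)<|a (b 1 10)<|a (b 1 11)<|c)<|
 a (a (b 1 10)<|a (b 9 21)<|c)<|a (a (b 1 21)<|c)<|c))<|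
 d (b 11<|b 160<|b c (a (a (b 1 0)<|c)<|c))<|
 d (b 12<|b 155<|b (a 2<|a 3<|a 12<|c) (a c<|a (a (b 2 20)<|a (b 2 21)<|a (b 1 22)<|c)<|a (a (b 4 0)<|a (b 4 1)<|a (b 8 3)<|a (b 4 4)<|a (b 8 5)<|a (b 1 20)<|a (b 1
 21)<|c)<|a (a (b 8 0)<|a (b 11 1)<|a (b 1 3)<|a (b 2 4)<|a (b 10 5)<|c)<|a (a (b 5 8)<|a (b 11 14)<|c)<|a (a (b 1 23)<|c)<|c))<|
 f);
 (a (b 2<|b 281<|b (a 2<|c) (a c<|a c<|a (a (b 1 21)<|c)<|c))<|
 a (b 3<|b 246<|b (a 3<|c) (a c<|a (a (b 1 21)<|c)<|c))<|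
 a (b 4<|b 223<|b (a 2<|a 4<|c) (a c<|a c<|a (a (b 1 21)<|c)<|a c<|a (a (b 1 22)<|c)<|c))<|
 a (b 5<|b 208<|b (a 5<|c) (a c<|a c<|a (a (b 1 21)<|c)<|c))<|
 a (b 6<|b 195<|b (a 6<|c) (a c<|a (a (b 4 12)<|a (b 5 19)<|c)<|a (a (b 1 12)<|a (b 5 21)<|c)<|a (a (b 1 21)<|c)<|c))<|
 f)))))))

theorem okB : chkB D R nu O SOL CL = true := by decide +kernel

theorem okC : cov D.N 2143 (CL.map Prod.fst) = true := by decide +kernel

variable {K : Type} [Group K] [Finite K] {T : TD K D} {A : Subgroup K}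

theorem vec (H : Sp.Hy T R nu) (hb : ¬ Good A) (h1 : A ≠ ⊤) (h0 : A ≠ ⊥) : ∃ v ∈ SOL, Vec T A v :=
  bad H hb (res H hb h1) okB (mem_of_cov H.mass h0 (res H hb h1).1 okC)

end Cfsg.Agent.N2.Sp1.HS
end

-- part: N2/Cl/D4All89
section
set_option linter.all false
open scoped Cfsg.Agent.FastGrp

-- part: N2/Cl/D4/Main
section
/-!
# N2 (S3519), `PΩ₈⁺(q)` with triality: the row from the boxes (helper61)
-/

set_option autoImplicit false
set_option linter.unusedSectionVars false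

namespace Cfsg.Agent.N2C.D4

open QuadraticMap Module Cfsg.Agent.LieClassical.QuadForms Cfsg.Agent.LieClassical.OrthCore
  Cfsg.Agent.LieClassical.OrthTrans Cfsg.Agent.ClassicalGeometry.OrthSemi Cfsg.Agent.ClassicalGeometry.OrthAut1
  Cfsg.Agent.ClassicalGeometry.TrialityOct Cfsg.Agent.ClassicalGeometry.Triality
  Cfsg.Agent.H989.OutOrth.Basic Cfsg.Agent.H989.OutOrth.Tri Cfsg.Agent.SB.D4
open Cfsg.Agent.FP3 (MI)
open Cfsg.Agent.N2 (Cf)

variable {F : Type} [Field F] [Fintype F]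

theorem Spn.c0 {L : Subgroup (E8 F)} (h : Spn L) : C0 L := fun a _ _ _ _ hc => by
  have h1 : ∀ f : Module.End F (V8 F), ∀ x, a (f x) = f (a x) := fun f => by
    have h2 : f ∈ Submodule.span F ((fun a : E8 F => a.1.toLinearMap) '' L) := h.ge trivial
    induction h2 using Submodule.span_induction with
    | mem f hf =>
      obtain ⟨l, hl, rfl⟩ := hf
      exact hc l hl
    | zero => simp only [_root_.LinearMap.zero_apply, _root_.map_zero, _root_.implies_true]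
    | add f g _ _ k k' => exact fun x => by rw [LinearMap.add_apply, LinearMap.add_apply, map_add, k, k']
    | smul c f _ k => exact fun x => by rw [LinearMap.smul_apply, LinearMap.smul_apply, map_smul, k]
  obtain ⟨x, y, hxy⟩ := (good8 (F := F)).exists_hyp
  refine ⟨polar (Q8 F) x (a y), fun v => ?_⟩
  simpa [hxy.3] using h1 ((polarBilin (Q8 F) x).smulRight v) y

variable {A : Subgroup (G8 F)} {Γ : Subgroup (MulAut (G8 F))} {M₁ M₂ : Gam (Q8 F)}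

theorem Cb.good (cf : Cf) (lm : Lm) (bx : Bx) (w : WRes) {N : Subgroup (G8 F)} {𝓣 : Set (Subgroup (G8 F))}
    (h : Cb A Γ M₁ M₂ N 𝓣) : FP3.Good A := by
  by_cases nf : NoFix (lf N)
  swap
  · exact bx.fix lm F A Γ M₁ M₂ N 𝓣 h nf
  have rd := bx.irr lm F A Γ M₁ M₂ N 𝓣 h nf
  by_cases h3 : ∃ U, Iv (lf N) U ∧ finrank F U = 3
  · obtain ⟨U, hU, k⟩ := h3
    obtain ⟨k1, k2⟩ := bx.b35 lm F A Γ M₁ M₂ N 𝓣 h rd U hU k
    exact bx.cen lm F A Γ M₁ M₂ N 𝓣 h nf k1 k2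
  by_cases h4 : ∃ U, Iv (lf N) U ∧ finrank F U = 4
  · obtain ⟨U, hU, k⟩ := h4
    exact bx.b44 lm F A Γ M₁ M₂ N 𝓣 h nf rd U hU k
  push Not at h3 h4
  have hs : Spn (lf N) := bx.k lm F A Γ M₁ M₂ N 𝓣 h fun U hU => by
    have k1 := dim_prp U
    have k2 := (rd U hU).2
    have k3 := (rd _ hU.prp).2
    have k4 := h3 U hU
    have k5 := h3 _ hU.prp
    have k6 := h4 U hU
    by_cases k7 : finrank F U = 0
    · exact Or.inl (Submodule.finrank_eq_zero.1 k7)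
    · exact Or.inr (Submodule.eq_top_of_finrank_eq (by rw [finrank8]; omega))
  exact (bx.res cf w F A Γ M₁ M₂ N 𝓣 h hs (bx.q lm F A Γ M₁ M₂ N 𝓣 h hs)).elim id
    (bx.cen lm F A Γ M₁ M₂ N 𝓣 h nf hs.c0)

theorem Cx.good (cf : Cf) (lm : Lm) (bx : Bx) (w : WRes) (h : Cx A Γ M₁ M₂) : FP3.Good A := by
  have := simple8 (F := F)
  have := finite8 (F := F)
  rcases N2.G2.tri_mi noncomm8 h.mi with ⟨X, r, k⟩ | ⟨S, k⟩ | ⟨𝓢, k⟩
  · exact bx.loc lm bx.sig F A Γ M₁ M₂ X h k.ne_bot k.inv k.comm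
  · refine Cb.good cf lm bx w (N := S) (𝓣 := {S}) ⟨h, k.inv, k.le, k.ne_bot, fun g hg => k.cent g fun x hx => (hg x hx).symm,
      sSup_singleton, ?_, ?_, ?_⟩
    · rintro _ rfl
      exact ⟨k.simple, k.nonab⟩
    · rintro _ rfl _ rfl e
      exact (e rfl).elim
    · rintro σ hσ S' rfl
      ext x
      have hob_ := σ.surjective x
      obtain ⟨x, rfl⟩ := hob_
      exact (Subgroup.mem_map_iff_mem (f := σ.toMonoidHom) σ.injective).trans (k.inv.iff hσ x).symm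
  · refine Cb.good cf lm bx w (N := sSup 𝓢) (𝓣 := 𝓢) ⟨h, fun σ hσ x hx => ?_, sSup_le k.le, fun e => ?_,
      fun g hg => k.cent g fun S hS x hx => (hg x (le_sSup hS hx)).symm, rfl, fun S hS => ⟨k.simple S hS, k.nonab S hS⟩,
      k.comm, k.perm⟩
    · have h1 : sSup 𝓢 ≤ (sSup 𝓢).comap σ.toMonoidHom := sSup_le fun S hS y hy =>
        le_sSup (k.perm σ hσ S hS) (Subgroup.mem_map_of_mem _ hy)
      exact h1 hx
    · obtain ⟨S, hS, S', hS', hne⟩ := k.two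
      exact hne ((eq_bot_iff.2 (e ▸ le_sSup hS)).trans (eq_bot_iff.2 (e ▸ le_sSup hS')).symm)

open Cfsg.Agent.ClassicalGeometry.OrthSemiForms in
/-- **the row of `PΩ₈⁺(q)`** -/
theorem boxD4_of (lm : Lm) (bx : Bx) (w : WRes) : BoxD4 := by
  rintro cf hO T _ _ _ - ⟨K, _, _, ⟨e⟩⟩
  have := simple8 (F := K)
  have := finite8 (F := K)
  have : Fact (ringChar K).Prime := ⟨CharP.char_is_prime K _⟩
  have e' : POmega K (quadFormPlus 4 K) ≃* G8 K := (LieClassical.OrthForms.coe_plusForm 4 K) ▸ pomegaEquiv good8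
  refine N2.asRow_congr (e.trans e').symm (N2.Par.asRow_of (p := ringChar K) noncomm8 (CTwoTab.isLieTypeChar_congr e'
    (Or.inr (Or.inr (Or.inr (Or.inr (Or.inl ⟨K, _, inferInstance, inferInstance, 4, le_rfl, ⟨MulEquiv.refl _⟩⟩))))))
    fun A Γ hA h1 _ => ?_)
  rcases dichotomy Γ with ⟨β, hβ⟩ | ⟨⟨α, hα, M₁, k1⟩, α', hα', M₂, k2⟩
  · exact (N2.good_comap β.symm.toMonoidHom β.symm.surjective A).1 (Br.good_plus' cf hO le_rfl (N2.mi_comap β.symm hA)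
      fun σ hσ => hβ ⟨_, hσ, MulEquiv.ext fun x => (β.apply_symm_apply _).trans (congrArg σ (β.apply_symm_apply x))⟩)
  · refine Cx.good cf lm bx w ⟨hA, ⟨α, hα, k1⟩, ⟨α', hα', k2⟩, fun P hP hn hp => by_contra fun h0 => ?_⟩
    exact N2.Par.pCore_ne_bot hp h0 hP (fun a ha => Subgroup.mem_normalizer_fintype (hn a ha)) h1

end Cfsg.Agent.N2C.D4
end

-- part: N2/Cl/D4/Cen
section
/-!
# N2 (S3519), `PΩ₈⁺(q)` with triality: `boxCen` (helper85)

`D` is the centraliser of `N` in the automorphism group; `θ` is the action on the three cosets of the range of `Psi`.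
-/

set_option autoImplicit false
set_option linter.unusedSectionVars false

namespace Cfsg.Agent.N2C.D4

open QuadraticMap Module Cfsg.Agent.LieClassical.QuadForms Cfsg.Agent.LieClassical.OrthCore
  Cfsg.Agent.LieClassical.OrthTrans Cfsg.Agent.ClassicalGeometry.OrthSemi Cfsg.Agent.ClassicalGeometry.OrthAut1
  Cfsg.Agent.ClassicalGeometry.TrialityOct Cfsg.Agent.ClassicalGeometry.Triality
  Cfsg.Agent.H989.OutOrth.Basic Cfsg.Agent.H989.OutOrth.Tri Cfsg.Agent.SB.D4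
open Cfsg.Agent.H198.TriBase (T1 TriS mem_S1)

namespace Cen

set_option synthInstance.maxSize 2000 in
theorem s3 : ∀ (o : Fin 3) (s t : Equiv.Perm (Fin 3)), s o = o → s ≠ 1 → t o ≠ o →
    (s * (t * s * t⁻¹)) ^ 3 = 1 ∧ (s * (t * s * t⁻¹)) o ≠ o ∧ s * (s * (t * s * t⁻¹)) * s⁻¹ * (s * (t * s * t⁻¹)) = 1 ∧
      ∀ g : Equiv.Perm (Fin 3), g⁻¹ * (s * (t * s * t⁻¹)) * g * (s * (t * s * t⁻¹))⁻¹ = 1 ∨
        g⁻¹ * (s * (t * s * t⁻¹)) * g * (s * (t * s * t⁻¹)) = 1 := by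
  decide +kernel

/-- the action on three cosets -/
theorem exists_act {G : Type*} [Group G] {R : Subgroup G} (h : R.index = 3) :
    ∃ (θ : G →* Equiv.Perm (Fin 3)) (o : Fin 3), ∀ g, θ g o = o ↔ g ∈ R := by
  have : Finite (G ⧸ R) := Nat.finite_of_card_ne_zero (by rw [← Subgroup.index, h]; norm_num)
  let e : G ⧸ R ≃ Fin 3 := Finite.equivFinOfCardEq h
  refine ⟨e.permCongrHom.toMonoidHom.comp (MulAction.toPermHom G (G ⧸ R)), e ((1 : G) : G ⧸ R), fun g => ?_⟩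
  change e (g • e.symm (e _)) = e _ ↔ _
  rw [e.symm_apply_apply, e.injective.eq_iff, eq_comm]
  change ((1 : G) : G ⧸ R) = ((g * 1 : G) : G ⧸ R) ↔ _
  rw [QuotientGroup.eq, inv_one, one_mul, mul_one]

theorem mem_zpowers {C : Type*} [Group C] [Finite C] [IsCyclic C] {a b : C} {r : ℕ} (hr : r.Prime) (ha : a ≠ 1)
    (h1 : a ^ r = 1) (h2 : b ^ r = 1) : b ∈ Subgroup.zpowers a := by
  classical
  have := Fintype.ofFinite C
  have : Fact r.Prime := ⟨hr⟩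
  have h3 := IsCyclic.card_pow_eq_one_le (α := C) hr.pos
  have h4 : (Subgroup.zpowers a : Set C).toFinset = Finset.univ.filter fun x : C => x ^ r = 1 := by
    refine Finset.eq_of_subset_of_card_le (fun x hx => ?_) (h3.trans (le_of_eq ?_))
    · obtain ⟨k, rfl⟩ := Set.mem_toFinset.1 hx
      refine Finset.mem_filter.2 ⟨Finset.mem_univ _, ?_⟩
      rw [← zpow_natCast, ← zpow_mul, mul_comm, zpow_mul, zpow_natCast, h1, one_zpow]
    · rw [Set.toFinset_card, ← Nat.card_eq_fintype_card, ← orderOf_eq_prime h1 ha]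
      exact (Nat.card_zpowers a).symm
  exact Set.mem_toFinset.1 (h4.ge (Finset.mem_filter.2 ⟨Finset.mem_univ _, h2⟩))

theorem conj_pow_one {G : Type*} [Group G] (g : G) {a : G} {r : ℕ} (h : a ^ r = 1) : (g⁻¹ * a * g) ^ r = 1 := by
  have k := conj_pow (i := r) (a := g⁻¹) (b := a)
  rwa [h, mul_one, mul_inv_cancel, inv_inv] at k

theorem mem_of {G : Type*} [Group G] {R : Subgroup G} {r k m n : G} (h3 : r ^ 3 = 1) (hk : k * r * k = r⁻¹) (kk : k * k = 1)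
    (h1 : k ∈ R) (h2 : n ∈ R) (e : r * (m * k) = n * r) (h4 : r * m * r⁻¹ ∈ R) : r ∈ R := by
  have h5 := mul_mem (mul_mem (inv_mem h4) h2) (inv_mem h1)
  rw [← mul_inv_eq_iff_eq_mul.2 e, show (r * m * r⁻¹)⁻¹ * (r * (m * k) * r⁻¹) * k⁻¹ = r * k * r⁻¹ * k⁻¹ by group, ← hk,
    show r * k * (k * r * k) * k⁻¹ = r * (k * k) * r by group, kk, mul_one] at h5
  rw [show r = (r * r)⁻¹ from eq_inv_of_mul_eq_one_left (by rw [← h3, pow_succ', _root_.sq])]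
  exact inv_mem h5

variable {F : Type} [Field F] [Fintype F]

/-- elements whose conjugates are semilinear have partners -/
theorem mem_T1 {M : Gam (Q8 F)} (h : ∀ g, g * Psi (Q8 F) M * g⁻¹ ∈ (Psi (Q8 F)).range) : M ∈ T1 F := by
  refine (mem_S1 good8 M).elim (·.2) fun ⟨_, N₁, N₂, t⟩ => ?_
  obtain ⟨ρ, hρ⟩ := exists_rho (good8 (F := F))
  have h1 : ρ * Psi _ (M * kapG F) = _ := hρ.mul_Psi good8 (M₁ := N₁) (M₂ := N₂) t
  simp only [map_mul (Psi (Q8 F)) M (kapG F)] at h1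
  exact (hρ.not_mem_range good8 (mem_of (hρ.cube good8) (hρ.kap_inv good8) (by simp only [← map_mul, kapG_mul_kapG, map_one])
    ⟨_, rfl⟩ ⟨_, rfl⟩ h1 (h ρ))).elim

theorem not_range {α : MulAut (G8 F)} {M : Gam (Q8 F)} (h : Ty1 α M) : α ∉ (Psi (Q8 F)).range := fun k => by
  obtain ⟨ρ, hρ⟩ := exists_rho (good8 (F := F))
  have h1 : α = Psi (Q8 F) M * ρ := by
    ext x
    have hob_ := QuotientGroup.mk_surjective x
    obtain ⟨a, rfl⟩ := hob_
    have hob_ := exists_T3 a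
    obtain ⟨b, c, t⟩ := hob_
    simp only [MulAut.mul_apply, rho_T3 hρ t, h a b c t, Psi_mk]
  exact hρ.not_mem_range good8 (((mul_mem_cancel_left (show _ ∈ (Psi (Q8 F)).range from ⟨M, rfl⟩)).1 (h1 ▸ k) :))

/-- a similitude as a linear map -/
def lin {M : Gam (Q8 F)} {c : F} (h : IsSS (Q8 F) (RingEquiv.refl F) c M.1) : GL8 F :=
  { M.1 with
    map_add' := h.add
    map_smul' := h.smul }

theorem eq_one {N : Subgroup (G8 F)} (hN : ⁅N, N⁆ = N) (h0 : C0 (lf N)) {M : Gam (Q8 F)} (hT : M ∈ T1 F)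
    (hs : sg good8 M = 1) (hc : ∀ n ∈ N, Psi (Q8 F) M n = n) : Psi (Q8 F) M = 1 := by
  obtain ⟨M₁, M₂, t⟩ := hT
  have hob_ := M.2
  obtain ⟨σ, c, h⟩ := hob_
  have hob_ := M₁.2
  obtain ⟨σ₁, c₁, h₁⟩ := hob_
  have hob_ := M₂.2
  obtain ⟨σ₂, c₂, h₂⟩ := hob_
  have hob_ := t.field h h₁
  obtain rfl := hob_
  have hob_ := t.field₂ h h₂
  obtain rfl := hob_
  have hob_ : σ = RingEquiv.refl F := (sg_eq good8 h).symm.trans hs
  obtain rfl := hob_
  refine Psi_of_scal (h0 (lin h) (kap F * lin h₁ * kap F) (kap F * lin h₂ * kap F) (fun x y => ?_) ⟨c, h.form⟩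
    fun l hl x => (comm_of_smul (lf_perfect hN) (fun l hl => ?_) l hl x).symm)
  · change M.1 (omul (oconj x) (oconj y)) = omul (oconj (oconj (M₁.1 (oconj x)))) (oconj (oconj (M₂.1 (oconj y))))
    rw [oconj_oconj, oconj_oconj]
    exact t _ _
  · obtain ⟨e, -, k⟩ := mk_eq_iff.1 ((Psi_mk M l).symm.trans (hc _ (lf_le hl)))
    exact ⟨e, fun x => (k _).trans (congrArg (e • ·) (conjE_apply M l x))⟩

/-- the centraliser in the automorphism group -/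
def cD (N : Subgroup (G8 F)) : Subgroup (MulAut (G8 F)) where
  carrier := {σ | ∀ n ∈ N, σ n = n}
  mul_mem' := fun ha hb n hn => by rw [MulAut.mul_apply, hb n hn, ha n hn]
  one_mem' := fun _ _ => rfl
  inv_mem' := fun {σ} h n hn => by rw [← h n hn, MulAut.inv_apply_self, h n hn]

variable {A : Subgroup (G8 F)} {Γ : Subgroup (MulAut (G8 F))} {M₁ M₂ : Gam (Q8 F)} {N : Subgroup (G8 F)}
  {𝓣 : Set (Subgroup (G8 F))} (h : Cb A Γ M₁ M₂ N 𝓣)
include h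

theorem conj_mem {γ σ : MulAut (G8 F)} (hγ : γ ∈ Γ) (hσ : σ ∈ cD N) : γ⁻¹ * σ * γ ∈ cD N := fun n hn => by
  rw [MulAut.mul_apply, MulAut.mul_apply, hσ _ (h.inv γ hγ n hn), MulAut.inv_apply_self]

theorem le_fxs {σ : MulAut (G8 F)} (hσ : σ ∈ cD N) : A ≤ fxs σ := fun a ha => by
  have h1 := (h.cen (a * (σ a)⁻¹) fun n hn => by
    have h2 := hσ _ (h.inv _ ((h.mi.conj a⁻¹).2 (inv_mem ha)) n hn)
    simp only [MulAut.conj_apply, inv_inv a, map_mul σ (a⁻¹ * n) a, map_mul σ (a⁻¹) n, map_inv σ a, hσ n hn] at h2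
    calc n * (a * (σ a)⁻¹) = a * (a⁻¹ * n * a) * (σ a)⁻¹ := by group
      _ = _ := by rw [← h2]; group : _)
  exact (mul_inv_eq_one.1 h1).symm

theorem eq_fxs {φ : MulAut (G8 F)} (hφ : φ ∈ cD N) (h1 : φ ≠ 1) (h2 : ∀ γ ∈ Γ, γ⁻¹ * φ * γ ∈ Subgroup.zpowers φ) :
    fxs φ = A := by
  have := simple8 (F := F)
  have := finite8 (F := F)
  refine N2.mi_eq h.mi (fun γ hγ g hg => ?_) (le_fxs h hφ) fun e => h1 (MulEquiv.ext fun g => (e.ge trivial :))
  have h3 : Subgroup.zpowers φ ≤ MulAction.stabilizer _ g := Subgroup.zpowers_le.2 hg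
  have h4 : γ⁻¹ (φ (γ g)) = g := h3 (h2 γ hγ)
  rw [mem_fxs, ← MulAut.apply_inv_self _ γ (φ (γ g)), h4]

variable {θ : MulAut (G8 F) →* Equiv.Perm (Fin 3)} {o : Fin 3} (hθ : ∀ g, θ g o = o ↔ g ∈ (Psi (Q8 F)).range)
include hθ

omit h in
theorem ker_le {σ : MulAut (G8 F)} (k : θ σ = 1) : ∃ M ∈ T1 F, Psi (Q8 F) M = σ := by
  have hob_ := (hθ σ).1 (by rw [k]; rfl)
  obtain ⟨M, rfl⟩ := hob_
  exact ⟨M, mem_T1 fun g => (hθ _).1 (by simp only [θ.map_mul, θ.map_mul, k, mul_one, θ.map_inv, mul_inv_cancel]; rfl), rfl⟩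

/-- graph automorphisms -/
theorem graph (psi : BoxPsi) (hf : NoFix (lf N)) (hC : HasC N) (hD : ∀ σ ∈ cD N, θ σ = 1 → σ = 1) : False := by
  obtain ⟨M, hM, hy⟩ := hC
  obtain ⟨α, hα, t⟩ := h.e1
  have k0 : Psi (Q8 F) M ∈ cD N := hy
  have e0 := (hθ _).2 ⟨M, rfl⟩
  generalize Psi (Q8 F) M = y at hM k0 e0
  obtain ⟨k1, k2, k3, k4⟩ := s3 o (θ y) (θ α) e0 (fun e => hM (hD _ k0 e)) fun e => not_range t ((hθ _).1 e)
  have k5 : y * (α * y * α⁻¹) ∈ cD N := mul_mem k0 (by simpa only [_root_.inv_inv] using conj_mem h (inv_mem hα) k0)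
  rw [← θ.map_inv, ← θ.map_mul, ← θ.map_mul, ← θ.map_mul] at k1 k2 k3 k4
  generalize y * (α * y * α⁻¹) = x at k1 k2 k3 k4 k5
  have k6 : x ∉ (Psi (Q8 F)).range := fun e => k2 ((hθ _).2 e)
  have k7 : fxs x = A := eq_fxs h k5 (fun e => k6 (by rw [e]; exact one_mem _)) fun γ hγ => by
    have hob_ := k4 (θ γ)
    rcases hob_ with k | k
    · simp only [mul_inv_eq_one.1 (hD _ (mul_mem (conj_mem h hγ k5) (inv_mem k5))
        (by (simp only [θ.map_mul, θ.map_mul, θ.map_mul, θ.map_inv, θ.map_inv]; assumption)))]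
      exact Subgroup.mem_zpowers x
    · simp only [mul_eq_one_iff_eq_inv.1 (hD _ (mul_mem (conj_mem h hγ k5) k5)
        (by (simp only [θ.map_mul, θ.map_mul, θ.map_mul, θ.map_inv]; assumption)))]
      exact inv_mem (Subgroup.mem_zpowers x)
  obtain ⟨β, v, hv, k8⟩ := psi F x y (hD _ (pow_mem k5 3) ((θ.map_pow x 3).trans k1)) k6 hM
    (mul_eq_one_iff_eq_inv.1 (hD _ (mul_mem (mul_mem (mul_mem k0 k5) (inv_mem k0)) k5)
      (by (simp only [θ.map_mul, θ.map_mul, θ.map_mul, θ.map_inv]; assumption)))) fun g hg => le_fxs h k0 (k7.le hg)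
  have key : ∀ (M' M'' : Gam (Q8 F)), ¬ ∀ b ∈ cL M' (lf N), Fp (conjE (Q8 F) M'' b) v := fun M' M'' k => by
    refine gam_ne M''⁻¹ hv (hf.cL M' _ (fix_of_fp (cL_perfect M' h.perf) fun b hb => ?_))
    obtain ⟨c, hc⟩ := k b hb
    have h1 := conjE_eig (M := M''⁻¹) hc
    rwa [conjE_inv_conjE] at h1
  obtain ⟨M', k | k | k⟩ := cosets β
  · refine key 1 M' fun b hb => k8 b _ (k5 _ (lf_le (by rwa [Cb.cL_one] at hb))) ?_
    rw [← k, Psi_mk]
  · refine key M₁ M' fun b hb => ?_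
    have hob_ := h.tri₁ hb
    obtain ⟨a, ha, c, -, t⟩ := hob_
    exact k8 a _ (k5 _ (lf_le ha)) (k a b c t)
  · refine key M₂ M' fun c hc => ?_
    have hob_ := h.tri₂ hc
    obtain ⟨a, ha, b, -, t⟩ := hob_
    exact k8 a _ (k5 _ (lf_le ha)) (k a b c t)

/-- field automorphisms -/
theorem field (subw : BoxSubW) (h0 : C0 (lf N)) {σ : MulAut (G8 F)} (k1 : σ ∈ cD N) (k2 : θ σ = 1) (k3 : σ ≠ 1) :
    FP3.Good A := by
  have := finite_aut (F := F)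
  obtain ⟨r, hr, k4⟩ := Nat.exists_prime_and_dvd (mt orderOf_eq_one_iff.1 k3)
  have k5 : orderOf (σ ^ (orderOf σ / r)) = r := orderOf_pow_orderOf_div (orderOf_pos σ).ne' k4
  have k6 := pow_mem k1 (orderOf σ / r)
  have k7 : θ (σ ^ (orderOf σ / r)) = 1 := by rw [θ.map_pow, k2, one_pow]
  generalize σ ^ (orderOf σ / r) = φ at k5 k6 k7
  have k8 : φ ≠ 1 := fun e => hr.one_lt.ne (by rw [← k5, e, orderOf_one])
  have k12 : φ ^ r = 1 := k5 ▸ pow_orderOf_eq_one _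
  obtain ⟨P, hP, e⟩ := ker_le hθ k7
  have k9 : sg good8 P ≠ 1 := fun e' => k8 (e.symm.trans (eq_one h.perfN h0 hP e' (show _ ∈ cD N by rwa [e])))
  have k10 : ∀ (P' : Gam (Q8 F)) (ψ : MulAut (G8 F)), Psi (Q8 F) P' = ψ → ψ ^ r = 1 → sg good8 P' ^ r = 1 := fun P' ψ e k => by
    rw [← (sg good8).map_pow]
    exact sg_eq_one_of_out good8 (by simp only [out, MonoidHom.comp_apply, (Psi (Q8 F)).map_pow, e, k, map_one])
  rw [← eq_fxs h k6 k8 fun γ hγ => ?_]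
  · rw [← e] at k5 ⊢
    refine subw F P (k5 ▸ hr) fun k => k9 ?_
    obtain ⟨τ, c, hc⟩ := P.2
    exact (sg_eq good8 hc).trans
      (RingEquiv.ext fun a => smul_left_injective F (gam_ne P e8_ne) ((hc.smul a _).symm.trans (k a _)))
  · have hob_ := ker_le hθ (σ := γ⁻¹ * φ * γ) (by simp only [θ.map_mul, θ.map_mul, k7, mul_one, θ.map_inv, inv_mul_cancel])
    obtain ⟨P', hP', e'⟩ := hob_
    have : IsCyclic (RingAut F) := LieRecognition.FieldSemilinear.isCyclic_ringAut F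
    have : Finite (RingAut F) := Finite.of_injective (fun γ : RingAut F => (γ : F → F)) DFunLike.coe_injective
    have hob_ := Subgroup.mem_zpowers_iff.1 (mem_zpowers hr k9 (k10 P φ e k12) (k10 P' _ e' (conj_pow_one γ k12)))
    obtain ⟨j, hj⟩ := hob_
    have k14 : Psi (Q8 F) (P' * (P ^ j)⁻¹) = γ⁻¹ * φ * γ * (φ ^ j)⁻¹ := by
      simp only [(Psi (Q8 F)).map_mul, (Psi (Q8 F)).map_inv, (Psi (Q8 F)).map_zpow, e', e]
    have k15 : sg good8 (P' * (P ^ j)⁻¹) = 1 := by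
      rw [(sg good8).map_mul, (sg good8).map_inv, (sg good8).map_zpow, hj, mul_inv_cancel]
    have k11 := eq_one h.perfN h0 (mul_mem hP' (inv_mem (zpow_mem hP j))) k15
      (show _ ∈ cD N by rw [k14]; exact mul_mem (conj_mem h hγ k6) (inv_mem (zpow_mem k6 j)))
    exact ⟨j, (mul_inv_eq_one.1 (k14.symm.trans k11)).symm⟩

end Cen

/-- **[Cen]** -/
theorem boxCen : BoxCen := by
  intro lm F _ _ A Γ M₁ M₂ N 𝓣 h hf h0 hC
  obtain ⟨θ, o, hθ⟩ := Cen.exists_act (index_three (F := F))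
  by_contra hc
  exact Cen.graph h hθ lm.psi hf hC fun σ k1 k2 => by_contra fun k3 => hc (Cen.field h hθ lm.subw h0 k1 k2 k3)

end Cfsg.Agent.N2C.D4
end

-- part: N2/Cl/D4/G2
section
/-!
# N2 (S3519), `PΩ₈⁺(q)` with triality: the subgroup `G₂(q)`, isometries with square `-1` (helper63)
-/

set_option autoImplicit false
set_option linter.unusedSectionVars false

namespace Cfsg.Agent.N2C.D4

open QuadraticMap Module Cfsg.Agent.LieClassical.QuadForms Cfsg.Agent.LieClassical.OrthCore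
  Cfsg.Agent.LieClassical.OrthTrans Cfsg.Agent.ClassicalGeometry.OrthSemi Cfsg.Agent.ClassicalGeometry.OrthAut1
  Cfsg.Agent.ClassicalGeometry.TrialityOct Cfsg.Agent.ClassicalGeometry.Triality
  Cfsg.Agent.H989.OutOrth.Basic Cfsg.Agent.H989.OutOrth.Tri Cfsg.Agent.SB.D4

namespace G2

section je

variable {F V : Type} [Field F] [Finite F] [AddCommGroup V] [Module F V] [FiniteDimensional F V]
  {Q : QuadraticForm F V}

theorem mem_cut {u x : V} : x ∈ prp Q (F ∙ u) ↔ polar Q u x = 0 := by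
  refine mem_prp.trans ⟨fun h => (polar_comm _ _ _).trans (h u (Submodule.mem_span_singleton_self u)), fun h y hy => ?_⟩
  obtain ⟨c, rfl⟩ := Submodule.mem_span_singleton.1 hy
  rw [polar_smul_right, polar_comm, h, smul_zero]

theorem cut (h2 : (2 : F) ≠ 0) (hQ : Nondeg Q) {W : Submodule F V} (hW : Nd Q W) {u : V} (hu : u ∈ W) (h : Q u ≠ 0) :
    Nd Q (W ⊓ prp Q (F ∙ u)) ∧ finrank F ↥(W ⊓ prp Q (F ∙ u)) + 1 = finrank F W := by
  have h1 : Nd Q (F ∙ u) := fun x hx k => by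
    obtain ⟨c, rfl⟩ := Submodule.mem_span_singleton.1 hx
    have k1 := k u (Submodule.mem_span_singleton_self u)
    rw [polar_smul_left, polar_self', smul_eq_mul] at k1
    rw [(mul_eq_zero.1 k1).resolve_right (mul_ne_zero h2 h), zero_smul]
  have h3 : (F ∙ u) ≤ W := (Submodule.span_singleton_le_iff_mem u W).2 hu
  have h4 := h1.finrank_inf_prp hQ h3
  rw [finrank_span_singleton (fun e => h (by rw [e, QuadraticMap.map_zero]))] at h4
  exact ⟨h1.nd_inf_prp hQ h3 hW, by omega⟩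

/-- `g` is `J` on `W` and the identity on the complement -/
structure Oj (Q : QuadraticForm F V) (J g : V ≃ₗ[F] V) (W : Submodule F V) : Prop where
  nd : Nd Q W
  inv : ∀ x ∈ W, J x ∈ W
  iso : g ∈ O Q
  eq : ∀ x ∈ W, g x = J x
  mv : ∀ x, g x - x ∈ W

theorem Oj.step (h2 : (2 : F) ≠ 0) (hQ : Nondeg Q) {J g : V ≃ₗ[F] V} (hJ : J ∈ O Q) (hq : ∀ x, J (J x) = -x)
    {W : Submodule F V} (h : Oj Q J g W) (hd : 2 ≤ finrank F W) :
    ∃ (u v : V) (hu : Q u ≠ 0) (hv : Q v ≠ 0) (W' : Submodule F V), Q u = 1 ∧ Q v = 2 ∧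
      finrank F W' + 2 = finrank F W ∧ Oj Q J (refl Q u hu * refl Q v hv * g) W' := by
  obtain ⟨⟨u, hW⟩, h1⟩ := H749.exists_value (Q := Q.comp W.subtype) (fun x hx => Subtype.ext (h.nd x x.2 fun y hy => by
    simpa only [polar, _root_.QuadraticMap.comp_apply, _root_.Submodule.subtype_apply, _root_.Submodule.coe_add] using hx ⟨y, hy⟩)) hd 1
  have h1 : Q u = 1 := h1
  have h3 : Q (J u) = 1 := (mem_O.1 hJ u).trans h1
  have h4 : polar Q u (J u) = 0 := by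
    have k := polar_map hJ u (J u)
    rw [hq, polar_neg_right, polar_comm] at k
    exact (mul_eq_zero.1 (show 2 * polar Q u (J u) = 0 by linear_combination -k)).resolve_left h2
  have h4' : polar Q (J u) u = 0 := (polar_comm _ _ _).trans h4
  have h5 : Q (J u - u) = 2 := by
    rw [sub_eq_add_neg, Q_add, QuadraticMap.map_neg, polar_neg_right, h1, h3, h4']
    ring
  have hu : Q (J u) ≠ 0 := h3 ▸ one_ne_zero
  have hv : Q (J u - u) ≠ 0 := h5 ▸ h2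
  obtain ⟨k1, k2⟩ := cut h2 hQ h.nd hW (h1 ▸ one_ne_zero)
  obtain ⟨k3, k4⟩ := cut h2 hQ k1 (u := J u) ⟨h.inv u hW, mem_cut.2 h4⟩ hu
  have hm : ∀ x, x ∈ W ⊓ prp Q (F ∙ u) ⊓ prp Q (F ∙ J u) ↔ x ∈ W ∧ polar Q u x = 0 ∧ polar Q (J u) x = 0 := fun x => by
    rw [Submodule.mem_inf, Submodule.mem_inf, mem_cut, mem_cut, and_assoc]
  have hi : ∀ x ∈ W ⊓ prp Q (F ∙ u) ⊓ prp Q (F ∙ J u), J x ∈ W ⊓ prp Q (F ∙ u) ⊓ prp Q (F ∙ J u) := fun x hx => by
    obtain ⟨j1, j2, j3⟩ := (hm x).1 hx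
    refine (hm _).2 ⟨h.inv x j1, ?_, (polar_map hJ u x).trans j2⟩
    have k := polar_map hJ (J u) x
    rwa [hq, polar_neg_left, j3, neg_eq_zero] at k
  have hO : refl Q (J u) hu * refl Q (J u - u) hv * g ∈ O Q := mul_mem (mul_mem (refl_mem_O hu) (refl_mem_O hv)) h.iso
  have ha : ∀ x, (refl Q (J u) hu * refl Q (J u - u) hv * g) x = refl Q (J u) hu (refl Q (J u - u) hv (g x)) :=
    fun _ => rfl
  have e1 : (refl Q (J u) hu * refl Q (J u - u) hv * g) u = u := by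
    rw [ha, h.eq u hW, refl_sub_apply (h1.trans h3.symm), refl_apply, h4', mul_zero, zero_smul, sub_zero]
  have e2 : (refl Q (J u) hu * refl Q (J u - u) hv * g) (J u) = J u := by
    have e3 : refl Q (J u - u) hv u = J u := by
      have k : refl Q (J u - u) hv (refl Q (J u - u) hv (J u)) = J u := reflLin_reflLin hv _
      rwa [refl_sub_apply (h1.trans h3.symm) hv] at k
    rw [ha, h.eq _ (h.inv u hW), hq, map_neg, map_neg, e3, refl_apply, polar_self', h3]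
    module
  refine ⟨J u, J u - u, hu, hv, _, h3, h5, by omega, k3, hi, hO, fun x hx => ?_, fun x => (hm _).2 ⟨?_, ?_, ?_⟩⟩
  · obtain ⟨-, j2, j3⟩ := (hm _).1 (hi x hx)
    rw [ha, h.eq x hx.1.1, refl_apply hv, polar_sub_left, j2, j3, sub_zero, mul_zero, zero_smul, sub_zero, refl_apply, j3,
      mul_zero, zero_smul, sub_zero]
  · rw [ha, refl_apply, refl_apply hv, sub_right_comm, sub_right_comm (g x)]
    exact W.sub_mem (W.sub_mem (h.mv x) (W.smul_mem _ (W.sub_mem (h.inv u hW) hW))) (W.smul_mem _ (h.inv u hW))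
  · rw [polar_sub_right, sub_eq_zero, ← polar_map hO u x, e1]
  · rw [polar_sub_right, sub_eq_zero, ← polar_map hO (J u) x, e2]

theorem Oj.step2 (h2 : (2 : F) ≠ 0) (hG : Good Q) {J g : V ≃ₗ[F] V} (hJ : J ∈ O Q) (hq : ∀ x, J (J x) = -x)
    {W : Submodule F V} (h : Oj Q J g W) (hd : 4 ≤ finrank F W) :
    ∃ e ∈ E Q, ∃ W' : Submodule F V, finrank F W' + 4 = finrank F W ∧ Oj Q J (e * g) W' := by
  obtain ⟨u, v, hu, hv, W₁, k1, k2, k3, k4⟩ := h.step h2 hG.nondeg hJ hq (by omega)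
  obtain ⟨u', v', hu', hv', W₂, j1, j2, j3, j4⟩ := k4.step h2 hG.nondeg hJ hq (by omega)
  refine ⟨refl Q u' hu' * refl Q v' hv' * (refl Q u hu * refl Q v hv), ?_, W₂, by omega, by rwa [mul_assoc]⟩
  have e : refl Q u' hu' * refl Q v' hv' * (refl Q u hu * refl Q v hv) =
      refl Q u' hu' * (refl Q v' hv' * refl Q u hu * (refl Q v' hv')⁻¹) * (refl Q v' hv' * refl Q v hv) := by group
  have h3 : Q (refl Q v' hv' u) = Q u := mem_O.1 (refl_mem_O hv') u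
  rw [e, refl_conj (refl_mem_O hv') hu (h3 ▸ hu)]
  exact mul_mem (hG.refl_mul_refl_mem _ _ (h3.trans (k1.trans j1.symm))) (hG.refl_mul_refl_mem _ _ (k2.trans j2.symm))

end je

variable {F : Type} [Field F] [Fintype F]

theorem split {x : V8 F} (hx : Q8 F x ≠ 0) :
    ∃ e f : V8 F, Q8 F e = 0 ∧ Q8 F f = 0 ∧ polar (Q8 F) e f ≠ 0 ∧ x = e + f := by
  obtain ⟨e, f, h⟩ := (good8 (F := F)).exists_hyp
  have h1 : Q8 F (e + Q8 F x • f) = Q8 F x := by
    rw [Q_add, QuadraticMap.map_smul, polar_smul_right, h.left, h.right, h.pair]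
    simp
  obtain ⟨g, hg, k⟩ := good8.trans_norm (v := e + Q8 F x • f) (v' := x)
    (fun e => hx (by rw [← h1, e, QuadraticMap.map_zero])) (fun e => hx (by rw [e, QuadraticMap.map_zero])) h1
  have hO := E_le_O hg
  refine ⟨g e, g (Q8 F x • f), (mem_O.1 hO e).trans h.left, ?_, ?_, by rw [← map_add, k]⟩
  · rw [mem_O.1 hO, QuadraticMap.map_smul, h.right, smul_zero]
  · rwa [polar_map hO, polar_smul_right, h.pair, smul_eq_mul, mul_one]

/-- the index -/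
theorem index_ge {A : Subgroup (G8 F)} {z : V8 F} (hz : Q8 F z ≠ 0) (hA : ∀ a : E8 F, (a : G8 F) ∈ A → Fp a z) :
    Nat.card F ^ 6 ≤ A.index := by
  have := finite8 (F := F)
  obtain ⟨e, f, he, hf, hef, rfl⟩ := split hz
  have hd : 6 ≤ finrank F (prp (Q8 F) (Submodule.span F {e, f})) := by
    classical
    have h1 := dim_prp (Submodule.span F ({e, f} : Set (V8 F)))
    have h2 := (finrank_span_le_card (R := F) ({e, f} : Set (V8 F))).trans
      (show _ ≤ 2 by simpa only [_root_.Set.toFinset_insert, _root_.Set.toFinset_singleton] using Finset.card_le_two (a := e) (b := f))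
    omega
  have hw : ∀ w : prp (Q8 F) (Submodule.span F {e, f}), polar (Q8 F) e w = 0 ∧ polar (Q8 F) f w = 0 := fun w =>
    ⟨(polar_comm _ _ _).trans (mem_prp.1 w.2 e (Submodule.subset_span (by simp))),
      (polar_comm _ _ _).trans (mem_prp.1 w.2 f (Submodule.subset_span (by simp)))⟩
  let s : prp (Q8 F) (Submodule.span F {e, f}) → E8 F := fun w => ⟨(siegel (Q8 F) e w he (hw w).1 :), siegel_mem_E _ _⟩
  have hs : ∀ w, (s w).1 (e + f) = e + f + polar (Q8 F) e f • w.1 - (Q8 F w * polar (Q8 F) e f) • e := fun w => by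
    change siegel (Q8 F) e w he (hw w).1 (e + f) = _
    rw [siegel_apply, polar_add_right, polar_add_right, polar_self_of_sing he, polar_comm _ w.1 e, polar_comm _ w.1 f,
      (hw w).1, (hw w).2]
    simp only [_root_.zero_add, _root_.add_zero, _root_.zero_smul, _root_.sub_zero]
  calc Nat.card F ^ 6 ≤ Nat.card F ^ finrank F (prp (Q8 F) (Submodule.span F {e, f})) :=
        Nat.pow_le_pow_right Nat.card_pos hd
    _ = _ := (Module.natCard_eq_pow_finrank (K := F)).symm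
    _ ≤ _ := Nat.card_le_card_of_injective (fun w => ((s w : G8 F) : G8 F ⧸ A)) fun w w' h => by
      obtain ⟨c, hc⟩ := hA ((s w)⁻¹ * s w') (QuotientGroup.eq.1 h)
      have h1 : (s w').1 (e + f) = c • (s w).1 (e + f) := by
        rw [← map_smul, ← hc]
        exact ((s w).1.apply_symm_apply _).symm
      rw [hs, hs] at h1
      have h2 := congrArg (polar (Q8 F) e) h1
      have h3 := congrArg (polar (Q8 F) f) h1
      simp only [polar_smul_right, polar_sub_right, polar_add_right, polar_self_of_sing he, polar_self_of_sing hf,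
        (hw _).1, (hw _).2, smul_eq_mul, polar_comm (Q8 F) f e] at h2 h3
      have h4 : c = 1 := mul_right_cancel₀ hef (by linear_combination -h2)
      subst h4
      have h5 : Q8 F w' = Q8 F w := mul_right_cancel₀ (mul_ne_zero hef hef) (by linear_combination -h3)
      rw [h5, one_smul, sub_left_inj, add_right_inj] at h1
      exact Subtype.ext (smul_right_injective _ hef h1).symm

/-- fixed vectors of given norm -/
theorem fix_eq {b : E8 F} (hb : Rp b) {e f : V8 F} (he : Q8 F e = 0) (hf : Q8 F f = 0) (hef : polar (Q8 F) e f ≠ 0)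
    (h1 : b.1 e = e) (h2 : b.1 f = f) {v : V8 F} (hv : b.1 v = v) :
    polar (Q8 F) e f • v = polar (Q8 F) f v • e + polar (Q8 F) e v • f := by
  have h3 : LinearIndependent F ![e, f] := LinearIndependent.pair_iff.2 fun s t k => by
    have k1 := congrArg (polar (Q8 F) e) k
    have k2 := congrArg (polar (Q8 F) f) k
    simp only [polar_smul_right, polar_add_right, polar_self_of_sing he, polar_self_of_sing hf, smul_eq_mul,
      polar_comm (Q8 F) f e, polar_zero_right] at k1 k2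
    exact ⟨mul_right_cancel₀ hef (by linear_combination k2), mul_right_cancel₀ hef (by linear_combination k1)⟩
  have h4 : Submodule.span F (Set.range ![e, f]) = Fx (Subgroup.zpowers b.1) :=
    Submodule.eq_of_le_of_finrank_eq (Submodule.span_le.2 (by
      rintro _ ⟨i, rfl⟩
      fin_cases i
      exacts [mem_Fx_zpowers.2 h1, mem_Fx_zpowers.2 h2])) (by rw [finrank_span_eq_card h3, hb.fx_dim]; rfl)
  have h5 := h4.ge (mem_Fx_zpowers.2 hv)
  rw [Matrix.range_cons, Matrix.range_cons, Matrix.range_empty, Set.union_empty, Set.singleton_union] at h5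
  obtain ⟨s, t, rfl⟩ := Submodule.mem_span_pair.1 h5
  simp only [polar_smul_right, polar_add_right, polar_self_of_sing he, polar_self_of_sing hf, smul_eq_mul,
    polar_comm (Q8 F) f e]
  module

theorem Rp.fp {b u : E8 F} (hb : Rp b) {x : V8 F} (h : Fp (u⁻¹ * b * u) x) : b.1 (u.1 x) = u.1 x := by
  obtain ⟨c, hc⟩ := h
  have h1 : b.1 (u.1 x) = c • u.1 x := by
    rw [← map_smul, ← hc]
    exact (u.1.apply_symm_apply _).symm
  refine hb.fix (U := F ∙ u.1 x) ((finrank_span_le_card _).trans (by simp)) (fun v hv => ?_) _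
    (Submodule.mem_span_singleton_self _)
  obtain ⟨d, rfl⟩ := Submodule.mem_span_singleton.1 hv
  rw [map_smul, h1]
  exact Submodule.smul_mem _ _ (Submodule.smul_mem _ _ (Submodule.mem_span_singleton_self _))

end G2

open G2

/-- **isometries with square `-1`** -/
theorem boxJE : BoxJE := fun F _ _ J h2 hJ hq => by
  have h0 : Oj (Q8 F) J J ⊤ := ⟨nd_top nondeg8', fun _ _ => trivial, hJ, fun _ _ => rfl, fun _ => trivial⟩
  obtain ⟨e, he, W, k1, k2⟩ := h0.step2 h2 good8 hJ hq (by rw [finrank_top, finrank8]; omega)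
  rw [finrank_top, finrank8] at k1
  obtain ⟨e', he', W', j1, j2⟩ := k2.step2 h2 good8 hJ hq (by omega)
  have h3 : W' = ⊥ := Submodule.finrank_eq_zero.1 (by omega)
  have h4 : e' * (e * J) = 1 := LinearEquiv.ext fun x => sub_eq_zero.1 (h3.le (j2.mv x))
  rw [← mul_assoc] at h4
  rw [eq_inv_of_mul_eq_one_right h4]
  exact inv_mem (mul_mem he' he)

/-- **`G₂(q)`** -/
theorem boxG2 : BoxG2 := fun hE F _ _ A x y hx hy hA => by
  have := finite8 (F := F)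
  obtain ⟨e, f, he, hf, hef, rfl⟩ := split hx
  obtain ⟨a, b, c, ht, -, hb, hc, k1, k2, k3⟩ := hE F e f y he hf hef hy
  refine ⟨a, (hA a b c ht).2 ⟨⟨1, by rw [map_add, k1, k2, one_smul]⟩, 1, by rw [k3, one_smul]⟩, le_trans ?_
    (index_ge (z := pm (e + f) y) (by rw [norm_pm]; exact mul_ne_zero hx hy) fun t h => ?_)⟩
  swap
  · obtain ⟨u, w, ht'⟩ := exists_T3 t
    obtain ⟨⟨l, hl⟩, m, hm⟩ := (hA _ _ _ ht').1 h
    exact ⟨l * m, by rw [ht', hl, hm, smul_pm, pm_smul, smul_smul]⟩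
  have h1 : ∀ X : MulAction.fixedBy (G8 F ⧸ A) (a : G8 F), ∃ t u w : E8 F, ((t : G8 F) : G8 F ⧸ A) = X.1 ∧ T3 t u w ∧
      b.1 (u.1 (e + f)) = u.1 (e + f) ∧ c.1 (w.1 y) = w.1 y := fun ⟨X, hX⟩ => by
    have hob_ := QuotientGroup.mk_surjective X
    obtain ⟨t, rfl⟩ := hob_
    have hob_ := QuotientGroup.mk_surjective t
    obtain ⟨t, rfl⟩ := hob_
    have hob_ := exists_T3 t
    obtain ⟨u, w, ht'⟩ := hob_
    have hob_ := (hA _ _ _ ((ht'.inv.mul ht).mul ht')).1 ((N2.smul_mk_iff A _ _).1 hX)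
    obtain ⟨j1, j2⟩ := hob_
    exact ⟨t, u, w, rfl, ht', Rp.fp hb j1, Rp.fp hc j2⟩
  choose t u w j1 j2 j3 j4 using h1
  have hn : ∀ X, polar (Q8 F) f ((u X).1 (e + f)) * polar (Q8 F) e ((u X).1 (e + f)) =
      polar (Q8 F) e f * Q8 F (e + f) := fun X => by
    have h2 := congrArg (Q8 F) (fix_eq hb he hf hef k1 k2 (j3 X))
    rw [QuadraticMap.map_smul, mem_O.1 (E_le_O (u X).2), Q_add (_ • e), QuadraticMap.map_smul, QuadraticMap.map_smul, he, hf,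
      polar_smul_left, polar_smul_right] at h2
    simp only [smul_eq_mul] at h2
    exact mul_right_cancel₀ hef (by linear_combination -h2)
  have hn' : ∀ X, polar (Q8 F) f ((u X).1 (e + f)) ≠ 0 := fun X => left_ne_zero_of_mul (hn X ▸ mul_ne_zero hef hx)
  have h2 := Nat.card_le_card_of_injective
    (fun p : MulAction.fixedBy (G8 F ⧸ A) (a : G8 F) × Fˣ => ((Units.mk0 _ (hn' p.1), ⟨p.2.1 • (w p.1).1 y,
      Submodule.smul_mem _ _ (mem_Fx_zpowers.2 (j4 p.1))⟩) : Fˣ × Fx (Subgroup.zpowers c.1))) fun ⟨X, l⟩ ⟨X', l'⟩ k => by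
      have i1 : polar (Q8 F) f ((u X).1 (e + f)) = polar (Q8 F) f ((u X').1 (e + f)) :=
        congrArg (fun p : Fˣ × Fx (Subgroup.zpowers c.1) => p.1.1) k
      have i2 : l.1 • (w X).1 y = l'.1 • (w X').1 y := congrArg (fun p : Fˣ × Fx (Subgroup.zpowers c.1) => p.2.1) k
      have i3 : polar (Q8 F) e ((u X).1 (e + f)) = polar (Q8 F) e ((u X').1 (e + f)) :=
        mul_left_cancel₀ (hn' X) (by rw [hn, i1, hn])
      have i4 : (u X).1 (e + f) = (u X').1 (e + f) := smul_right_injective _ hef (by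
        simp only
        rw [fix_eq hb he hf hef k1 k2 (j3 X), fix_eq hb he hf hef k1 k2 (j3 X'), i1, i3])
      obtain rfl : X = X' := Subtype.ext (by
        rw [← j1, ← j1]
        refine QuotientGroup.eq.2 ((hA _ _ _ ((j2 X).inv.mul (j2 X'))).2 ⟨⟨1, ?_⟩, l'.1⁻¹ * l.1, ?_⟩)
        · change (u X).1.symm ((u X').1 (e + f)) = _
          rw [← i4, LinearEquiv.symm_apply_apply, one_smul]
        · change (w X).1.symm ((w X').1 y) = _
          rw [LinearEquiv.symm_apply_eq, map_smul, mul_smul, i2, inv_smul_smul₀ l'.ne_zero])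
      have i5 : (w X).1 y ≠ 0 := (w X).1.map_ne_zero_iff.2 fun e => hy (by rw [e, QuadraticMap.map_zero])
      exact Prod.ext rfl (Units.ext (smul_left_injective F i5 i2))
  rw [Nat.card_prod, Nat.card_prod, Module.natCard_eq_pow_finrank (K := F) (V := Fx _), hc.fx_dim, mul_comm] at h2
  calc FP3.fx A a ^ 3 ≤ (Nat.card F ^ 2) ^ 3 := Nat.pow_le_pow_left (Nat.le_of_mul_le_mul_left h2 Nat.card_pos) 3
    _ = _ := by ring

end Cfsg.Agent.N2C.D4
end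

-- part: N2/Cl/D4/G44
section
/-!
# N2 (S3519), `PΩ₈⁺(q)` : two blocks of dimension four (helper43)
-/

set_option autoImplicit false
set_option maxHeartbeats 400000
set_option linter.unusedSectionVars false

namespace Cfsg.Agent.N2C.D4

open QuadraticMap Module Cfsg.Agent.LieClassical.OrthCore Cfsg.Agent.ClassicalGeometry.Triality Cfsg.Agent.SB.D4
open Cfsg.Agent.H955 (res perp perp_eq)

/-- **two blocks** -/
theorem boxG44 : BoxG44 := fun F _ _ A U h4 hn _ _ hA => by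
  have h8 : finrank F (V8 F) = 8 := by simp
  have h5 := finrank_prp (Q := Q8 F) nondeg8 U
  have he : perp (Q8 F) U = prp (Q8 F) U := perp_eq U
  refine (N2.good_comap (QuotientGroup.mk' _) (QuotientGroup.mk'_surjective _) A).1 (FrO.good_two' (W := U) nondeg8
    (by omega) (fun x hx => Subtype.ext (hn x x.2 fun y hy => hx ⟨y, hy⟩)) (fun h => ?_) (fun h => ?_) fun g =>
      (hA g).trans (or_congr ⟨fun h => FixO.im_eq h le_rfl, fun h v hv => h.le ⟨v, hv, rfl⟩⟩ ?_))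
  · rw [h, finrank_bot] at h4
    omega
  · rw [← he, h, finrank_bot] at h5
    omega
  · rw [he]
    exact ⟨fun h => FixO.im_eq h (by omega), fun h v hv => h.le ⟨v, hv, rfl⟩⟩

end Cfsg.Agent.N2C.D4
end

-- part: N2/Cl/D4/GI2
section
/-!
# N2 (S3519), `PΩ₈⁺(q)` : four planes (helper43)
-/

set_option autoImplicit false
set_option maxHeartbeats 400000
set_option linter.unusedSectionVars false

namespace Cfsg.Agent.N2C.D4

open QuadraticMap Module Cfsg.Agent.LieClassical.OrthCore Cfsg.Agent.ClassicalGeometry.Triality Cfsg.Agent.SB.D4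
open Cfsg.Agent.H182.Sign (Sg)
open Cfsg.Agent.H955 (res)

namespace GI2

variable {F V : Type} [Field F] [Finite F] [AddCommGroup V] [Module F V] [Finite V] {Q : QuadraticForm F V}
  {W : Submodule F V}

/-- anisotropic planes -/
theorem sg_minus (h2 : finrank F W = 2) (h : Aniso Q W) : Sg (res Q W) 1 (-1) := by
  obtain ⟨a, b, h3, e, he⟩ := H182.Sign.isMinus_of_aniso (res Q W) h2 fun x hx h3 => hx (Subtype.ext (h x x.2 h3))
  exact (H182.Sign.sg_minusForm 0 h3).congr e he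

/-- hyperbolic planes -/
theorem sg_plus (h2 : finrank F W = 2) (hn : Nd Q W) (h : ¬ Aniso Q W) : Sg (res Q W) 1 1 := by
  rcases H182.Sign.classify' (res Q W) (fun x hx => Subtype.ext (hn x x.2 fun y hy => hx ⟨y, hy⟩)) 1 h2 with
    ⟨e, he⟩ | ⟨k, hk, a, b, h3, e, he⟩
  · exact (H182.Sign.sg_plusForm 1).congr e he
  · obtain rfl : k = 0 := by omega
    refine (h fun x hx h4 => ?_).elim
    obtain ⟨u, hu⟩ := e.surjective ⟨x, hx⟩
    have h5 := he u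
    rw [hu] at h5
    have h6 := h3 (u (.inr 0)) (u (.inr 1)) (by
      have h6 : LieClassical.OrthForms.minusForm 0 F a b u = 0 := h5.symm.trans h4
      simp only [LieClassical.OrthForms.minusForm, _root_.Finset.univ_eq_empty, _root_.Finset.sum_empty, _root_.Fin.isValue, _root_.zero_add, _root_.add_apply, _root_.QuadraticMap.linMulLin_apply, _root_.LinearMap.coe_proj, _root_.Function.eval, _root_.smul_apply, _root_.smul_eq_mul] at h6
      linear_combination h6)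
    have h7 : u = 0 := funext fun i => by
      rcases i with (i | i) | i
      · exact i.elim0
      · exact i.elim0
      · fin_cases i
        exacts [h6.1, h6.2]
    rw [h7, map_zero] at hu
    exact (congrArg Subtype.val hu).symm

end GI2

/-- **four planes** -/
theorem boxGI2 : BoxGI2 := fun _ F _ _ A P hD h2 h hA => by
  have h1 : ∀ g : E (Q8 F), g ∈ A.comap (QuotientGroup.mk' _) ↔ ∀ i, ∃ k, FixO.im g (P i) = P k := fun g =>
    (hA g).trans (forall_congr' fun i => exists_congr fun k =>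
      ⟨fun h3 => FixO.im_eq h3 ((h2 k).trans (h2 i).symm).le, fun h3 v hv => h3.le ⟨v, hv, rfl⟩⟩)
  have h7 : 7 ≤ finrank F (V8 F) := by simp
  refine (N2.good_comap (QuotientGroup.mk' _) (QuotientGroup.mk'_surjective _) A).1 ?_
  rcases h with h | ⟨h4, h⟩
  · exact FrO.good_even_fr h7 (fun i => GI2.sg_minus (h2 i) (h i)) hD.orth hD.span (by simp) one_ne_zero
      (fun h3 => absurd h3 (by norm_num)) h1
  · exact FrO.good_even_fr h7 (fun i => GI2.sg_plus (h2 i) (hD.nd nondeg8 i) (h i)) hD.orth hD.span (by simp) one_ne_zero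
      (fun _ _ => by rwa [← Nat.card_eq_fintype_card]) h1

end Cfsg.Agent.N2C.D4
end

-- part: N2/Cl/D4/P2
section
/-!
# N2 (S3519), `PΩ₈⁺(q)`: isometries of planes (helper50)

`boxP2 : BoxP2`, `boxP2K : BoxP2K`.
-/

set_option autoImplicit false
set_option linter.unusedSectionVars false

namespace Cfsg.Agent.N2C.D4

open QuadraticMap Module Cfsg.Agent.LieClassical.OrthCore Cfsg.Agent.ClassicalGeometry.Triality Cfsg.Agent.SB.D4

namespace P2

section mat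

variable {K : Type*} [Field K] {a b c : K} {M N : Matrix (Fin 2) (Fin 2) K}

/-- the operator of the form `a x² + b x y + c y²` -/
def TT (a b c : K) : Matrix (Fin 2) (Fin 2) K := !![0, -c; a, b]

/-- isometries -/
structure Is (a b c : K) (M : Matrix (Fin 2) (Fin 2) K) : Prop where
  e1 : M 0 0 ^ 2 * a + M 0 0 * M 1 0 * b + M 1 0 ^ 2 * c = a
  e2 : M 0 1 ^ 2 * a + M 0 1 * M 1 1 * b + M 1 1 ^ 2 * c = c
  e3 : (M 0 0 + M 0 1) ^ 2 * a + (M 0 0 + M 0 1) * (M 1 0 + M 1 1) * b + (M 1 0 + M 1 1) ^ 2 * c = a + b + c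

/-- the defect -/
def ll (a b c : K) (M : Matrix (Fin 2) (Fin 2) K) : K := -(c * M 1 0 * M 1 1) - a * M 0 0 * M 0 1 - b * M 0 1 * M 1 0

/-- commutation up to `l` -/
def R (a b c : K) (M : Matrix (Fin 2) (Fin 2) K) (l : K) : Prop := TT a b c * M = M * TT a b c + l • M

theorem Is.r (h : Is a b c M) (hd : M.det = 1) : R a b c M (ll a b c M) := by
  have h1 : M.adjugate * (TT a b c * M) = TT a b c + ll a b c M • 1 := by
    obtain ⟨e1, e2, e3⟩ := h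
    ext i j
    (revert i j; simp only [TT, ll, Matrix.adjugate_fin_two, Matrix.mul_apply, Fin.sum_univ_two, Matrix.vecMul, dotProduct, _root_.Fin.forall_fin_succ, Fin.isValue, _root_.Matrix.cons_mul, _root_.Nat.succ_eq_add_one, Nat.reduceAdd, _root_.Matrix.empty_mul, _root_.Equiv.symm_apply_apply, _root_.Matrix.of_apply, _root_.Matrix.cons_val', _root_.Matrix.cons_val_fin_one, _root_.Matrix.cons_val_zero, _root_.MulZeroClass.zero_mul, _root_.Matrix.cons_val_one, _root_.neg_mul, _root_.zero_add, _root_.mul_neg, _root_.Matrix.add_apply, _root_.Matrix.smul_apply, _root_.smul_eq_mul, _root_.Matrix.cons_val_succ, _root_.Fin.succ_zero_eq_one, _root_.IsEmpty.forall_iff, _root_.Matrix.one_apply_eq, _root_.mul_one, _root_.ne_eq, _root_.zero_ne_one, _root_.not_false_eq_true, _root_.Matrix.one_apply_ne, _root_.MulZeroClass.mul_zero, _root_.add_zero, _root_.neg_neg, _root_.Fin.succ_ne_zero, _root_.and_true,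 _root_.true_and]) <;> (repeat' with_reducible apply And.intro)
    · ring
    · linear_combination -e2
    · linear_combination e1
    · linear_combination e3 - e1 - e2
  have h2 := congrArg (M * ·) h1
  simp only [← mul_assoc, Matrix.mul_adjugate, hd, one_smul, one_mul, mul_add, Matrix.mul_smul, mul_one] at h2
  exact h2

theorem Is.two (h : Is a b c M) (hd : M.det = 1) : 2 * ll a b c M = 0 := by
  rw [Matrix.det_fin_two] at hd
  obtain ⟨e1, e2, e3⟩ := h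
  unfold ll
  linear_combination e1 + e2 - e3 + b * hd

theorem Is.det (h : Is a b c M) (hD : b ^ 2 - 4 * a * c ≠ 0) : M.det ^ 2 = 1 := by
  obtain ⟨e1, e2, e3⟩ := h
  have e4 : 2 * a * M 0 0 * M 0 1 + b * (M 0 0 * M 1 1 + M 0 1 * M 1 0) + 2 * c * M 1 0 * M 1 1 = b := by
    linear_combination e3 - e1 - e2
  refine mul_right_cancel₀ hD ?_
  rw [Matrix.det_fin_two]
  linear_combination (2 * a * M 0 0 * M 0 1 + b * (M 0 0 * M 1 1 + M 0 1 * M 1 0) + 2 * c * M 1 0 * M 1 1 + b) * e4 -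
    4 * (M 0 1 ^ 2 * a + M 0 1 * M 1 1 * b + M 1 1 ^ 2 * c) * e1 - 4 * a * e2

theorem R.mul {l l' : K} (h : R a b c M l) (h' : R a b c N l') : R a b c (M * N) (l + l') := by
  unfold R at *
  rw [← mul_assoc, h, add_mul, mul_assoc, h', mul_add, Matrix.mul_smul, Matrix.smul_mul, add_smul, ← mul_assoc]
  abel

theorem R.unique {l l' : K} (hd : M.det = 1) (h : R a b c M l) (h' : R a b c M l') : l = l' := by
  have h1 : (l - l') • M = 0 := by rw [sub_smul, sub_eq_zero]; exact add_left_cancel (h.symm.trans h')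
  refine sub_eq_zero.1 ((smul_eq_zero.1 h1).resolve_right fun e => ?_)
  rw [e, Matrix.det_zero] at hd
  exact zero_ne_one hd

theorem R.one : R a b c 1 0 := by simp [R]

theorem R.pow {l : K} (h : R a b c M l) (n : ℕ) : R a b c (M ^ n) (n * l) := by
  induction n with
  | zero => simpa using R.one
  | succ n ih => simpa only [pow_succ, add_mul, _root_.Nat.cast_add, _root_.Nat.cast_one, _root_.one_mul] using ih.mul h

theorem R.comm (h0 : a ≠ 0 ∨ b ≠ 0 ∨ c ≠ 0) (h : R a b c M 0) (h' : R a b c N 0) : M * N = N * M := by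
  have e := fun i j => congrFun (congrFun h i) j
  have e' := fun i j => congrFun (congrFun h' i) j
  have e1 := e 0 0
  have e2 := e 0 1
  have e3 := e 1 0
  have e1' := e' 0 0
  have e2' := e' 0 1
  have e3' := e' 1 0
  simp only [TT, Matrix.mul_apply, Fin.sum_univ_two, _root_.Fin.isValue, _root_.Matrix.of_apply, _root_.Matrix.cons_val', _root_.Matrix.cons_val_fin_one, _root_.Matrix.cons_val_zero, _root_.MulZeroClass.zero_mul, _root_.Matrix.cons_val_one, _root_.neg_mul, _root_.zero_add, _root_.zero_smul, _root_.Matrix.add_apply, _root_.MulZeroClass.mul_zero, _root_.Matrix.zero_apply, _root_.add_zero, _root_.mul_neg] at e1 e2 e3 e1' e2' e3'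
  have k : M 0 1 * N 1 0 = N 0 1 * M 1 0 ∧ (M 1 1 - M 0 0) * N 0 1 = (N 1 1 - N 0 0) * M 0 1 ∧
      (M 1 1 - M 0 0) * N 1 0 = (N 1 1 - N 0 0) * M 1 0 := by
    rcases h0 with h0 | h0 | h0
    · refine ⟨mul_left_cancel₀ h0 ?_, mul_left_cancel₀ (mul_ne_zero h0 h0) ?_, mul_left_cancel₀ h0 ?_⟩
      · linear_combination M 1 0 * e1' - N 1 0 * e1
      · linear_combination (a * M 0 1) * e3' - (a * N 0 1) * e3 + (b * N 1 0) * e1 - (b * M 1 0) * e1'
      · linear_combination M 1 0 * e3' - N 1 0 * e3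
    · refine ⟨mul_left_cancel₀ h0 ?_, mul_left_cancel₀ h0 ?_, mul_left_cancel₀ h0 ?_⟩
      · linear_combination M 0 1 * e3' - (N 1 1 - N 0 0) * e1 + M 1 0 * e2'
      · linear_combination (N 1 1 - N 0 0) * e2 - (M 1 1 - M 0 0) * e2'
      · linear_combination (M 1 1 - M 0 0) * e3' - (N 1 1 - N 0 0) * e3
    · refine ⟨mul_left_cancel₀ h0 ?_, mul_left_cancel₀ h0 ?_, mul_left_cancel₀ h0 ?_⟩
      · linear_combination N 0 1 * e1 - M 0 1 * e1'
      · linear_combination M 0 1 * e2' - N 0 1 * e2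
      · linear_combination (N 1 1 - N 0 0) * e1 - N 1 0 * e2 - M 0 1 * e3'
  obtain ⟨k1, k2, k3⟩ := k
  ext i j
  fin_cases i <;> fin_cases j <;> simp only [Matrix.mul_apply, Fin.sum_univ_two, _root_.Fin.zero_eta, _root_.Fin.isValue, _root_.Fin.mk_one]
  · linear_combination k1
  · linear_combination -k2
  · linear_combination k3
  · linear_combination -k1

theorem Is.odd (h : Is a b c M) (hD : b ^ 2 - 4 * a * c ≠ 0) {n : ℕ} (hn : Odd n) (e : M ^ n = 1) : R a b c M 0 := by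
  obtain ⟨k, rfl⟩ := hn
  have h1 : M.det = 1 := by
    have h1 := congrArg Matrix.det e
    rwa [Matrix.det_pow, pow_succ, pow_mul, h.det hD, one_pow, one_mul, Matrix.det_one] at h1
  have h2 := (h.r h1).pow (2 * k + 1)
  rw [e] at h2
  have h3 := h2.unique Matrix.det_one R.one
  have h4 : ll a b c M = 0 := by
    push_cast at h3
    linear_combination h3 - k * h.two h1
  exact h4 ▸ h.r h1

theorem hom_triv {G A : Type*} [Group G] [CommMonoid A] (hG : commutator G = ⊤) (f : G →* A) (g : G) : f g = 1 := by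
  have h1 : commutator G ≤ f.toHomUnits.ker := Abelianization.commutator_subset_ker _
  exact congrArg Units.val (MonoidHom.mem_ker.1 (h1 (hG ▸ Subgroup.mem_top g)))

theorem perf {G : Type*} [Group G] (hG : commutator G = ⊤) (h0 : a ≠ 0 ∨ b ≠ 0 ∨ c ≠ 0)
    (ρ : G →* Matrix (Fin 2) (Fin 2) K) (h : ∀ g, Is a b c (ρ g)) (g : G) : ρ g = 1 := by
  have h1 : ∀ g, (ρ g).det = 1 := hom_triv hG (Matrix.detMonoidHom.comp ρ)
  let f : G →* Multiplicative K := MonoidHom.mk' (fun g => Multiplicative.ofAdd (ll a b c (ρ g))) fun x y => by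
    have h2 := ((h x).r (h1 x)).mul ((h y).r (h1 y))
    rw [← map_mul] at h2
    exact congrArg Multiplicative.ofAdd (((h _).r (h1 _)).unique (h1 _) h2)
  have h2 : ∀ g, R a b c (ρ g) 0 := fun g => by
    have h2 : ll a b c (ρ g) = 0 := hom_triv hG f g
    exact h2 ▸ (h g).r (h1 g)
  have h3 : commutator G ≤ ρ.toHomUnits.ker := by
    rw [commutator_def, Subgroup.commutator_le]
    intro x _ y _
    rw [MonoidHom.mem_ker, map_commutatorElement, commutatorElement_eq_one_iff_mul_comm]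
    exact Units.ext ((h2 x).comm h0 (h2 y))
  exact congrArg Units.val (MonoidHom.mem_ker.1 (h3 (hG ▸ Subgroup.mem_top g)))

end mat

section plane

variable {K W : Type*} [Field K] [AddCommGroup W] [Module K W] {θ : W → K} {β : W → W → K}

/-- a quadratic form with its polar form -/
structure Qf (θ : W → K) (β : W → W → K) : Prop where
  smul : ∀ (k : K) x, θ (k • x) = k ^ 2 * θ x
  add : ∀ x y, θ (x + y) = θ x + θ y + β x y
  bil : ∀ (k l : K) x y, β (k • x) (l • y) = k * l * β x y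

theorem Qf.val (h : Qf θ β) (k l : K) (x y : W) : θ (k • x + l • y) = k ^ 2 * θ x + k * l * β x y + l ^ 2 * θ y := by
  rw [h.add, h.smul, h.smul, h.bil]
  ring

theorem app (e : Basis (Fin 2) K W) (f : Module.End K W) (j : Fin 2) :
    f (e j) = LinearMap.toMatrixAlgEquiv e f 0 j • e 0 + LinearMap.toMatrixAlgEquiv e f 1 j • e 1 := by
  rw [LinearMap.toMatrixAlgEquiv_apply, LinearMap.toMatrixAlgEquiv_apply, ← Fin.sum_univ_two
    (fun i => e.repr (f (e j)) i • e i), e.sum_repr]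

theorem Qf.is (h : Qf θ β) (e : Basis (Fin 2) K W) {f : Module.End K W} (hf : ∀ x, θ (f x) = θ x) :
    Is (θ (e 0)) (β (e 0) (e 1)) (θ (e 1)) (LinearMap.toMatrixAlgEquiv e f) := by
  refine ⟨?_, ?_, ?_⟩
  · rw [← h.val, ← app, hf]
  · rw [← h.val, ← app, hf]
  · have h1 := hf (e 0 + e 1)
    rw [map_add, app, app, add_add_add_comm, ← add_smul, ← add_smul, h.val, h.add] at h1
    rw [h1]
    ring

theorem Qf.perf (h : Qf θ β) (h2 : finrank K W = 2) {x : W} (hx : θ x ≠ 0) {G : Type*} [Group G]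
    (hG : commutator G = ⊤) (ρ : G →* Module.End K W) (hρ : ∀ g x, θ (ρ g x) = θ x) (g : G) : ρ g = 1 := by
  have := Module.finite_of_finrank_eq_succ h2
  let e := Module.finBasisOfFinrankEq K W h2
  refine (LinearMap.toMatrixAlgEquiv e).injective ((P2.perf hG ?_
    ((LinearMap.toMatrixAlgEquiv e).toAlgHom.toMonoidHom.comp ρ) (fun g => h.is e (hρ g)) g).trans (map_one _).symm)
  by_contra h0
  push Not at h0
  refine hx ?_
  rw [← e.sum_repr x, Fin.sum_univ_two, h.val, h0.1, h0.2.1, h0.2.2]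
  ring

end plane

section form

variable {F W : Type*} [Field F] [AddCommGroup W] [Module F W] (Q : QuadraticForm F W)

theorem qf : Qf Q (polar Q) :=
  ⟨fun k x => by rw [Q.map_smul, smul_eq_mul, pow_two], fun x y => by rw [polar]; ring,
    fun k l x y => by rw [polar_smul_left, polar_smul_right, smul_eq_mul, smul_eq_mul, mul_assoc]⟩

theorem exists_Q_ne [Nontrivial W] (hQ : ∀ x, (∀ y, polar Q x y = 0) → x = 0) : ∃ x, Q x ≠ 0 := by
  by_contra h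
  push Not at h
  obtain ⟨x, hx⟩ := exists_ne (0 : W)
  exact hx (hQ x fun y => by rw [polar, h, h, h, sub_zero, sub_zero])

theorem odd_comm (h2 : finrank F W = 2) (hQ : ∀ x, (∀ y, polar Q x y = 0) → x = 0) {f g : Module.End F W}
    (hf : ∀ x, Q (f x) = Q x) (hg : ∀ x, Q (g x) = Q x) {m n : ℕ} (hm : Odd m) (hn : Odd n) (e1 : f ^ m = 1)
    (e2 : g ^ n = 1) : f * g = g * f := by
  have := Module.finite_of_finrank_eq_succ h2
  let e := Module.finBasisOfFinrankEq F W h2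
  have hD : polar Q (e 0) (e 1) ^ 2 - 4 * Q (e 0) * Q (e 1) ≠ 0 := fun hD => by
    have h1 : ∀ k l : F, polar Q (k • e 0 + l • e 1) (e 0) = 0 → polar Q (k • e 0 + l • e 1) (e 1) = 0 →
        k = 0 ∧ l = 0 := fun k l h1 h2 => by
      have h3 := hQ (k • e 0 + l • e 1) fun y => by
        rw [← e.sum_repr y, Fin.sum_univ_two, polar_add_right, polar_smul_right, polar_smul_right, h1, h2, smul_zero,
          smul_zero, add_zero]
      have h4 := Fintype.linearIndependent_iff.1 e.linearIndependent ![k, l] (by simpa only [_root_.Fin.sum_univ_two, _root_.Fin.isValue, _root_.Matrix.cons_val_zero, _root_.Matrix.cons_val_one, _root_.Matrix.cons_val_fin_one] using h3)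
      exact ⟨h4 0, h4 1⟩
    simp only [polar_add_left, polar_smul_left, polar_self, smul_eq_mul, polar_comm Q (e 1) (e 0), nsmul_eq_mul,
      Nat.cast_ofNat] at h1
    have h3 := h1 (polar Q (e 0) (e 1)) (-(2 * Q (e 0))) (by ring) (by linear_combination hD)
    exact one_ne_zero (h1 1 0 (by linear_combination -h3.2) (by linear_combination h3.1)).1
  have h0 : Q (e 0) ≠ 0 ∨ polar Q (e 0) (e 1) ≠ 0 ∨ Q (e 1) ≠ 0 := by
    by_contra h0
    push Not at h0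
    exact hD (by rw [h0.1, h0.2.1]; ring)
  refine (LinearMap.toMatrixAlgEquiv e).injective ?_
  rw [map_mul, map_mul]
  exact (((qf Q).is e hf).odd hD hm (by rw [← map_pow, e1, map_one])).comm h0
    (((qf Q).is e hg).odd hD hn (by rw [← map_pow, e2, map_one]))

theorem ext_perf [Finite F] (h4 : finrank F W = 4) (hQ : ∀ x, (∀ y, polar Q x y = 0) → x = 0) (j : Module.End F W)
    {t d : F} (hj : ∀ x, j (j x) = t • j x + d • x) (hc : ∀ c : F, c * c ≠ t * c + d)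
    (hs : ∀ x y, polar Q (j x) y = polar Q x (j y)) (h2 : (2 : F) = 0 → ∀ x, polar Q (j x) x = 0) {G : Type*} [Group G]
    (hG : commutator G = ⊤) (ρ : G →* Module.End F W) (hρ : ∀ g x, Q (ρ g x) = Q x) (hρj : ∀ g x, ρ g (j x) = j (ρ g x))
    (g : G) (x : W) : ρ g x = x := by
  have : Fact (∀ r : F, r ^ 2 ≠ d + t * r) := ⟨fun r h => hc r (by linear_combination h)⟩
  let φ : QuadraticAlgebra F d t →ₐ[F] Module.End F W :=
    QuadraticAlgebra.lift ⟨j, LinearMap.ext fun x => by simp only [hj, add_comm, _root_.Module.End.mul_apply, _root_.LinearMap.add_apply, _root_.LinearMap.smul_apply, _root_.Module.End.one_apply]⟩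
  let _ : Module (QuadraticAlgebra F d t) W := Module.compHom W φ.toRingHom
  have hk : ∀ (k : QuadraticAlgebra F d t) (x : W), k • x = k.re • x + k.im • j x := fun _ _ => rfl
  have : IsScalarTower F (QuadraticAlgebra F d t) W := ⟨fun r k x => by simp [hk, mul_smul]⟩
  have hW : finrank (QuadraticAlgebra F d t) W = 2 := by
    have h1 := Module.finrank_mul_finrank F (QuadraticAlgebra F d t) W
    rw [QuadraticAlgebra.finrank_eq_two, h4] at h1
    omega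
  have : Nontrivial W := Module.nontrivial_of_finrank_eq_succ h4
  obtain ⟨x₀, hx₀⟩ := exists_Q_ne Q hQ
  let ρ' : G →* Module.End (QuadraticAlgebra F d t) W :=
    { toFun := fun g => ⟨(ρ g).toAddHom, fun k x => by simp [hk, hρj]⟩
      map_one' := LinearMap.ext fun x => by simp only [_root_.map_one, _root_.LinearMap.coe_mk, _root_.LinearMap.coe_toAddHom, _root_.Module.End.one_apply]
      map_mul' := fun a b => LinearMap.ext fun x => by simp only [_root_.map_mul, _root_.LinearMap.coe_mk, _root_.LinearMap.coe_toAddHom, _root_.Module.End.mul_apply] }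
  have hB : ∀ g x y, polar Q (ρ g x) (ρ g y) = polar Q x y := fun g x y => by
    rw [polar, ← map_add, hρ, hρ, hρ, polar]
  let β : W → W → QuadraticAlgebra F d t := fun x y => ⟨polar Q (j x) y - t * polar Q x y, polar Q x y⟩
  have hjj : ∀ x y, polar Q (j x) (j y) = t * polar Q (j x) y + d * polar Q x y := fun x y => by
    rw [← hs, hj, polar_add_left, polar_smul_left, polar_smul_left, smul_eq_mul, smul_eq_mul]
  have hβ : ∀ (k l : QuadraticAlgebra F d t) x y, β (k • x) (l • y) = k * l * β x y := fun k l x y => by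
    ext <;> simp only [β, hk, hj, polar_add_left, polar_add_right, polar_smul_left, polar_smul_right, hjj, ← hs x y, _root_.map_add, _root_.map_smul, _root_.smul_add, _root_.smul_eq_mul, _root_.QuadraticAlgebra.re_mul, _root_.QuadraticAlgebra.im_mul] <;> ring
  suffices h : ∃ (θ : W → QuadraticAlgebra F d t) (e : QuadraticAlgebra F d t), Qf θ (fun x y => e * β x y) ∧ θ x₀ ≠ 0 ∧
      ∀ g x, θ (ρ g x) = θ x by
    obtain ⟨θ, e, h1, h3, h5⟩ := h
    exact LinearMap.congr_fun (h1.perf hW h3 hG ρ' h5 g) x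
  by_cases h : (2 : F) = 0
  · have ht : t ≠ 0 := by
      rintro rfl
      have : CharP F 2 := CharTwo.of_one_ne_zero_of_two_eq_zero one_ne_zero h
      obtain ⟨c, e⟩ := surjective_frobenius F 2 d
      exact hc c (by rw [← e, frobenius_def]; ring)
    have hq : ∀ (u v : F) x, Q (u • x + v • j x) = u ^ 2 * Q x + v ^ 2 * Q (j x) := fun u v x => by
      rw [(qf Q).val, polar_comm, h2 h x]
      ring
    refine ⟨fun x => ⟨Q (j x) - (d + t ^ 2) * Q x, t * Q x⟩, ⟨t, 0⟩, ⟨fun k x => ?_, fun x y => ?_, fun k l x y => ?_⟩,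
      fun e => mul_ne_zero ht hx₀ (congrArg QuadraticAlgebra.im e), fun g x => by simp only [← hρj, hρ]⟩
    · have h5 : j (k • x) = (k.im * d) • x + (k.re + k.im * t) • j x := by
        rw [hk, map_add, map_smul, map_smul, hj]
        module
      rw [h5, hk, hq, hq]
      ext <;> simp only [pow_two, _root_.QuadraticAlgebra.re_mul, _root_.QuadraticAlgebra.im_mul]
      · linear_combination ((k.im ^ 2 * d ^ 2 - d * t * k.re * k.im) * Q x + (k.re * k.im * t - d * k.im ^ 2) * Q (j x)) * h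
      · linear_combination (k.re * k.im * d * Q x - k.re * k.im * Q (j x)) * h
    · rw [map_add, (qf Q).add, (qf Q).add, hjj]
      ext <;> simp only [β, _root_.QuadraticAlgebra.mk_mul_mk, _root_.MulZeroClass.mul_zero, _root_.MulZeroClass.zero_mul, _root_.add_zero, _root_.QuadraticAlgebra.re_add, _root_.QuadraticAlgebra.im_add] <;> ring
    · rw [hβ]
      ring
  · refine ⟨fun x => β x x, 2, ⟨fun k x => by rw [hβ, pow_two], fun x y => ?_, fun k l x y => ?_⟩, fun e => ?_,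
      fun g x => by simp only [β, ← hρj, hB]⟩
    · ext <;> simp only [β, polar_add_left, polar_add_right, hs y x, (qf Q).add x y, polar_comm Q y (j x), two_mul, _root_.map_add, _root_.QuadraticMap.polar_self, _root_.smul_add, _root_.nsmul_eq_mul, _root_.Nat.cast_ofNat, _root_.QuadraticAlgebra.re_add, _root_.QuadraticAlgebra.im_add] <;> ring
    · rw [hβ]
      ring
    · have h5 : polar Q x₀ x₀ = 0 := congrArg QuadraticAlgebra.im e
      rw [polar_self, nsmul_eq_mul, Nat.cast_ofNat] at h5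
      exact mul_ne_zero h hx₀ h5

end form

variable {F : Type} [Field F]

theorem nd {P : Submodule F (V8 F)} (h : Nd (Q8 F) P) (x : P) (hx : ∀ y, polar ((Q8 F).comp P.subtype) x y = 0) :
    x = 0 := Subtype.ext ((h x x.2 fun y hy => by simpa only [polar, _root_.QuadraticMap.comp_apply, _root_.Submodule.subtype_apply, _root_.Submodule.coe_add] using hx ⟨y, hy⟩ : _))

/-- the action on an invariant subspace -/
def res {L : Subgroup (E8 F)} {P : Submodule F (V8 F)} (h : Iv L P) : L →* Module.End F P where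
  toFun a := a.1.1.toLinearMap.restrict (h a a.2)
  map_one' := LinearMap.ext fun _ => rfl
  map_mul' _ _ := LinearMap.ext fun _ => rfl

theorem perf_of {G : Type*} [Group G] {L : Subgroup G} (h : ⁅L, L⁆ = L) : commutator L = ⊤ :=
  Subgroup.map_injective L.subtype_injective (by
    rw [Subgroup.map_subtype_commutator, h, ← MonoidHom.range_eq_map, Subgroup.range_subtype])

end P2

open P2

theorem boxP2 : BoxP2 := by
  intro F _ _ P h2 hP
  refine ⟨fun g h hg hh og oh mg mh x hx => ?_, fun L hL hI a ha x hx => ?_⟩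
  · have key : ∀ (g : GL8 F) (mg : ∀ x ∈ P, g x ∈ P), (g.toLinearMap.restrict mg) ^ orderOf g = 1 := fun g mg => by
      rw [Module.End.pow_restrict]
      refine LinearMap.ext fun x => Subtype.ext ?_
      have h1 : g.toLinearMap ^ orderOf g = 1 := by
        rw [show g.toLinearMap = LinearEquiv.automorphismGroup.toLinearMapMonoidHom g from rfl, ← map_pow,
          pow_orderOf_eq_one, map_one]
      rw [LinearMap.coe_restrict_apply, h1]
      rfl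
    exact congrArg Subtype.val (LinearMap.congr_fun (odd_comm ((Q8 F).comp P.subtype) h2 (nd hP)
      (fun x => (hg x :)) (fun x => hh x) og oh (key g mg) (key h mh)) ⟨x, hx⟩)
  · have : Nontrivial P := Module.nontrivial_of_finrank_eq_succ h2
    obtain ⟨x₀, hx₀⟩ := exists_Q_ne _ (nd hP)
    exact congrArg Subtype.val (LinearMap.congr_fun ((qf ((Q8 F).comp P.subtype)).perf h2 hx₀ (perf_of hL) (res hI)
      (fun g x => (E_le_O g.1.2 x :)) ⟨a, ha⟩) ⟨x, hx⟩)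

theorem boxP2K : BoxP2K := by
  intro F _ _ W j t d L h4 hW mj hj hc hs h2 hL hI hc' a ha x hx
  exact congrArg Subtype.val (ext_perf ((Q8 F).comp W.subtype) h4 (nd hW) (j.restrict mj)
    (fun x => Subtype.ext ((hj x x.2 :))) hc (fun x y => by simpa only [polar, _root_.QuadraticMap.comp_apply, _root_.Submodule.subtype_apply, _root_.Submodule.coe_add, _root_.LinearMap.coe_restrict_apply] using hs x x.2 y y.2)
    (fun h x => by simpa only [polar, _root_.QuadraticMap.comp_apply, _root_.Submodule.subtype_apply, _root_.Submodule.coe_add, _root_.LinearMap.coe_restrict_apply] using h2 h x x.2) (perf_of hL) (res hI) (fun g x => E_le_O g.1.2 x)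
    (fun g x => Subtype.ext (hc' g g.2 x x.2)) ⟨a, ha⟩ ⟨x, hx⟩)

end Cfsg.Agent.N2C.D4
end

-- part: N2/Cl/D4/Psi
section
/-!
# N2 (S3519), `PΩ₈⁺(q)`: inverted graph automorphisms of order three (helper39)

* `PsiB.Iw x y` : `y` inverts `x` and is trivial on its fixed points; `PsiB.not_B`, `PsiB.not_f` : two impossible cases;
* `PsiB.exists_three`, `PsiB.fix_one` : the fixed vector in the other two cases;  `boxPsi`.
-/

set_option autoImplicit false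
set_option linter.unusedSectionVars false

namespace Cfsg.Agent.N2C.D4

namespace PsiB

open Module QuadraticMap Cfsg.Agent.LieClassical.OrthCore Cfsg.Agent.LieClassical.OrthTrans
  Cfsg.Agent.LieClassical.OrthSimple Cfsg.Agent.ClassicalGeometry.OrthAut1
  Cfsg.Agent.ClassicalGeometry.OrthSemi Cfsg.Agent.H198.Classes
  Cfsg.Agent.LieClassical.QuadForms Cfsg.Agent.H198.ClassesPlus
  Cfsg.Agent.ClassicalGeometry.TrialityOct Cfsg.Agent.ClassicalGeometry.Triality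
  Cfsg.Agent.ClassicalGeometry.TrialitySpaces Cfsg.Agent.H198.TriBase Cfsg.Agent.H198.TriAut
  Cfsg.Agent.H198.TriDia Cfsg.Agent.H198.TriSpec Cfsg.Agent.H198.TriPhi Cfsg.Agent.H198.TriInn
  Cfsg.Agent.H669.TriBal
open Cfsg.Agent.H206.Balance (mem_Fx)

section abs

variable {K : Type} [Group K]

/-- `y` inverts `x` and is trivial on the fixed points -/
def Iw (x y : MulAut K) : Prop := y * x * y⁻¹ = x⁻¹ ∧ ∀ g, x g = g → y g = g

theorem Iw.conj {x y : MulAut K} (h : Iw x y) (α : MulAut K) : Iw (α * x * α⁻¹) (α * y * α⁻¹) := by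
  refine ⟨?_, fun g hg => ?_⟩
  · calc α * y * α⁻¹ * (α * x * α⁻¹) * (α * y * α⁻¹)⁻¹ = α * (y * x * y⁻¹) * α⁻¹ := by group
      _ = _ := by rw [h.1]; group
  · have h1 : x (α⁻¹ g) = α⁻¹ g := α.injective (hg.trans (α.apply_symm_apply g).symm)
    change α (y (α⁻¹ g)) = g
    rw [h.2 _ h1, MulAut.apply_inv_self]

theorem inv_fix {x : MulAut K} {g : K} (h : x g = g) : x⁻¹ g = g :=
  x.injective ((MulAut.apply_inv_self _ x g).trans h.symm)

theorem Iw.inv {x y : MulAut K} (h : Iw x y) : Iw x⁻¹ y :=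
  ⟨(show y * x⁻¹ * y⁻¹ = (y * x * y⁻¹)⁻¹ by group).trans (congrArg Inv.inv h.1), fun g hg => h.2 g (inv_inv x ▸ inv_fix hg)⟩

theorem Iw.mul {x y : MulAut K} (h : Iw x y) (i : ℕ) : Iw x ((x ^ i)⁻¹ * y) := by
  refine ⟨?_, fun g hg => ?_⟩
  · calc (x ^ i)⁻¹ * y * x * ((x ^ i)⁻¹ * y)⁻¹ = (x ^ i)⁻¹ * (y * x * y⁻¹) * x ^ i := by group
      _ = _ := by rw [h.1]; group
  · rw [MulAut.mul_apply, h.2 g hg]
    exact inv_fix ((MulAction.stabilizer (MulAut K) g).pow_mem hg i)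

end abs

theorem inv_aux {G : Type*} [Group G] {t r k θ : G} (h1 : r * t = t * r) (h2 : r * θ = θ * r) (h3 : k * k = 1)
    (h4 : k * r * k = r⁻¹) (h5 : k * t * k = t) (h6 : θ * t = t⁻¹ * θ) : θ * k * (t * r) * (θ * k)⁻¹ = (t * r)⁻¹ := by
  have h7 : k⁻¹ = k := inv_eq_of_mul_eq_one_left h3
  have h8 : r⁻¹ * θ⁻¹ = θ⁻¹ * r⁻¹ := by rw [← mul_inv_rev, ← h2, mul_inv_rev]
  calc θ * k * (t * r) * (θ * k)⁻¹ = θ * ((k * t * k) * (k⁻¹ * r * k⁻¹)) * θ⁻¹ := by group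
    _ = (θ * t) * (r⁻¹ * θ⁻¹) := by rw [h7, h4, h5]; group
    _ = (r * t)⁻¹ := by rw [h6, h8]; group
    _ = _ := by rw [h1]

theorem one_aux {G : Type*} [Group G] {x : G} (h1 : x = x⁻¹) (h3 : x ^ 3 = 1) : x = 1 := by
  rwa [pow_succ, pow_two, mul_eq_one_iff_eq_inv.2 h1, one_mul] at h3

variable {F : Type} [Field F]

theorem smul_one_inj {a b : F} (h : a • one8 F = b • one8 F) : a = b := by
  simpa [one8] using congrFun h (.inl 0)

/-- the signed transposition of the coordinates -/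
def thP (F : Type) [Field F] : Equiv.Perm (V8 F) where
  toFun x := Sum.elim ![x (.inl 0), -x (.inl 2), -x (.inl 1), -x (.inl 3)]
    ![x (.inr 0), -x (.inr 2), -x (.inr 1), -x (.inr 3)]
  invFun x := Sum.elim ![x (.inl 0), -x (.inl 2), -x (.inl 1), -x (.inl 3)]
    ![x (.inr 0), -x (.inr 2), -x (.inr 1), -x (.inr 3)]
  left_inv x := by apply ext8 <;> simp only [_root_.Fin.isValue, _root_.Sum.elim_inl, _root_.Matrix.cons_val_zero, _root_.Matrix.cons_val, _root_.neg_neg, _root_.Matrix.cons_val_one, _root_.Sum.elim_inr]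
  right_inv x := by apply ext8 <;> simp only [_root_.Fin.isValue, _root_.Sum.elim_inl, _root_.Matrix.cons_val_zero, _root_.Matrix.cons_val, _root_.neg_neg, _root_.Matrix.cons_val_one, _root_.Sum.elim_inr]

theorem isSS_thP : IsSS (plusForm 4 F) (RingEquiv.refl F) 1 (thP F) := by
  refine ⟨one_ne_zero, fun u v => ?_, fun c v => ?_, fun v => ?_⟩
  · apply ext8 <;> simp only [thP, add_comm, _root_.Fin.isValue, _root_.Equiv.coe_fn_mk, _root_.Pi.add_apply, _root_.neg_add_rev, _root_.Sum.elim_inl, _root_.Matrix.cons_val_zero, _root_.Matrix.cons_val_one, _root_.Matrix.cons_val, _root_.Sum.elim_inr]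
  · apply ext8 <;> simp only [thP, _root_.Fin.isValue, _root_.Equiv.coe_fn_mk, _root_.Pi.smul_apply, _root_.smul_eq_mul, _root_.Sum.elim_inl, _root_.Matrix.cons_val_zero, _root_.RingEquiv.refl_apply, _root_.Matrix.cons_val_one, _root_.mul_neg, _root_.Matrix.cons_val, _root_.Sum.elim_inr]
  · rw [norm8, norm8]
    simp only [thP, _root_.Fin.isValue, _root_.Equiv.coe_fn_mk, _root_.Sum.elim_inl, _root_.Matrix.cons_val_zero, _root_.Sum.elim_inr, _root_.Matrix.cons_val_one, _root_.mul_neg, _root_.neg_mul, _root_.neg_neg, _root_.Matrix.cons_val, _root_.RingEquiv.refl_apply, _root_.one_mul, _root_.add_left_inj]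
    ring

/-- an octonion automorphism which inverts `tauB` -/
def th (F : Type) [Field F] : G8 F := ⟨thP F, _, _, isSS_thP⟩

theorem tri_th : TriS (th F) (th F) (th F) := by
  intro x y
  apply ext8 <;>
  simp only [th, thP, omul_l0, omul_l1, omul_l2, omul_l3, omul_r0, omul_r1, omul_r2, omul_r3, Equiv.coe_fn_mk, Sum.elim_inl,
    Sum.elim_inr, Matrix.cons_val_zero, Matrix.cons_val_one, Matrix.cons_val] <;>
  ring

theorem th_tau : th F * tauB F = (tauB F)⁻¹ * th F := by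
  apply Subtype.ext
  ext1 x
  apply ext8 <;> rfl

theorem th_dia (u w : V8 F) : (th F * kapG F).1 (dia (tauB F) u w) =
    dia (tauB F) ((th F * kapG F).1 w) ((th F * kapG F).1 u) := by
  have e : ∀ x : V8 F, (th F * kapG F).1 x = thP F (oconj x) := fun _ => rfl
  rw [e, e, e]
  apply ext8 <;>
  simp only [thP, dia_l0, dia_l1, dia_l2, dia_l3, dia_r0, dia_r1, dia_r2, dia_r3, oconj_l0, oconj_l1, oconj_l2, oconj_l3,
    oconj_r0, oconj_r1, oconj_r2, oconj_r3, Equiv.coe_fn_mk, Sum.elim_inl, Sum.elim_inr, Matrix.cons_val_zero,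
    Matrix.cons_val_one, Matrix.cons_val] <;>
  ring

variable (hG : Good (plusForm 4 F))

theorem kap_sq : Psi (plusForm 4 F) (kapG F) * Psi (plusForm 4 F) (kapG F) = 1 := by
  simp only [← map_mul (Psi (plusForm 4 F)), kapG_mul_kapG, map_one (Psi (plusForm 4 F))]

theorem kap_psi {τ : G8 F} (hτ : TriS τ τ τ) :
    Psi (plusForm 4 F) (kapG F) * Psi (plusForm 4 F) τ * Psi (plusForm 4 F) (kapG F) = Psi (plusForm 4 F) τ := by
  simp only [← map_mul (Psi (plusForm 4 F)), ← map_mul (Psi (plusForm 4 F)), aut_kap hτ]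

theorem xt_ne {τ : G8 F} (hτ : TriS τ τ τ) (ho : τ ^ 3 = 1) : xt hG τ ≠ (xt hG τ)⁻¹ := fun h =>
  xt_not_mem hG τ (by ((conv => enter [@5]; rw [one_aux h (xt_pow_three hG hτ ho)])); exact Subgroup.one_mem _)

theorem th_inv : Psi (plusForm 4 F) (th F * kapG F) * xt hG (tauB F) * (Psi (plusForm 4 F) (th F * kapG F))⁻¹ =
    (xt hG (tauB F))⁻¹ := by
  ((conv => enter [@2, @5, @5]; rw [map_mul (Psi (plusForm 4 F))]); (conv => enter [@2, @6, @3]; rw [map_mul (Psi (plusForm 4 F))]))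
  exact inv_aux (rho_comm hG tri_tauB) (rho_comm hG tri_th) kap_sq (kap_rho_kap hG) (kap_psi tri_tauB) (by
    simp only [← map_inv (Psi (plusForm 4 F)), ← map_mul (Psi (plusForm 4 F)), ← map_mul (Psi (plusForm 4 F)), th_tau])

/-- the vector fixed by the automorphisms of the product in characteristic three -/
theorem exists_three [Finite F] (h3 : (3 : F) = 0) {τ : G8 F} (hτ : TriS τ τ τ)
    (hs : IsSS (plusForm 4 F) (RingEquiv.refl F) 1 τ.1) (ho : τ ^ 3 = 1) :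
    ∃ e : V8 F, e ≠ 0 ∧ ∀ g ∈ AutD τ, g e = e := by
  have := Fact.mk Nat.prime_three
  have : CharP F 3 := (CharP.charP_iff_prime_eq_zero Nat.prime_three).2 h3
  have hi : IsSS (plusForm 4 F) (RingEquiv.refl F) 1 τ⁻¹.1 := by simpa using hs.inv
  have ka : ∀ x y : V8 F, oconj (x + y) = oconj x + oconj y := (kap F).map_add
  have ks : ∀ (c : F) (x : V8 F), oconj (c • x) = c • oconj x := (kap F).map_smul
  have kp : ∀ u v : V8 F, polar (plusForm 4 F) (oconj u) (oconj v) = polar (plusForm 4 F) u v := fun u v =>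
    H126.TriRigid.polar_O kap_mem u v
  have a1 : ∀ u u' w, dia τ (u + u') w = dia τ u w + dia τ u' w := fun u u' w => by
    rw [dia, dia, dia, ka, hi.add, add_omul]
  have a2 : ∀ u w w', dia τ u (w + w') = dia τ u w + dia τ u w' := fun u w w' => by
    rw [dia, dia, dia, ka, hs.add, omul_add]
  have a3 : ∀ (c : F) u, dia τ (c • u) (c • u) = (c * c) • dia τ u u := fun c u => by
    rw [dia, dia, ks, hs.smul, hi.smul, smul_omul, omul_smul, smul_smul]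
    rfl
  have cy : ∀ u w z, polar (plusForm 4 F) (dia τ u w) z = polar (plusForm 4 F) (dia τ w z) u := fun u w z => by
    have e1 : τ.1 (τ⁻¹.1 (oconj u)) = oconj u := τ.1.apply_symm_apply _
    have e2 : τ.1 (τ.1 w) = τ⁻¹.1 w := by
      rw [← mul_eq_one_iff_eq_inv.1 (show τ * τ * τ = 1 by rw [← ho, pow_three'])]
      rfl
    have e3 := hs.polar (τ⁻¹.1 (oconj u)) (omul z (τ.1 w))
    rw [one_mul, RingEquiv.refl_apply, e1, hτ, e2] at e3
    rw [dia, polar_omul, aut_oconj hτ w, oconj_oconj, ← e3, ← kp, oconj_oconj, oconj_omul, polar_comm, dia,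
      aut_oconj hτ, aut_oconj hτ.inv]
  let f : V8 F →ₗ[F] F :=
    { toFun := fun u => (frobeniusEquiv F 3).symm (polar (plusForm 4 F) (dia τ u u) u)
      map_add' := fun u w => by
        rw [← map_add]
        congr 1
        simp only [a1, a2, polar_add_left, polar_add_right]
        linear_combination (polar (plusForm 4 F) (dia τ u u) w + polar (plusForm 4 F) (dia τ w w) u) * h3 - cy u u w -
          cy u u w - cy u w u - cy w w u - cy w w u - cy w u w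
      map_smul' := fun c u => by
        rw [RingHom.id_apply, RingEquiv.symm_apply_eq, smul_eq_mul, map_mul, RingEquiv.apply_symm_apply, a3, polar_smul_left,
          polar_smul_right, frobeniusEquiv_def, smul_eq_mul, smul_eq_mul]
        ring }
  let e : V8 F := Sum.elim (fun i => f (Pi.single (.inr i) 1)) fun i => f (Pi.single (.inl i) 1)
  have he : ∀ u, polar (plusForm 4 F) e u = f u := fun u => by
    conv_rhs => rw [pi_eq_sum_univ' u, map_sum]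
    simp only [map_smul, smul_eq_mul, Fintype.sum_sum_type, Fin.sum_univ_four, polar8, e, Sum.elim_inl, Sum.elim_inr]
    ring
  refine ⟨e, fun h => ?_, fun g hg => ?_⟩
  · have h1 := he (one8 F)
    rw [h, polar_zero_left, eq_comm] at h1
    have h2 : polar (plusForm 4 F) (dia τ (one8 F) (one8 F)) (one8 F) = 0 := (RingEquiv.map_eq_zero_iff _).1 h1
    rw [dia, oconj_one8, aut_one hτ, aut_one hτ.inv, one_omul, polar_self, norm_one8, two_smul] at h2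
    exact one_ne_zero (α := F) (by linear_combination h3 - h2)
  · refine sub_eq_zero.1 (ClassicalGeometry.Triality.nondeg8 _ fun y => ?_)
    obtain ⟨u, rfl⟩ := g.surjective y
    rw [polar_sub_left, H126.TriRigid.polar_O (E_le_O hg.1), he, he, sub_eq_zero]
    exact congrArg (frobeniusEquiv F 3).symm (by rw [← hg.2, H126.TriRigid.polar_O (E_le_O hg.1)])

theorem fix_one {g : V8 F ≃ₗ[F] V8 F} (hg : g ∈ AutD (1 : G8 F)) : g (one8 F) = one8 F := by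
  have h1 := dia_one_aut hg.2 (one8 F) (one8 F)
  rw [one_omul] at h1
  refine omul_left_cancel (a := g (one8 F)) ?_ (by rw [← h1, omul_one])
  rw [E_le_O hg.1 (one8 F), norm_one8]
  exact one_ne_zero

variable [Finite F]

theorem exists_N {τ : G8 F} (hτ : TriS τ τ τ) {y : MulAut (P8 F)} (h : Iw (xt hG τ) y) :
    ∃ N : G8 F, Iw (xt hG τ) (Psi (plusForm 4 F) N) := by
  have hob_ := aut_cases hG y
  obtain ⟨i, N, -, hi⟩ := hob_
  exact ⟨_, psi_pow_mul hG τ (rho_comm hG hτ).symm i N ▸ hi ▸ h.mul i⟩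

private theorem gB {G : Type} [Group G] {k n x : G} (h1 : n * x * n⁻¹ = x⁻¹) (h2 : k * x * k⁻¹ = n * x * n⁻¹) :
    n * k⁻¹ * x = x * (n * k⁻¹) := by
  have h4 : k⁻¹ * x⁻¹ * k = x := by rw [← h1, ← h2]; group
  calc n * k⁻¹ * x = n * (k⁻¹ * x⁻¹ * k)⁻¹ * k⁻¹ := by group
    _ = (n * x * n⁻¹)⁻¹ * (n * k⁻¹) := by rw [h4]; group
    _ = _ := by rw [h1, inv_inv]

private theorem gO {G : Type} [Group G] {x : G} (h : 1 * x * 1⁻¹ = x⁻¹) : x = x⁻¹ := by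
  rwa [one_mul, inv_one, mul_one] at h

private theorem gF {G : Type} [Group G] {k n f r : G} (h1 : n * k * (f * r) * (n * k)⁻¹ = (f * r)⁻¹) (k1 : k * k = 1)
    (k2 : k * r * k = r⁻¹) (k3 : k * f * k = f) (k4 : r * f = f * r) (c1 : Commute n f) (c2 : Commute n r) : f = f⁻¹ := by
  have k5 : k⁻¹ = k := inv_eq_of_mul_eq_one_left k1
  refine mul_right_cancel (b := r⁻¹) ?_
  calc f * r⁻¹ = n * (f * r⁻¹) * n⁻¹ := (c1.mul_right c2.inv_right).mul_inv_cancel.symm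
    _ = n * ((k * f * k) * (k⁻¹ * r * k⁻¹)) * n⁻¹ := by rw [k5, k2, k3]
    _ = n * k * (f * r) * (n * k)⁻¹ := by group
    _ = _ := by rw [h1, ← k4, mul_inv_rev]

/-- the Okubo case -/
theorem not_B (h3 : (3 : F) ≠ 0) {y : MulAut (P8 F)} (h : Iw (xt hG (tauB F)) y) : False := by
  obtain ⟨N, h1, hf⟩ := exists_N hG tri_tauB h
  obtain ⟨s, hs⟩ := exists_dia hG (N := N * (th F * kapG F)⁻¹) (by
    have h2 := (th_inv hG).trans h1.symm
    rw [map_mul (Psi (plusForm 4 F)), map_inv (Psi (plusForm 4 F))]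
    exact gB h1 h2)
  have h2 : ∀ z, (N * (th F * kapG F)⁻¹).1 ((th F * kapG F).1 z) = N.1 z := fun z =>
    congrArg N.1 ((th F * kapG F).1.symm_apply_apply z)
  set N' : G8 F := scal (plusForm 4 F) (-s) * N with hN'
  have hNv : ∀ v, N'.1 v = (-s : F) • N.1 v := fun v => rfl
  have hΨ : Psi (plusForm 4 F) N' = Psi (plusForm 4 F) N := by
    simp only [hN', map_mul (Psi (plusForm 4 F)), H206.TriCent.Psi_scal_one hG, one_mul]
  have hdia : ∀ u w, N'.1 (dia (tauB F) u w) = (-1 : F) • dia (tauB F) (N'.1 w) (N'.1 u) := fun u w => by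
    rw [hNv, hNv, hNv, ← h2, th_dia, hs, h2, h2, dia_smul, smul_smul, smul_smul]
    congr 1
    ring
  obtain ⟨σ, c, hss⟩ := N'.2
  have hc1 : c = 1 := by
    have e1 := hdia (dia (tauB F) (one8 F) (one8 F)) (one8 F)
    have e2 := dia_smul (1 : F) (-1) (N'.1 (one8 F)) (dia (tauB F) (N'.1 (one8 F)) (N'.1 (one8 F)))
    rw [one_smul] at e2
    rw [dia_dia, hdia, e2, dia_dia', norm_one8, one_smul, hss.form, norm_one8, map_one, smul_smul, smul_smul] at e1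
    have e3 : N'.1 (one8 F) ≠ 0 := fun e => by
      have e4 := hss.form (one8 F)
      rw [e, QuadraticMap.map_zero, norm_one8, map_one, mul_one] at e4
      exact hss.ne e4.symm
    have e4 := smul_left_injective F e3 ((one_smul F _).trans e1)
    linear_combination -e4
  have hrt : ∀ v z, N'.1 (rtF v z) = rtF (N'.1 v) (N'.1 z) := fun v z => by
    rw [rtF, rtF, hss.add, hss.add, hss.sub, hss.smul, hdia, hdia, hss.polar, hc1, one_mul, neg_one_smul, neg_one_smul,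
      neg_sub_neg]
  have hdv : ∀ {v : V8 F}, dia (tauB F) v v = 0 → dia (tauB F) (N'.1 v) (N'.1 v) = 0 := fun {v} hv => by
    have e := hdia v v
    rwa [hv, hss.map_zero, neg_one_smul, zero_eq_neg] at e
  have hfix : ∀ v, dia (tauB F) v v = 0 → N'.1 v = v := by
    intro v hv
    obtain ⟨φ, hφ, hφv⟩ := H989.OkuboRoot.exists_rt h3 hG hv
    obtain ⟨ψ, hψ, hψv⟩ := H989.OkuboRoot.exists_rt h3 hG (hdv hv)
    have h1 : conjLin N' φ = ψ := by
      apply LinearEquiv.ext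
      intro z
      obtain ⟨z, rfl⟩ := N'.1.surjective z
      rw [conjLin_apply', hφv, hψv, hrt]
    have h4 := hf _ (mem_Fx.1 ((mem_Fx_xt hG tri_tauB).2 ⟨⟨φ, hφ.1⟩, rfl, hφ⟩))
    rw [← hΨ, Psi_mk] at h4
    have h5 : (conjE (plusForm 4 F) N' ⟨φ, hφ.1⟩ : ↥(E (plusForm 4 F))) = ⟨ψ, hψ.1⟩ := Subtype.ext h1
    rw [h5] at h4
    have h7 : ψ = φ := congrArg Subtype.val (AutD_unique hG (τ := tauB F) (g := ⟨ψ, hψ.1⟩) (h := ⟨φ, hφ.1⟩) hψ hφ h4)
    exact H989.OkuboRoot.rt_injective h3 (hdv hv) hv fun z => by rw [← hψv, ← hφv, h7]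
  have hσ : ∀ t, σ t = t := by
    intro t
    have hv0 : dia (tauB F) (Sum.elim ![0, 1, 1, 1] ![0, 0, 0, 0] : V8 F) (Sum.elim ![0, 1, 1, 1] ![0, 0, 0, 0]) = 0 := by
      apply ext8 <;> simp [dia_l0, dia_l1, dia_l2, dia_l3, dia_r0, dia_r1, dia_r2, dia_r3]
    have e1 := hfix _ (dia_self_smul hv0 t)
    rw [hss.smul, hfix _ hv0] at e1
    simpa using congrFun e1 (.inl 1)
  have hone : N' = 1 := by
    apply Subtype.ext
    ext1 z
    exact eq_of_delta h3 hss.add (fun c v => by rw [hss.smul, hσ]) hfix z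
  ((conv at h1 => enter [@2, @5, @5]; rw [← hΨ]); (conv at h1 => enter [@2, @6, @3]; rw [← hΨ]); rewrite [hone] at h1; (conv at h1 => enter [@2, @5, @5]; rw [map_one (Psi (plusForm 4 F))]); (conv at h1 => enter [@2, @6, @3]; rw [map_one (Psi (plusForm 4 F))]))
  exact xt_ne hG tri_tauB tauB_pow_three (gO h1)

/-- the field case -/
theorem not_f {σ : F ≃+* F} (hσ : σ ≠ RingEquiv.refl F) (ho : fG σ ^ 3 = 1) {y : MulAut (P8 F)}
    (h : Iw (xt hG (fG σ)) y) : False := by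
  obtain ⟨N, h1, hf⟩ := exists_N hG (tri_fG σ) h
  obtain ⟨c, t, hN⟩ := H126.TriRigid.rigid hG (N := N) fun u w hs hu hw =>
    hf _ (mem_Fx.1 (H206.TriCent.sg_mem_Fx hG hs (hu σ) (hw σ)))
  have c1 : Commute (Psi (plusForm 4 F) (fG t)) (Psi (plusForm 4 F) (fG σ)) := by
    simp only [Commute, SemiconjBy, ← map_mul (Psi (plusForm 4 F)), ← map_mul (Psi (plusForm 4 F)),
      H206.TriCent.fG_comm (H206.TriCent.aut_comm t σ)]
  have c2 : Commute (Psi (plusForm 4 F) (fG t)) (rho hG) := (rho_comm hG (tri_fG t)).symm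
  rcases hN with rfl | rfl
  · ((conv at h1 => enter [@2, @5, @5]; rw [map_mul (Psi (plusForm 4 F))]); (conv at h1 => enter [@2, @6, @3]; rw [map_mul (Psi (plusForm 4 F))]); (conv at h1 => enter [@2, @5, @5, @5]; rw [H206.TriCent.Psi_scal_one hG]); (conv at h1 => enter [@2, @6, @3, @5]; rw [H206.TriCent.Psi_scal_one hG]); (conv at h1 => enter [@2, @5, @5]; rw [one_mul]); (conv at h1 => enter [@2, @6, @3]; rw [one_mul]))
    exact xt_ne hG (tri_fG σ) ho ((c1.mul_right c2).mul_inv_cancel.symm.trans h1)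
  · ((conv at h1 => enter [@2, @5, @5]; rw [map_mul (Psi (plusForm 4 F))]); (conv at h1 => enter [@2, @6, @3]; rw [map_mul (Psi (plusForm 4 F))]); (conv at h1 => enter [@2, @5, @5, @5]; rw [map_mul (Psi (plusForm 4 F))]); (conv at h1 => enter [@2, @6, @3, @5]; rw [map_mul (Psi (plusForm 4 F))]); (conv at h1 => enter [@2, @5, @5, @5, @5]; rw [H206.TriCent.Psi_scal_one hG]); (conv at h1 => enter [@2, @6, @3, @5, @5]; rw [H206.TriCent.Psi_scal_one hG]); (conv at h1 => enter [@2, @5, @5, @5]; rw [one_mul]); (conv at h1 => enter [@2, @6, @3, @5]; rw [one_mul]))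
    have h2 : Psi (plusForm 4 F) (fG σ) = Psi (plusForm 4 F) 1 := by
      simp only [map_one (Psi (plusForm 4 F))]
      refine one_aux ?_ (by simp only [← map_pow (Psi (plusForm 4 F)), ho, map_one (Psi (plusForm 4 F))])
      unfold xt at h1
      exact gF h1 kap_sq (kap_rho_kap hG) (kap_psi (tri_fG σ)) (rho_comm hG (tri_fG σ)) c1 c2
    obtain ⟨s, hs⟩ := exists_scal hG h2
    have h4 : (1 : F) = s := smul_one_inj ((one_smul F _).trans ((aut_one (tri_fG σ)).symm.trans (hs _)))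
    refine hσ (RingEquiv.ext fun a => smul_one_inj ?_)
    have h5 := hs (a • one8 F)
    rw [← h4, one_smul, show (fG σ).1 (a • one8 F) = _ from (isSS_fP σ).smul a _] at h5
    exact (congrArg (σ a • ·) (aut_one (tri_fG σ))).symm.trans h5

theorem exists_fix {τ : G8 F} (hτ : TriS τ τ τ) (ho : τ ^ 3 = 1) {v : V8 F} (hv0 : v ≠ 0) (hvv : omul v v = 0)
    (hv : τ.1 v = v) {y : MulAut (P8 F)} (h : Iw (xt hG τ) y) : ∃ e : V8 F, e ≠ 0 ∧ ∀ g ∈ AutD τ, g e = e := by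
  obtain ⟨σ, c, hs⟩ := τ.2
  obtain rfl := aut_mult hτ hs
  by_cases hσ : σ = RingEquiv.refl F
  · subst hσ
    by_cases h3 : (3 : F) = 0
    · exact exists_three h3 hτ hs ho
    rcases H161.TriLin.lin_normal h3 hτ ⟨1, hs⟩ ho hv0 hvv hv with rfl | ⟨N, hN, e⟩
    · exact ⟨one8 F, fun e => one_ne_zero (α := F) (by rw [← norm_one8 (F := F), e, QuadraticMap.map_zero]),
        fun g => fix_one⟩
    · have h1 := h.conj (Psi (plusForm 4 F) N)
      ((conv at h1 => enter [@3]; rw [xt_conj hG τ hN]); (conv at h1 => enter [@3, @4]; rw [e]))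
      exact (not_B hG h3 h1).elim
  · obtain ⟨N, hN, e⟩ := H752.SemiNormal.semi_normal hτ hs hσ ho
    have h1 := h.conj (Psi (plusForm 4 F) N)
    ((conv at h1 => enter [@3]; rw [xt_conj hG τ hN]); (conv at h1 => enter [@3, @4]; rw [e]))
    exact (not_f hG hσ (by rw [← e, conj_pow, ho, mul_one, mul_inv_cancel]) h1).elim

theorem main {x y : MulAut (P8 F)} (hx : x ∉ (Psi (plusForm 4 F)).range) (ho : x ^ 3 = 1) (h : Iw x y) :
    ∃ (β : MulAut (P8 F)) (v : V8 F), v ≠ 0 ∧ ∀ (g : P8 F) (a : E (plusForm 4 F)), x g = g → β g = a →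
      ∃ c : F, a.1 v = c • v := by
  have := Fintype.ofFinite F
  have hG : Good (plusForm 4 F) := SB.D4.good8
  have key : ∀ (x α : MulAut (P8 F)) (τ : G8 F), Iw x y → α * x * α⁻¹ = xt hG τ → TriS τ τ τ → τ ^ 3 = 1 →
      (∃ v : V8 F, v ≠ 0 ∧ omul v v = 0 ∧ τ.1 v = v) → ∃ v : V8 F, v ≠ 0 ∧ ∀ (g : P8 F) (a : E (plusForm 4 F)),
        x g = g → α g = a → ∃ c : F, a.1 v = c • v := by
    rintro x α τ h e hτ h3 ⟨v, v0, v1, v2⟩
    have hob_ := exists_fix hG hτ h3 v0 v1 v2 (e ▸ h.conj α)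
    obtain ⟨w, w0, hw⟩ := hob_
    refine ⟨w, w0, fun g a h1 h2 => ?_⟩
    obtain ⟨b, h4, h5⟩ := (mem_Fx_xt hG hτ (p := a)).1 (mem_Fx.2 (by
      ((conv => enter [@2, @5]; rw [← e]); simp only [← h2]; simp +singlePass only [MulAut.mul_apply]; simp only [MulAut.mul_apply]; simp only [MulAut.inv_apply_self]; simp only [h1])))
    obtain ⟨c, -, hc⟩ := sign_of_mk_eq hG h4
    exact ⟨c, by rw [hc, hw _ h5]⟩
  have hob_ := H198.TriCls.classify hG hx ho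
  obtain ⟨α, τ, hτ, h3, e | e, hv⟩ := hob_
  · exact ⟨α, key x α τ h e hτ h3 hv⟩
  · have hob_ := key x⁻¹ α τ h.inv e hτ h3 hv
    obtain ⟨v, v0, h1⟩ := hob_
    exact ⟨α, v, v0, fun g a hg => h1 g a (inv_fix hg)⟩

end PsiB

theorem boxPsi : BoxPsi := fun _ _ _ _ _ ho hx _ h1 h2 => PsiB.main hx ho ⟨h1, h2⟩

end Cfsg.Agent.N2C.D4
end

-- part: N2/Cl/D4/QA
section
/-!
# N2 (S3519), `PΩ₈⁺(q)` with triality: tensor factors and components (helper70)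

* `boxQA : BoxQA`, `boxQ : BoxQ`.
-/

set_option autoImplicit false
set_option linter.unusedSectionVars false

namespace Cfsg.Agent.N2C.D4

open QuadraticMap Module Cfsg.Agent.LieClassical.QuadForms Cfsg.Agent.LieClassical.OrthCore
  Cfsg.Agent.LieClassical.OrthTrans Cfsg.Agent.ClassicalGeometry.OrthSemi Cfsg.Agent.ClassicalGeometry.OrthAut1
  Cfsg.Agent.ClassicalGeometry.TrialityOct Cfsg.Agent.ClassicalGeometry.Triality
  Cfsg.Agent.H989.OutOrth.Basic Cfsg.Agent.H989.OutOrth.Tri Cfsg.Agent.SB.D4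
open Cfsg.Agent.Omega.NO1
open scoped Pointwise

namespace QA

/-- the centraliser of a non-scalar endomorphism of a plane -/
theorem plane {K W : Type} [Field K] [AddCommGroup W] [Module K W] [Module.Finite K W] (h2 : finrank K W ≤ 2)
    {f g : Module.End K W} (hf : ¬ ∃ k : K, f = k • 1) (hc : ∀ w, g (f w) = f (g w)) :
    ∃ α β : K, ∀ w, g w = α • w + β • f w := by
  obtain ⟨v, hv⟩ : ∃ v, LinearIndependent K ![v, f v] :=
    by_contra fun h => hf (LinearMap.exists_eq_smul_id_of_forall_notLinearIndependent fun v e => h ⟨v, e⟩)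
  have h1 : ∀ w, ∃ α β : K, α • v + β • f v = w := fun w => by
    have h4 : w ∈ Submodule.span K (Set.range ![v, f v]) := by
      rw [hv.span_eq_top_of_card_eq_finrank' (le_antisymm hv.fintype_card_le_finrank (by simpa using h2))]
      trivial
    rwa [Matrix.range_cons, Matrix.range_cons, Matrix.range_empty, Set.union_empty, Set.singleton_union,
      Submodule.mem_span_pair] at h4
  obtain ⟨α, β, e⟩ := h1 (g v)
  refine ⟨α, β, fun w => ?_⟩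
  obtain ⟨a, b, rfl⟩ := h1 w
  simp only [map_add, map_smul, hc, ← e]
  module

theorem cent {K V W W' : Type} [Field K] [AddCommGroup V] [Module K V] [AddCommGroup W] [Module K W] [AddCommGroup W']
    [Module K W'] {L C : Set (Module.End K V)} (D : Comp.Dec L C W W') (h2 : finrank K W ≤ 2) {a b : Module.End K V}
    (ha : a ∈ L) (hb : b ∈ L) (hn : ¬ ∃ k : K, ∀ v, a v = k • v) (hc : ∀ v, b (a v) = a (b v)) :
    ∃ α β : K, ∀ v, b v = α • v + β • a v := by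
  have := D.finL
  have : Module.Finite K W := Module.Finite.of_finite
  obtain ⟨w', hw'⟩ := @exists_ne W' D.neR 0
  obtain ⟨α, β, e⟩ := plane h2 (f := D.ρ a) (g := D.ρ b) (fun ⟨k, hk⟩ => hn ⟨k, fun v =>
    LinearMap.congr_fun (D.ext (f := a) (g := k • LinearMap.id) fun w w' => by
      rw [D.hl a ha, hk, LinearMap.smul_apply, LinearMap.smul_apply, LinearMap.id_apply,
        ← TensorProduct.smul_tmul', map_smul]
      rfl) v⟩) fun w => D.inj_left hw' (by rw [← D.hl b hb, ← D.hl a ha, hc, D.hl b hb, D.hl a ha])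
  refine ⟨α, β, fun v => LinearMap.congr_fun (D.ext (f := b) (g := α • LinearMap.id + β • a) fun w w' => ?_) v⟩
  rw [D.hl b hb, e, LinearMap.add_apply, LinearMap.smul_apply, LinearMap.smul_apply, LinearMap.id_apply, D.hl a ha,
    TensorProduct.add_tmul, map_add, ← TensorProduct.smul_tmul', ← TensorProduct.smul_tmul', map_smul, map_smul]

variable {F : Type} [Field F]

/-- the underlying linear maps -/
def im (S : Subgroup (E8 F)) : Set (Module.End F (V8 F)) := (fun a : E8 F => a.1.toLinearMap) '' S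

theorem q2 {W W' : Type} [AddCommGroup W] [Module F W] [AddCommGroup W'] [Module F W'] {S : Subgroup (E8 F)}
    {C : Set (Module.End F (V8 F))} (D : Comp.Dec (im S) C W W') (h2 : finrank F W ≤ 2) : Q2 S := by
  have h1 : ∀ a ∈ S, (¬ ∃ d, Sc a d) → ∀ b ∈ S, a * b = b * a → ∃ α β : F, ∀ v, b.1 v = α • v + β • a.1 v :=
    fun a ha hn b hb e => cent D h2 ⟨a, ha, rfl⟩ ⟨b, hb, rfl⟩ hn fun v => (congrArg (fun g : E8 F => g.1 v) e).symm
  refine ⟨fun a ha => ?_, fun a ha hn b hb c hc e e' => ?_⟩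
  · by_cases hn : ∃ d, Sc a d
    · obtain ⟨d, hd⟩ := hn
      exact ⟨d, 0, fun x => by rw [hd, zero_smul, sub_zero]⟩
    · obtain ⟨α, β, e⟩ := h1 a ha hn (a * a) (S.mul_mem ha ha) (mul_assoc _ _ _).symm
      exact ⟨β, -α, fun x => (e x).trans (by module)⟩
  · obtain ⟨α, β, k⟩ := h1 a ha hn b hb e
    obtain ⟨α', β', k'⟩ := h1 a ha hn c hc e'
    refine Subtype.ext (LinearEquiv.ext fun v => ?_)
    show b.1 (c.1 v) = c.1 (b.1 v)
    simp only [k, k', map_add, map_smul]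
    module

theorem two_of {S S' : Subgroup (E8 F)} (hc : ∀ a ∈ S, ∀ b ∈ S', a * b = b * a) (h : Spn (S ⊔ S')) :
    Comp.Two (im S) (im S') := by
  have h1 : ∀ f, f ∈ Algebra.adjoin F (im S ∪ im S') := fun f => by
    have h2 : f ∈ Submodule.span F (im (S ⊔ S')) := by
      rw [show Submodule.span F (im (S ⊔ S')) = ⊤ from h]
      trivial
    refine (Submodule.span_le (p := Subalgebra.toSubmodule (Algebra.adjoin F (im S ∪ im S')))).2 ?_ h2
    rintro _ ⟨a, ha, rfl⟩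
    rw [SetLike.mem_coe, Subgroup.sup_eq_closure] at ha
    show a.1.toLinearMap ∈ Algebra.adjoin F (im S ∪ im S')
    induction ha using Subgroup.closure_induction'' with
    | mem x hx => exact Algebra.subset_adjoin (hx.imp (fun k => ⟨x, k, rfl⟩) fun k => ⟨x, k, rfl⟩)
    | inv_mem x hx =>
      exact Algebra.subset_adjoin (hx.imp (fun k => ⟨x⁻¹, S.inv_mem k, rfl⟩) fun k => ⟨x⁻¹, S'.inv_mem k, rfl⟩)
    | one => exact one_mem _
    | mul x y _ _ hx hy => exact mul_mem hx hy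
  refine ⟨?_, fun U a1 a2 => or_iff_not_imp_left.2 fun a3 => eq_top_iff.2 fun v _ => ?_, fun f a1 a2 => ?_⟩
  · rintro _ ⟨a, ha, rfl⟩ _ ⟨b, hb, rfl⟩
    exact congrArg (fun g : E8 F => g.1.toLinearMap) (hc a ha b hb)
  · obtain ⟨u, hu, h0⟩ := (Submodule.ne_bot_iff U).1 a3
    obtain ⟨l, hl⟩ := Comp.exists_dual (K := F) h0
    simpa [hl] using Comp.adjoin_inv (fun l hl => hl.elim (a1 l) (a2 l)) _ (h1 (l.smulRight v)) u hu
  · obtain ⟨l, hl⟩ := Comp.exists_dual (K := F) (e8_ne (F := F))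
    refine ⟨l (f (e8 F)), fun v => ?_⟩
    simpa only [hl, _root_.Module.End.mul_apply, _root_.LinearMap.coe_smulRight, _root_.one_smul] using LinearMap.congr_fun (Comp.comm_adjoin (fun l hl => hl.elim (a1 l) (a2 l)) _ (h1 (l.smulRight v))) (e8 F)

variable [Fintype F]

theorem q2_or {S S' : Subgroup (E8 F)} (hc : ∀ a ∈ S, ∀ b ∈ S', a * b = b * a) (h : Spn (S ⊔ S')) : Q2 S ∨ Q2 S' := by
  have : Nontrivial (V8 F) := ⟨_, _, e8_ne (F := F)⟩
  obtain ⟨W, W', _, _, _, _, ⟨D⟩⟩ := Comp.exists_dec (two_of hc h)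
  have h1 := D.φ.finrank_eq
  rw [finrank_tensorProduct, finrank8] at h1
  by_cases h2 : finrank F W ≤ 2
  · exact Or.inl (q2 D h2)
  · exact Or.inr (q2 D.symm (by nlinarith))

section grp

variable {G : Type*} [Group G]

theorem perf {S : Subgroup G} (h : IsSimpleGroup S) (h' : ¬ IsMulCommutative S) : ⁅S, S⁆ = S := by
  rcases (inferInstance : (commutator S).Normal).eq_bot_or_eq_top with e | e
  · exact (h' ⟨⟨fun x y => commutatorElement_eq_one_iff_mul_comm.1 (Subgroup.mem_bot.1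
      (e ▸ Subgroup.commutator_mem_commutator (Subgroup.mem_top x) (Subgroup.mem_top y)))⟩⟩).elim
  · rw [← Subgroup.map_subtype_commutator, e, ← MonoidHom.range_eq_map, Subgroup.range_subtype]

/-- the three subgroups lemma -/
theorem comm3 {X Y : Subgroup G} (h : ⁅X, Y⁆ ≤ Subgroup.center G) {a b : G} (ha : a ∈ ⁅X, X⁆) (hb : b ∈ Y) :
    a * b = b * a := by
  have h1 : ⁅⁅X, Y⁆, X⁆ = ⊥ := Subgroup.commutator_eq_bot_iff_le_centralizer.2 (h.trans (Subgroup.center_le_centralizer _))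
  exact (Subgroup.commutator_eq_bot_iff_le_centralizer.1 (Subgroup.commutator_commutator_eq_bot_of_rotate h1
    (by rwa [Subgroup.commutator_comm Y X])) ha b hb).symm

theorem three {H Γ Γ₀ : Subgroup G} (hH : H.index = 3) {ρ α β : G} (h3 : ρ ^ 3 = 1) (hρ : ρ ∉ H) (hα : α ∈ Γ)
    (hβ : β ∈ Γ) (h1 : α * ρ⁻¹ ∈ H) (h2 : β * (ρ * ρ)⁻¹ ∈ H) (hle : ∀ γ ∈ Γ, γ ∈ H → γ ∈ Γ₀)
    (two : ∀ x ∈ Γ, ∀ y ∈ Γ, x ∉ Γ₀ → y ∉ Γ₀ → x * y ∈ Γ₀) : α ∈ Γ₀ ∧ β ∈ Γ₀ := by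
  have a4 : ∀ γ ∈ Γ, γ ∈ H ∨ γ * α⁻¹ ∈ H ∨ γ * β⁻¹ ∈ H := fun γ _ => (three_cosets' hH h3 hρ γ).imp_right fun k =>
    k.imp (fun k => by simpa [mul_assoc] using H.mul_mem k (H.inv_mem h1))
      fun k => by simpa [mul_assoc] using H.mul_mem k (H.inv_mem h2)
  have e : ρ * ρ = ρ⁻¹ := eq_inv_of_mul_eq_one_left (by rw [← h3, pow_three'])
  rw [e, inv_inv] at h2
  have a1 : α ∉ H := fun h => hρ (by simpa using H.mul_mem (H.inv_mem h1) h)
  have a2 : β ∉ H := fun h => hρ (by simpa using H.mul_mem (H.inv_mem h) h2)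
  have a3 : α * β⁻¹ ∉ H := fun h => hρ (H.inv_mem_iff.1 (by
    rw [← e]
    simpa [mul_assoc] using H.mul_mem (H.mul_mem (H.inv_mem h1) h) h2))
  by_cases b1 : α ∈ Γ₀ <;> by_cases b2 : β ∈ Γ₀
  · exact ⟨b1, b2⟩
  · have c := Γ.mul_mem hα hβ
    rcases a4 _ c with k | k | k
    · exact (b2 ((Γ₀.mul_mem_cancel_left b1).1 (hle _ c k))).elim
    · exact (b2 ((Γ₀.mul_mem_cancel_left b1).1 ((Γ₀.mul_mem_cancel_right (Γ₀.inv_mem b1)).1
        (hle _ (Γ.mul_mem c (Γ.inv_mem hα)) k)))).elim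
    · exact (a1 (by simpa using k)).elim
  · have c := Γ.mul_mem hβ hα
    rcases a4 _ c with k | k | k
    · exact (b1 ((Γ₀.mul_mem_cancel_left b2).1 (hle _ c k))).elim
    · exact (a2 (by simpa using k)).elim
    · exact (b1 ((Γ₀.mul_mem_cancel_left b2).1 ((Γ₀.mul_mem_cancel_right (Γ₀.inv_mem b2)).1
        (hle _ (Γ.mul_mem c (Γ.inv_mem hβ)) k)))).elim
  · have c := Γ.mul_mem hα (Γ.inv_mem hβ)
    have c' := two _ hα _ (Γ.inv_mem hβ) b1 fun k => b2 (Γ₀.inv_mem_iff.1 k)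
    rcases a4 _ c with k | k | k
    · exact (a3 k).elim
    · exact (b1 (Γ₀.inv_mem_iff.1 ((Γ₀.mul_mem_cancel_left c').1 (hle _ (Γ.mul_mem c (Γ.inv_mem hα)) k)))).elim
    · exact (b2 (Γ₀.inv_mem_iff.1 ((Γ₀.mul_mem_cancel_left c').1 (hle _ (Γ.mul_mem c (Γ.inv_mem hβ)) k)))).elim

theorem exists_prime {S : Subgroup G} [Finite S] (h : IsSimpleGroup S) (h' : ¬ IsMulCommutative S) (p : ℕ) :
    ∃ r : ℕ, r.Prime ∧ Odd r ∧ r ≠ p ∧ ∃ x ∈ S, x ≠ 1 ∧ x ^ r = 1 := by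
  obtain ⟨r, h1, h2⟩ : ∃ r ∈ (Nat.card S).primeFactors, r ∉ ({2, p} : Finset ℕ) := by_contra fun k =>
    h' ⟨⟨IsSimpleGroup.comm_iff_isSolvable.2 (SolvableStructure.HallConverse.isSolvable_of_no_three_primes
      ((Finset.card_le_card fun r hr => by_contra fun k' => k ⟨r, hr, k'⟩).trans Finset.card_le_two))⟩⟩
  have hr := Nat.prime_of_mem_primeFactors h1
  have := Fact.mk hr
  rw [Finset.mem_insert, Finset.mem_singleton, not_or] at h2
  obtain ⟨x, hx⟩ := exists_prime_orderOf_dvd_card' r (Nat.dvd_of_mem_primeFactors h1)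
  refine ⟨r, hr, hr.odd_of_ne_two h2.1, h2.2, x, x.2, fun e => hr.one_lt.ne' ?_, ?_⟩
  · rw [← hx, Subtype.ext (p := (· ∈ S)) (a2 := 1) e, orderOf_one]
  · rw [← hx, ← Subgroup.coe_pow, pow_orderOf_eq_one, Subgroup.coe_one]

end grp

/-- the preimage -/
abbrev pre (X : Subgroup (G8 F)) : Subgroup (E8 F) := X.comap (QuotientGroup.mk' _)

theorem lf_le (X : Subgroup (G8 F)) : lf X ≤ pre X := Subgroup.commutator_le_self _

theorem lift {S : Subgroup (G8 F)} (h : ⁅S, S⁆ = S) {x : G8 F} (hx : x ∈ S) : ∃ a ∈ lf S, (a : G8 F) = x := by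
  have h1 : (lf S).map (QuotientGroup.mk' _) = S := by
    rw [lf, Subgroup.map_commutator, Subgroup.map_comap_eq_self_of_surjective (QuotientGroup.mk'_surjective _), h]
  exact h1.ge hx

theorem comm {X Y : Subgroup (G8 F)} (h : ∀ x ∈ X, ∀ y ∈ Y, x * y = y * x) : ∀ a ∈ lf X, ∀ b ∈ pre Y, a * b = b * a :=
  fun _ ha _ hb => comm3 (Subgroup.commutator_le.2 fun a ha b hb => (QuotientGroup.eq_one_iff _).1 (by
    show QuotientGroup.mk' _ _ = 1
    rw [map_commutatorElement, commutatorElement_eq_one_iff_mul_comm]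
    exact h _ ha _ hb)) ha hb

theorem qd_mk {a b : E8 F} (e : (a : G8 F) = b) (h : Qd a) : Qd b := by
  obtain ⟨c, hc, k⟩ := mk_eq_iff.1 e
  obtain ⟨t, d, h⟩ := h
  refine ⟨c * t, d, fun x => ?_⟩
  rw [k, k, map_smul, h]
  linear_combination (norm := module) -hc • d • x

theorem qd_conj (M : Gam (Q8 F)) {a : E8 F} (h : Qd a) : Qd (conjE (Q8 F) M a) := by
  have hob_ := M.2
  obtain ⟨σ, c, hM⟩ := hob_
  obtain ⟨t, d, h⟩ := h
  refine ⟨σ t, σ d, fun x => ?_⟩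
  have hob_ := M.1.surjective x
  obtain ⟨x, rfl⟩ := hob_
  rw [conjE_apply, conjE_apply, h, hM.sub, hM.smul, hM.smul]

/-- all lifts are quadratic -/
def QT (T : Subgroup (G8 F)) : Prop := ∀ a : E8 F, (a : G8 F) ∈ T → Qd a

theorem qt_of {T : Subgroup (G8 F)} (h : ⁅T, T⁆ = T) (h' : Q2 (lf T)) : QT T := fun _ ha =>
  let ⟨b, hb, e⟩ := lift h ha
  qd_mk e (h'.1 b hb)

theorem qt_psi (M : Gam (Q8 F)) {T : Subgroup (G8 F)} (h : QT T) : QT (T.map (Psi (Q8 F) M).toMonoidHom) := by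
  rintro a ⟨x, hx, e⟩
  obtain ⟨b, rfl⟩ := QuotientGroup.mk_surjective x
  exact qd_mk ((Psi_mk M b).symm.trans e) (qd_conj M (h b hx))

variable {A N : Subgroup (G8 F)} {Γ : Subgroup (MulAut (G8 F))} {M₁ M₂ : Gam (Q8 F)} {𝓣 : Set (Subgroup (G8 F))}

theorem qt_or (h : Cb A Γ M₁ M₂ N 𝓣) (hs : Spn (lf N)) {S : Subgroup (G8 F)} (hS : S ∈ 𝓣) :
    QT S ∨ ∃ T, QT T ∧ ∀ S' ∈ 𝓣, S' = S ∨ S' = T := by
  have hp : ∀ S ∈ 𝓣, ⁅S, S⁆ = S := fun S hS => perf (h.simple S hS).1 (h.simple S hS).2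
  have h1 : ∀ x ∈ S, ∀ y ∈ sSup (𝓣 \ {S}), x * y = y * x := fun x hx y hy =>
    (sSup_le (a := Subgroup.centralizer {x}) (fun T hT z hz => Subgroup.mem_centralizer_singleton_iff.2
      (h.comm T hT.1 S hS hT.2 z hz x hx)) hy) x rfl
  have h2 : lf N ≤ lf S ⊔ pre (sSup (𝓣 \ {S})) := (lf_le N).trans (by
    have h3 : N ≤ (lf S ⊔ pre (sSup (𝓣 \ {S}))).map (QuotientGroup.mk' _) := by
      rw [← h.sup]
      refine sSup_le fun T hT x hx => ?_
      by_cases e : T = S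
      · have hob_ := lift (hp S hS) (e ▸ hx)
        obtain ⟨a, ha, e'⟩ := hob_
        exact ⟨a, Subgroup.mem_sup_left ha, e'⟩
      · have hob_ := QuotientGroup.mk_surjective x
        obtain ⟨a, rfl⟩ := hob_
        exact ⟨a, Subgroup.mem_sup_right (le_sSup (s := 𝓣 \ {S}) ⟨hT, e⟩ hx), rfl⟩
    refine (Subgroup.comap_mono h3).trans ?_
    rw [Subgroup.comap_map_eq]
    exact sup_le le_rfl ((Subgroup.ker_le_comap _ _).trans le_sup_right))
  have hob_ := q2_or (comm h1) (eq_top_iff.2 (hs.ge.trans (Submodule.span_mono (Set.image_mono h2))))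
  rcases hob_ with k | k
  · exact Or.inl (qt_of (hp S hS) k)
  have h3 : ∀ T ∈ 𝓣, T ≠ S → pre T ≤ pre (sSup (𝓣 \ {S})) := fun T hT e => Subgroup.comap_mono (le_sSup ⟨hT, e⟩)
  by_cases h4 : ∃ T ∈ 𝓣, T ≠ S
  swap
  · exact Or.inr ⟨⊥, fun a ha => k.1 a (Subgroup.comap_mono bot_le ha), fun T hT => Or.inl (by_contra fun e => h4 ⟨T, hT, e⟩)⟩
  obtain ⟨T, hT, e⟩ := h4
  refine Or.inr ⟨T, fun a ha => k.1 a (h3 T hT e ha), fun T' hT' => or_iff_not_imp_left.2 fun e' => by_contra fun e'' => ?_⟩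
  have := (h.simple T hT).1
  obtain ⟨x, hx⟩ := exists_ne (1 : T)
  obtain ⟨a, ha, a1⟩ := lift (hp T hT) x.2
  refine (h.simple T' hT').2 ⟨⟨fun y z => Subtype.ext ?_⟩⟩
  have hob_ := QuotientGroup.mk_surjective y.1
  obtain ⟨b, b1⟩ := hob_
  have hob_ := QuotientGroup.mk_surjective z.1
  obtain ⟨c, c1⟩ := hob_
  have b2 : b ∈ pre T' := show (b : G8 F) ∈ T' from b1 ▸ y.2
  have c2 : c ∈ pre T' := show (c : G8 F) ∈ T' from c1 ▸ z.2
  have h5 := comm (h.comm T hT T' hT' (Ne.symm e'')) a ha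
  have h6 := k.2 a (h3 T hT e (lf_le T ha)) (fun k => hx (Subtype.ext (a1.symm.trans (mk_eq_one_iff.2 k)))) b
    (h3 T' hT' e' b2) c (h3 T' hT' e' c2) (h5 b b2) (h5 c c2)
  rw [Subgroup.coe_mul, Subgroup.coe_mul, ← b1, ← c1, ← QuotientGroup.mk_mul, h6, QuotientGroup.mk_mul]

theorem exists_qt (h : Cb A Γ M₁ M₂ N 𝓣) (hs : Spn (lf N)) (hn : ¬ IsSimpleGroup N) {α β : MulAut (G8 F)} (hα : α ∈ Γ)
    (hβ : β ∈ Γ) (h1 : Ty1 α M₁) (h2 : Ty2 β M₂) :
    ∃ T ∈ 𝓣, QT T ∧ QT (T.map α.toMonoidHom) ∧ QT (T.map β.toMonoidHom) := by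
  by_cases h3 : ∀ S ∈ 𝓣, QT S
  · obtain ⟨T, hT⟩ : 𝓣.Nonempty := Set.nonempty_iff_ne_empty.2 fun e => h.ne (by rw [← h.sup, e, sSup_empty])
    exact ⟨T, hT, h3 T hT, h3 _ (h.perm α hα T hT), h3 _ (h.perm β hβ T hT)⟩
  push Not at h3
  obtain ⟨S, hS, h3⟩ := h3
  have hob_ := (qt_or h hs hS).resolve_left h3
  obtain ⟨T, h4, h5⟩ := hob_
  have hT : T ∈ 𝓣 := by_contra fun k => hn (by
    rw [← h.sup, (Set.eq_singleton_iff_unique_mem.2 ⟨hS, fun S' hS' => (h5 S' hS').resolve_right fun e => k (e ▸ hS')⟩ :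
      𝓣 = {S}), sSup_singleton]
    exact (h.simple S hS).1)
  have hob_ := exists_rho (good8 (F := F))
  obtain ⟨ρ, hρ⟩ := hob_
  have h6 : ∀ σ ∈ Γ, ∀ X ∈ 𝓣, σ • X = S ∨ σ • X = T := fun σ hσ X hX => h5 _ (h.perm σ hσ X hX)
  obtain ⟨a1, a2⟩ := three (Γ₀ := MulAction.stabilizer (MulAut (G8 F)) T) index_three (hρ.cube good8)
    (hρ.not_mem_range good8) hα hβ ⟨M₁, eq_mul_inv_of_mul_eq (MulEquiv.ext fun x => by
      have hob_ := QuotientGroup.mk_surjective x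
      obtain ⟨a, rfl⟩ := hob_
      have hob_ := exists_T3 a
      obtain ⟨b, c, k⟩ := hob_
      simp only [h1 a b c k, MulAut.mul_apply, rho_T3 hρ k, Psi_mk])⟩ ⟨M₂, eq_mul_inv_of_mul_eq (MulEquiv.ext fun x => by
      have hob_ := QuotientGroup.mk_surjective x
      obtain ⟨a, rfl⟩ := hob_
      have hob_ := exists_T3 a
      obtain ⟨b, c, k⟩ := hob_
      simp only [h2 a b c k, MulAut.mul_apply, MulAut.mul_apply, rho_T3 hρ k, rho_T3 hρ k.rot, Psi_mk])⟩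
    (by
      rintro _ hγ ⟨M, rfl⟩
      exact (h6 _ hγ T hT).resolve_left fun e => h3 (e ▸ qt_psi M h4))
    fun x hx y hy b1 b2 => by
      have b3 := (h6 x hx T hT).resolve_right b1
      have b4 := (h6 y hy T hT).resolve_right b2
      rw [MulAction.mem_stabilizer_iff, mul_smul, b4]
      exact (h6 x hx S hS).resolve_left fun e => h3 (MulAction.injective x (e.trans b3.symm) ▸ h4)
  exact ⟨T, hT, h4, (show T.map α.toMonoidHom = T from a1).symm ▸ h4, (show T.map β.toMonoidHom = T from a2).symm ▸ h4⟩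

end QA

/-- **tensor factors** -/
theorem boxQA : BoxQA := fun _ _ _ _ _ hc _ _ h => QA.q2_or hc h

/-- **the socle is simple** -/
theorem boxQ : BoxQ := by
  intro L F _ _ A Γ M₁ M₂ N 𝓣 h hs
  by_contra hn
  obtain ⟨α, hα, h1⟩ := h.e1
  obtain ⟨β, hβ, h2⟩ := h.e2
  obtain ⟨T, hT, a1, a2, a3⟩ := QA.exists_qt h hs hn hα hβ h1 h2
  have := finite8 (F := F)
  obtain ⟨r, hr, ho, hp, x, hx, h3, h4⟩ := QA.exists_prime (h.simple T hT).1 (h.simple T hT).2 (ringChar F)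
  obtain ⟨a, rfl⟩ := QuotientGroup.mk_surjective x
  obtain ⟨e, he⟩ := mk_eq_one_iff.1 ((QuotientGroup.mk_pow _ a r).trans h4)
  have h5 : ((a ^ (r + 1) : E8 F) : G8 F) = a := by rw [QuotientGroup.mk_pow, pow_succ, h4, one_mul]
  obtain ⟨b, c, k, hb, hc⟩ := exists_T3_odd ho (odd_lift ho he)
  have h6 := L.lq F _ b c r hr ho (fun k => hp ((Nat.prime_dvd_prime_iff_eq (CharP.char_is_prime F (ringChar F)) hr).1
    ((ringChar.spec F r).1 k)).symm) k (odd_lift ho he) hb hc (a1 _ (h5.symm ▸ hx))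
    (conjE_inv_conjE M₁ b ▸ QA.qd_conj M₁⁻¹ (a2 _ ⟨_, h5.symm ▸ hx, h1 _ b c k⟩))
    (conjE_inv_conjE M₂ c ▸ QA.qd_conj M₂⁻¹ (a3 _ ⟨_, h5.symm ▸ hx, h2 _ b c k⟩))
  exact h3 (by rw [← h5, h6, QuotientGroup.mk_one])

end Cfsg.Agent.N2C.D4
end

-- part: N2/Cl/D4/SubW
section
/-!
# N2 (S3519), `PΩ₈⁺(q)` with triality: `boxSubW`, `boxRes` (helper53)

`io : G8 F →* RingAut (End V)` is the explicit bridge, `ph M` is the conjugation by a semisimilitude.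
-/

set_option autoImplicit false
set_option linter.unusedSectionVars false

namespace Cfsg.Agent.N2C.D4

open QuadraticMap Module Cfsg.Agent.LieClassical.QuadForms Cfsg.Agent.LieClassical.OrthCore
  Cfsg.Agent.LieClassical.OrthTrans Cfsg.Agent.ClassicalGeometry.OrthSemi Cfsg.Agent.ClassicalGeometry.OrthAut1
  Cfsg.Agent.ClassicalGeometry.Triality Cfsg.Agent.SB.D4
open Cfsg.Agent.DS.Cl Cfsg.Agent.DS.Cl.Fwd
open Cfsg.Agent.TH.Cl (KO)

namespace SubW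

section ring

open Cfsg.Agent.N2C.Sub Cfsg.Agent.N2C.Cyc

variable {A : Type} [Ring A] [StarRing A] [Finite A] {F : FR A} {φ : RingAut A} {n q : ℕ}

/-- field automorphisms of even orthogonal groups, without context -/
theorem gc_even (ss : SS A) (hφ : φ ∈ F.Aut) (hl : φ ∉ Lin A) (hp : (orderOf φ).Prime)
    (hz : ∀ z ∈ Subring.center A, star z = z) (T : TyO F n q) (o : 5 * q ^ n.choose 2 ≤ 32 * Nat.card F.S)
    (o' : Even q → 5 * q ^ n.choose 2 ≤ 8 * Nat.card F.S) (hn : 8 ≤ n) (h7 : Even n) : GC F φ := by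
  rcases exists_gal ss hφ.1 hl hp with ⟨c, h, g⟩ | ⟨h, -⟩
  swap
  · exact absurd (fun z k => (h z k).trans (hz z k)) hl
  obtain ⟨A0, _, _, _, F0, ι, d⟩ := dn_field ss hφ g h
  obtain ⟨q0, h3, h4, -, -, t⟩ := d.ty_field (n := n) (q := q) boxTy hφ.1 g h
  replace t := t T
  have h5 : Nat.card (CS F φ) ≤ 4 * q0 ^ n.choose 2 := by
    have := d.card_le
    have := t.iso (by omega)
    rw [← t.L]
    omega
  have h6 := T.c0.symm.trans h4
  subst h6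
  obtain ⟨m, rfl⟩ := even_iff_exists_two_mul.1 h7
  refine d.gc_tor g (t.tor h7 (by omega)) h3 ?_
  rcases q0.even_or_odd with h8 | h8
  · exact num_O2 h3 hp.two_le (by omega) (by norm_num) (Nat.pow_le_pow_left h3 4) h5 (o' (h8.pow_of_ne_zero g.pos.ne'))
  · exact num_O2 h3 hp.two_le (by omega) (by norm_num)
      (le_trans (by norm_num) (Nat.pow_le_pow_left (show 3 ≤ q0 by grind) 4)) h5 o

/-- a form of the ring which is invariant under an irreducible group is star-simple -/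
theorem ss_of_gen (ss : SS A) {M : Subgroup (RingAut A)} (hI : _root_.Cfsg.Agent.DS.Cl.Irr M) {B : Subring A} (hs : ∀ x ∈ B, star x ∈ B)
    (hB : _root_.Cfsg.Agent.DS.Cl.Inv M B) (hgen : Subring.closure ((Subring.center A : Set A) ∪ B) = ⊤) : SS (Blk.ofSubring B hs).T := by
  have := ss.nontrivial
  have := semisimple_of_inv ss hI hs hB
  set B' := Blk.ofSubring B hs
  have : Nontrivial B'.T := ⟨⟨1, 0, fun h1 => one_ne_zero (congrArg B'.val h1)⟩⟩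
  refine ss_of_idem fun e hc h3 hee => or_iff_not_imp_left.2 fun h0 => B'.val_inj ?_
  have h1 := ss.isUnit_of_cen (cen_of_comm hgen (B'.mem_center_iff.1 hc)) (congrArg B'.val h3) fun k => h0 (B'.val_inj k)
  exact h1.mul_left_cancel ((congrArg B'.val hee).trans (mul_one _).symm)

end ring

variable {F : Type} [Field F] [Fintype F]

variable (F) in
/-- the polar form -/
abbrev hh : HF F (V8 F) := orH (Q8 F) (good8 (F := F)).nondeg

/-- units -/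
def ps : E8 F →* (hh F).EBˣ := (Cyc.unE (hh F)).symm.toMonoidHom.comp (E (Q8 F)).subtype

theorem unE_ps (a : E8 F) : Cyc.unE (hh F) (ps a) = a.1 := (Cyc.unE (hh F)).apply_symm_apply _

theorem cj_ps {a : E8 F} : cj _ (ps a) = 1 ↔ (a : G8 F) = 1 := by
  rw [cj_eq_one_iff, mk_eq_one_iff]
  refine ⟨fun k => SB.Tor.exists_sc _ k, fun ⟨e, k⟩ => ?_⟩
  rw [show (ps a : (hh F).EB) = (hh F).eb (e • 1) from (hh F).ap_ext k]
  exact (hh F).smul_mem_center e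

/-- the bridge -/
def io : G8 F →* RingAut (hh F).EB :=
  QuotientGroup.lift _ ((cj _).comp ps) fun a ha => cj_ps.2 ((QuotientGroup.eq_one_iff a).2 ha)

theorem io_mk (a : E8 F) : io (a : G8 F) = cj _ (ps a) := rfl

theorem io_inj : Function.Injective (io (F := F)) := (injective_iff_map_eq_one _).2 fun g hg => by
  obtain ⟨a, rfl⟩ := QuotientGroup.mk_surjective g
  exact cj_ps.1 hg

theorem exists_ph (M : Gam (Q8 F)) :
    ∃ γ : RingAut (hh F).EB, ∀ a v, (hh F).ap (γ a) (M.1 v) = M.1 ((hh F).ap a v) :=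
  let ⟨σ, _, g⟩ := M.2
  ⟨_, (hh F).ap_semiAut M.1 σ g.add g.smul⟩

theorem ph_ext (M : Gam (Q8 F)) {a b : (hh F).EB} (k : ∀ v, (hh F).ap a (M.1 v) = (hh F).ap b (M.1 v)) : a = b :=
  (hh F).ap_ext fun v => by
    obtain ⟨v, rfl⟩ := M.1.surjective v
    exact k v

/-- conjugation by a semisimilitude -/
noncomputable def ph : Gam (Q8 F) →* RingAut (hh F).EB := MonoidHom.mk' (fun M => (exists_ph M).choose) fun M M' =>
  RingEquiv.ext fun a => ph_ext (M * M') fun v => ((exists_ph (M * M')).choose_spec a v).trans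
    (((exists_ph M).choose_spec _ _).trans (congrArg M.1 ((exists_ph M').choose_spec a v))).symm

theorem ap_ph (M : Gam (Q8 F)) (a : (hh F).EB) (v : V8 F) : (hh F).ap (ph M a) (M.1 v) = M.1 ((hh F).ap a v) :=
  (exists_ph M).choose_spec a v

theorem ph_io (M : Gam (Q8 F)) (g : G8 F) : ph M * io g * (ph M)⁻¹ = io (Psi (Q8 F) M g) := by
  have hob_ := QuotientGroup.mk_surjective g
  obtain ⟨a, rfl⟩ := hob_
  simp only [Psi_mk, io_mk, io_mk, conj_cj]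
  exact congrArg _ (Units.ext (ph_ext M fun v => (ap_ph M _ v).trans (conjE_apply M a v).symm))

theorem comm_iff {M : Gam (Q8 F)} {g : G8 F} : io g * ph M = ph M * io g ↔ Psi (Q8 F) M g = g := by
  (simp +singlePass only [← io_inj.eq_iff]; simp only [← ph_io]; simp only [mul_inv_eq_iff_eq_mul]; (conv => enter [@1]; rw [eq_comm]))

theorem ph_eq_one {M : Gam (Q8 F)} : ph M = 1 ↔ Psi (Q8 F) M = 1 := by
  refine ⟨fun k => MulEquiv.ext fun g => comm_iff.1 (by rw [k, mul_one, one_mul]), fun k => ?_⟩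
  obtain ⟨c, rfl⟩ := (ker_Psi good8).le k
  exact RingEquiv.ext fun a => ph_ext _ fun v => (ap_ph _ a v).trans (map_smul ((hh F).ap a) _ v).symm

variable {R : FR (hh F).EB}

theorem exists_R : ∃ R : FR (hh F).EB, KO (hh F) R (Q8 F) ∧ SS (hh F).EB ∧ R.Span := by
  obtain ⟨R, h1, h2, h3, h4, e, -⟩ := SB.Br.modO F _ (Q8 F) good8
  obtain ⟨e₀⟩ : Nonempty (POmega F (quadFormPlus 4 F) ≃* G8 F) := by
    rw [← LieClassical.OrthForms.coe_plusForm]
    exact ⟨ClassicalGeometry.OrthSemiForms.pomegaEquiv good8⟩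
  have h0 : finrank F (V8 F) = 2 * 4 := by
    rw [Module.finrank_fintype_fun_eq_card, Fintype.card_sum, Fintype.card_fin]
  exact ⟨R, ⟨⟨fun _ => rfl, fun _ _ => rfl, h1, h2⟩, by omega, Or.inr (Or.inl ⟨4, h0, ⟨e.trans e₀.symm⟩,
    LinearEquiv.refl _ _, fun v => congrFun (LieClassical.OrthForms.coe_plusForm 4 F) v⟩)⟩, h3, h4⟩

variable (k : KO (hh F) R (Q8 F))
include k

theorem ps_mem (a : E8 F) : ps a ∈ Cyc.I0 R := (Cyc.mem_I0_O k _).2 (unE_ps a ▸ a.2)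

theorem io_mem (g : G8 F) : io g ∈ R.S := by
  obtain ⟨a, rfl⟩ := QuotientGroup.mk_surjective g
  exact ⟨_, ps_mem k a, rfl⟩

theorem exists_io {γ : RingAut (hh F).EB} (hγ : γ ∈ R.S) : ∃ g, io g = γ := by
  obtain ⟨u, hu, rfl⟩ := hγ
  exact ⟨((⟨_, (Cyc.mem_I0_O k u).1 hu⟩ : E8 F) : G8 F), congrArg (cj _) ((Cyc.unE (hh F)).symm_apply_apply u)⟩

theorem io_surj : Function.Surjective (io.codRestrict R.S (io_mem k)) := fun s =>
  (exists_io k s.2).imp fun _ => Subtype.ext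

theorem good_of {H : Subgroup (RingAut (hh F).EB)} {A : Subgroup (G8 F)} (h : ∀ g, io g ∈ H ↔ g ∈ A)
    (hg : FP3.Good (H.subgroupOf R.S)) : FP3.Good A :=
  (show (H.subgroupOf R.S).comap (io.codRestrict R.S (io_mem k)) = A from Subgroup.ext h) ▸
    (N2.good_comap _ (io_surj k) _).2 hg

theorem aut_iff {γ : RingAut (hh F).EB} {M : V8 F → V8 F} (hs : Function.Surjective M) {σ : F → F} {c : F}
    (h0 : ∀ a v, (hh F).ap (γ a) (M v) = M ((hh F).ap a v))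
    (h1 : ∀ u v, polar (Q8 F) (M u) (M v) = c * σ (polar (Q8 F) u v)) :
    γ R.l - R.l ∈ R.L ↔ ∀ v, Q8 F (M v) = c * σ (Q8 F v) := by
  rw [k.o.2.2.1, mem_Lmin_iff, hs.forall]
  refine forall_congr' fun v => ?_
  have h2 : ∀ v, polar (Q8 F) v ((hh F).ap R.l v) = Q8 F v := k.o.2.2.2
  rw [(hh F).ap_sub, polar_sub_right, h0, h1, h2, h2, sub_eq_zero, eq_comm]

theorem ph_mem (M : Gam (Q8 F)) : ph M ∈ R.Aut := by
  obtain ⟨σ, c, g⟩ := M.2
  refine ⟨?_, (aut_iff k M.1.surjective (ap_ph M) g.polar).2 g.form⟩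
  rw [show ph M = (hh F).semiAut M.1 σ g.add g.smul from RingEquiv.ext fun a => ph_ext M fun v =>
    (ap_ph M a v).trans ((hh F).ap_semiAut M.1 σ g.add g.smul a v).symm]
  exact (hh F).semiAut_mem M.1 σ g.add g.smul g.polar

theorem ph_surj {γ : RingAut (hh F).EB} (hγ : γ ∈ R.Aut) : ∃ M, ph M = γ := by
  obtain ⟨L⟩ := SB.Tor.exists_SL _ hγ.1
  let M : Gam (Q8 F) := ⟨L.g.toEquiv, L.σ, L.μ, L.μ_ne, map_add L.g, L.smul,
    (aut_iff k L.g.surjective L.conj L.form).1 hγ.2⟩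
  exact ⟨M, RingEquiv.ext fun a => ph_ext M fun v => (ap_ph M a v).trans (L.conj a v).symm⟩

theorem ps_lft {N : Subgroup (G8 F)} {a : E8 F} (ha : a ∈ lf N) : ps a ∈ lft R (N.map io) := by
  have h1 : (N.comap (QuotientGroup.mk' _)).map ps ≤ (N.map io).comap (cj _) ⊓ R.Iso := by
    rintro _ ⟨b, hb, rfl⟩
    exact ⟨⟨_, hb, rfl⟩, FR.comm_le_Iso (ps_mem k b)⟩
  refine Subgroup.commutator_mono h1 h1 ?_
  rw [← Subgroup.map_commutator]
  exact Subgroup.mem_map_of_mem _ ha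

theorem alg_top {N : Subgroup (G8 F)} (h : Spn (lf N)) : Main.alg R (N.map io) = ⊤ := by
  refine eq_top_iff.2 fun x _ => ?_
  have h1 : (hh F).ap x ∈ Submodule.span F ((fun a : E8 F => a.1.toLinearMap) '' lf N) := h ▸ Submodule.mem_top
  change (hh F).eb ((hh F).ap x) ∈ _
  generalize (hh F).ap x = y at h1
  induction h1 using Submodule.span_induction with
  | mem y hy =>
    obtain ⟨a, ha, rfl⟩ := hy
    have h2 := Cases.lft_le (ps_lft k ha)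
    exact Subring.subset_closure (Or.inr ⟨ps a, h2.2, h2.1, rfl⟩)
  | zero => exact Subring.zero_mem _
  | add y z _ _ hy hz => exact Subring.add_mem _ hy hz
  | smul c y _ hy =>
    rw [(hh F).eb_smul]
    exact Subring.mul_mem _ (Subring.subset_closure (Or.inl ((hh F).smul_mem_center c))) hy

end SubW

open SubW

/-- **[SubW]** -/
theorem boxSubW : BoxSubW := by
  intro F _ _ M hp hl
  have hob_ := exists_R (F := F)
  obtain ⟨R, k, ss, -⟩ := hob_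
  have h0 : finrank F (V8 F) = 8 := by
    rw [Module.finrank_fintype_fun_eq_card, Fintype.card_sum, Fintype.card_fin]
  have h1 : orderOf (ph M) = orderOf (Psi (Q8 F) M) :=
    orderOf_eq_orderOf_iff.2 fun n => by simp only [← map_pow, ← map_pow, ph_eq_one]
  refine good_of k (H := Subgroup.centralizer {ph M}) (fun g => Subgroup.mem_centralizer_singleton_iff.trans comm_iff)
    (gc_even ss (ph_mem k M) (fun h => hl fun c v => ?_) (h1 ▸ hp) (fun z hz => ?_) (Sub.tyO k.o (by omega))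
      (Sub.ord_O k).1 (Sub.ord_O k).2 h0.ge (by rw [h0]; decide)).good
  · have h2 := ap_ph M ((hh F).eb (c • 1)) v
    rw [h _ ((hh F).smul_mem_center c)] at h2
    exact h2.symm
  · obtain ⟨c, hc⟩ := SB.Tor.exists_sc _ hz
    rw [show z = (hh F).eb (c • 1) from (hh F).ap_ext hc]
    exact Cyc.sc_star c

/-- **[Res]** -/
theorem boxRes : BoxRes := by
  intro cf w F _ _ A Γ M₁ M₂ N 𝓣 c hs hN
  obtain ⟨R, k, ss, sp⟩ := exists_R (F := F)
  obtain ⟨p, hp, _⟩ := Br.exists_char F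
  have := simple8 (F := F)
  have e := MulEquiv.ofBijective (io.codRestrict R.S (io_mem k)) ⟨fun _ _ h => io_inj (congrArg Subtype.val h), io_surj k⟩
  have e' := N.equivMapOfInjective io io_inj
  have h1 : ¬ IsMulCommutative N := fun h => c.ne (eq_bot_iff.2 fun g hg =>
    c.cen g fun n hn => congrArg Subtype.val (h.is_comm.comm (⟨n, hn⟩ : N) ⟨g, hg⟩))
  have h2 : ¬ IsMulCommutative (N.map io) := fun h => h1 ⟨⟨fun x y => e'.injective (by
    ((conv => enter [@2]; rw [map_mul]); simp only [map_mul]; (conv => enter [@2]; rw [h.is_comm.comm])))⟩⟩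
  have h3 : ∀ B : Subgroup (G8 F), B.map io ≤ R.S := by
    rintro B _ ⟨g, -, rfl⟩
    exact io_mem k g
  by_cases h4 : Cases.A0 R (N.map io) = ⊤
  · refine Or.inl (good_of k (fun g => Subgroup.mem_map_iff_mem io_inj) (w F _ _ R _ (A.map io) (N.map io) p k
      ⟨cf, ss, sp, e.symm.isSimpleGroup, fun h => noncomm8 (F := F) ⟨⟨fun x y => e.injective (by
        ((conv => enter [@2]; rw [map_mul]); simp only [map_mul]; (conv => enter [@2]; rw [h.is_comm.comm])))⟩⟩, (h3 A).trans R.S_le_Aut, hp, Br.cast_EB _ p, fun h => ?_⟩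
      ⟨le_inf (Subgroup.map_mono c.le) (h3 N), ?_, e'.symm.isSimpleGroup, h2, h4, fun _ _ _ => k.o.2.2.1⟩))
    · exact c.mi.ne_top (eq_top_iff.2 fun g _ => (Subgroup.mem_map_iff_mem io_inj).1 (h (io_mem k g)))
    · rintro _ ⟨a, ha, rfl⟩ _ ⟨n, hn, rfl⟩
      exact ⟨_, c.inv _ ((c.mi.conj a).2 ha) n hn, by simp only [MulAut.conj_apply, map_mul, map_mul, map_inv]⟩
  have h5 : N.map io ≤ R.PI := (h3 N).trans R.S_le_PI
  have h6 := perfect_of_simple e'.symm.isSimpleGroup h2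
  have h7 := Cases.irr_of_alg (alg_top k hs)
  have h8 := Cases.gen_A0 h5 h6 (alg_top k hs)
  obtain ⟨φ, h9, h10, h11⟩ := Cases.exists_aut ss hp (Br.cast_EB _ p) (ss_of_gen ss h7 Cases.star_A0
    (Cases.inv_A0 (h5.trans R.PI_le_Aut) fun _ hx _ hy => mul_mem (mul_mem hx hy) (inv_mem hx)) h8) h8 h4
  have h12 : ∀ s ∈ N.map io, s * φ = φ * s := fun s hs => by
    obtain ⟨u, hu, rfl⟩ := Cases.exists_lft h5 h6 hs
    rw [eq_comm, ← mul_inv_eq_iff_eq_mul, conj_cj]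
    exact congrArg _ (Units.ext (h11 _ (Cases.mem_A0 hu)))
  obtain ⟨M, rfl⟩ := ph_surj k (Cases.mem_Aut_of_norm ss (h5.trans R.PI_le_Aut) h7 h9 fun s hs => by
    rwa [mul_assoc, h12 s hs, inv_mul_cancel_left])
  exact Or.inr ⟨M, fun h => h10 (ph_eq_one.2 h), fun n hn => comm_iff.1 (h12 _ ⟨n, hn, rfl⟩)⟩

end Cfsg.Agent.N2C.D4
end

-- part: N2/Cl/D4/T44
section
/-!
# N2 (S3519), `PΩ₈⁺(q)` with triality: gradings of the octonions, `boxT44`, `boxSg` (helper51)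
-/

set_option autoImplicit false
set_option linter.unusedSectionVars false

namespace Cfsg.Agent.N2C.D4

open QuadraticMap Module Cfsg.Agent.LieClassical.QuadForms Cfsg.Agent.LieClassical.OrthCore
  Cfsg.Agent.LieClassical.OrthTrans Cfsg.Agent.ClassicalGeometry.OrthSemi Cfsg.Agent.ClassicalGeometry.OrthAut1
  Cfsg.Agent.ClassicalGeometry.TrialityOct Cfsg.Agent.ClassicalGeometry.Triality
  Cfsg.Agent.H989.OutOrth.Basic Cfsg.Agent.H989.OutOrth.Tri Cfsg.Agent.SB.D4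

namespace T44

variable {F : Type} [Field F] [Fintype F] {C₁ C₂ C₃ D₂ D₃ C : Submodule F (V8 F)}

/-- the nucleus -/
theorem nuc {g h : V8 F → V8 F} (e : ∀ x y, pm (g x) y = pm x (h y)) : ∃ l : F, (∀ x, g x = l • x) ∧ ∀ y, h y = l • y := by
  have h0 : ∀ u v, omul (oconj (g (oconj u))) v = omul u (oconj (h (oconj v))) := fun u v => by
    have h1 := e (oconj u) (oconj v)
    rwa [pm, pm, oconj_oconj, oconj_oconj] at h1
  obtain ⟨a, ha⟩ : ∃ a, a = oconj (h (oconj (one8 F))) := ⟨_, rfl⟩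
  have h1 : ∀ u, oconj (g (oconj u)) = omul u a := fun u => by rw [ha, ← h0, omul_one]
  have h2 : ∀ v, oconj (h (oconj v)) = omul a v := fun v => by rw [← one_omul (oconj (h _)), ← h0, h1, one_omul]
  have h3 := scalar_of_assoc (c := a) fun x y => by rw [← h1, ← h2, h0]
  refine ⟨a (.inl 0), fun x => ?_, fun y => ?_⟩
  · have h4 := h1 (oconj x)
    rw [oconj_oconj, h3, omul_smul, omul_one, ← oconj_smul] at h4
    exact (kap F).injective h4
  · have h4 := h2 (oconj y)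
    rw [oconj_oconj, h3, smul_omul, one_omul, ← oconj_smul] at h4
    exact (kap F).injective h4

/-- non-degenerate solids -/
def N4 (C : Submodule F (V8 F)) : Prop := finrank F C = 4 ∧ Nd (Q8 F) C

theorem N4.prp (h : N4 C) : N4 (prp (Q8 F) C) := by
  have h1 := finrank_prp nondeg8' C
  rw [finrank8, h.1] at h1
  exact ⟨by omega, h.2.nd_prp nondeg8'⟩

theorem N4.ns (h : N4 C) : ∃ x ∈ C, Q8 F x ≠ 0 := h.2.exists_nonsing fun e => by
  have h1 := h.1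
  rw [e, finrank_bot] at h1
  omega

theorem N4.map (h : N4 C) (a : E8 F) : N4 (C.map a.1.toLinearMap) := ⟨(LinearEquiv.finrank_map_eq a.1 C).trans h.1, by
  rintro _ ⟨x, hx, rfl⟩ e
  rw [h.2 x hx fun y hy => (polar_map (E_le_O a.2) x y).symm.trans (e _ ⟨y, hy, rfl⟩), map_zero]⟩

theorem pj (h : Nd (Q8 F) C) (x : V8 F) : ∃ u ∈ C, x - u ∈ prp (Q8 F) C := by
  obtain ⟨u, hu, v, hv, rfl⟩ := Submodule.mem_sup.1 (h.sup_prp nondeg8' ▸ Submodule.mem_top (x := x))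
  exact ⟨u, hu, by rwa [add_sub_cancel_left]⟩

theorem cmp (h : Nd (Q8 F) C) {u u' v v' : V8 F} (hu : u ∈ C) (hv : v ∈ C) (hu' : u' ∈ prp (Q8 F) C)
    (hv' : v' ∈ prp (Q8 F) C) (e : u + u' = v + v') : u = v :=
  sub_eq_zero.1 (h _ (sub_mem hu hv) (mem_prp.1 ((sub_eq_sub_iff_add_eq_add.2 (e.trans (add_comm _ _))) ▸ sub_mem hv' hu')))

/-- gradings -/
structure Gr (C₁ C₂ C₃ : Submodule F (V8 F)) : Prop where
  n₁ : N4 C₁
  n₂ : N4 C₂
  n₃ : N4 C₃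
  mul : ∀ x ∈ C₂, ∀ y ∈ C₃, pm x y ∈ C₁

theorem Gr.rot (h : Gr C₁ C₂ C₃) : Gr C₂ C₃ C₁ := by
  obtain ⟨w, hw, h0⟩ := h.n₃.ns
  have h1 : C₂.map (pr w) = C₁ := Submodule.eq_of_le_of_finrank_eq (by rintro _ ⟨x, hx, rfl⟩; exact h.mul x hx w hw)
    (by rw [← (Submodule.equivMapOfInjective _ (pr_injective h0) C₂).finrank_eq, h.n₂.1, h.n₁.1])
  refine ⟨h.n₂, h.n₃, h.n₁, fun y hy z hz => ?_⟩
  obtain ⟨x, hx, rfl⟩ := h1.ge hz
  obtain ⟨x', hx', e⟩ := h1.ge (h.mul x hx y hy)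
  have h2 := pm_lin_right y w x
  rw [← e, pr_apply, pm_pm_right] at h2
  rw [pr_apply, eq_sub_of_add_eq h2]
  exact sub_mem (C₂.smul_mem _ hx) (C₂.smul_mem _ hx')

theorem Gr.p₁₃ (h : Gr C₁ C₂ C₃) : Gr (prp (Q8 F) C₁) C₂ (prp (Q8 F) C₃) :=
  ⟨h.n₁.prp, h.n₂, h.n₃.prp, fun x hx y hy => mem_prp.2 fun z hz => by
    rw [polar_comm, ← polar_pm, polar_comm]
    exact mem_prp.1 hy _ (h.rot.rot.mul z hz x hx)⟩

theorem Gr.p₁₂ (h : Gr C₁ C₂ C₃) : Gr (prp (Q8 F) C₁) (prp (Q8 F) C₂) C₃ := h.rot.p₁₃.rot.rot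

theorem Gr.p₂₃ (h : Gr C₁ C₂ C₃) : Gr C₁ (prp (Q8 F) C₂) (prp (Q8 F) C₃) := h.rot.p₁₂.rot.rot

theorem Gr.ts (h : Gr C₁ C₂ C₃) : HasTS (Q8 F) C₁ := by
  obtain ⟨x, hx, hx0, hx1⟩ := LieClassical.OrthFinite.exists_sing_mem (Q := Q8 F) C₂ (by have := h.n₂.1; omega)
  refine hasTS_of_le (U := C₃.map (pl x)) ?_ ?_ ?_
  · rintro _ ⟨y, hy, rfl⟩
    exact h.mul x hx y hy
  · rintro _ ⟨y, -, rfl⟩
    rw [pl_apply, norm_pm, hx1, zero_mul]
  · have h1 := ((pl x).domRestrict C₃).finrank_range_add_finrank_ker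
    rw [LinearMap.range_domRestrict, LinearMap.ker_domRestrict, ← Submodule.finrank_map_subtype_eq,
      Submodule.map_comap_subtype] at h1
    have h3 := h.n₃.2.two_mul_le (U := C₃ ⊓ LinearMap.ker (pl x)) inf_le_left fun y hy z hz =>
      polar_of_ts (fun w hw => by
        have h4 := pm_pm_right w x
        rw [show pm x w = 0 from hw.2, pm_zero] at h4
        exact (smul_eq_zero.1 h4.symm).resolve_right hx0) hy hz
    have := h.n₃.1
    omega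

theorem le_or (hC : Nd (Q8 F) C) {p : V8 F → V8 F} (h1 : ∀ x, p x ∈ C) (h2 : ∀ x, x - p x ∈ prp (Q8 F) C) {l : F}
    (h : ∀ x ∈ D₂, p x = l • x) : D₂ ≤ C ∨ D₂ ≤ prp (Q8 F) C := by
  by_cases h0 : l = 0
  · exact .inr fun x hx => by simpa [h x hx, h0] using h2 x
  · exact .inl fun x hx => (C.smul_mem_iff h0).1 (h x hx ▸ h1 x)

/-- uniqueness -/
theorem Gr.uq (h : Gr C₁ C₂ C₃) (h' : Gr C₁ D₂ D₃) :
    (D₂ ≤ C₂ ∨ D₂ ≤ prp (Q8 F) C₂) ∧ (C₃ ≤ D₃ ∨ C₃ ≤ prp (Q8 F) D₃) := by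
  choose p p1 p2 using pj h.n₂.2
  choose q q1 q2 using pj h'.n₂.2
  choose r r1 r2 using pj h.n₃.2
  choose s s1 s2 using pj h'.n₃.2
  obtain ⟨l, h1, h2⟩ := nuc (g := fun x => p (q x) + (x - q x - p (x - q x)))
    (h := fun y => s (r y) + (y - r y - s (y - r y))) fun x y => by
      obtain ⟨a, a', ha, ha', rfl, e, e'⟩ : ∃ a a', a ∈ D₂ ∧ a' ∈ prp (Q8 F) D₂ ∧ x = a + a' ∧ q x = a ∧ x - q x = a' :=
        ⟨_, _, q1 x, q2 x, (add_sub_cancel _ _).symm, rfl, rfl⟩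
      obtain ⟨b, b', hb, hb', rfl, f, f'⟩ : ∃ b b', b ∈ C₃ ∧ b' ∈ prp (Q8 F) C₃ ∧ y = b + b' ∧ r y = b ∧ y - r y = b' :=
        ⟨_, _, r1 y, r2 y, (add_sub_cancel _ _).symm, rfl, rfl⟩
      rw [e', e, f', f]
      have k1 := cmp h.n₁.2 (h.mul _ (p1 a) _ hb) (h'.mul _ ha _ (s1 b)) (h.p₁₂.mul _ (p2 a) _ hb)
        (h'.p₁₃.mul _ ha _ (s2 b)) (by rw [← add_pm, ← pm_add, add_sub_cancel, add_sub_cancel])
      have k2 := cmp h.n₁.2 (h.p₂₃.mul _ (p2 a) _ hb') (h'.mul _ ha _ (s1 b')) (h.p₁₃.mul _ (p1 a) _ hb')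
        (h'.p₁₃.mul _ ha _ (s2 b')) (by rw [← add_pm, ← pm_add, sub_add_cancel, add_sub_cancel])
      have k3 := cmp h.n₁.2 (h.mul _ (p1 a') _ hb) (h'.p₂₃.mul _ ha' _ (s2 b)) (h.p₁₂.mul _ (p2 a') _ hb)
        (h'.p₁₂.mul _ ha' _ (s1 b)) (by rw [← add_pm, ← pm_add, sub_add_cancel, add_sub_cancel])
      have k4 := cmp h.n₁.2 (h.p₂₃.mul _ (p2 a') _ hb') (h'.p₂₃.mul _ ha' _ (s2 b')) (h.p₁₃.mul _ (p1 a') _ hb')
        (h'.p₁₂.mul _ ha' _ (s1 b')) (by rw [← add_pm, ← pm_add, sub_add_cancel, sub_add_cancel])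
      simp only [add_pm, pm_add, sub_pm, pm_sub] at k2 k3 k4 ⊢
      linear_combination (exp := 1) k1 - k2 - k3 + k4
  have z : ∀ {U : Submodule F (V8 F)} {t : V8 F → V8 F}, Nd (Q8 F) U → (∀ x, t x ∈ U) → (∀ x, x - t x ∈ prp (Q8 F) U) →
      ∀ x ∈ U, t x = x := fun hU t1 t2 x hx => cmp hU (t1 x) hx (t2 x) (zero_mem _) (by rw [add_sub_cancel, add_zero])
  refine ⟨le_or h.n₂.2 p1 p2 (l := l) fun x hx => ?_, le_or h'.n₃.2 s1 s2 (l := l) fun y hy => ?_⟩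
  · rw [← h1, z h'.n₂.2 q1 q2 x hx, sub_self, z h.n₂.2 p1 p2 0 (zero_mem _), sub_self, add_zero]
  · rw [← h2, z h.n₃.2 r1 r2 y hy, sub_self, z h'.n₃.2 s1 s2 0 (zero_mem _), sub_self, add_zero]

/-! ### alternating maps of rank two -/

variable {N N' : Module.End F (V8 F)}

theorem skew (h : ∀ x, polar (Q8 F) (N x) x = 0) (x y : V8 F) : polar (Q8 F) (N x) y = -polar (Q8 F) x (N y) := by
  have h1 := h (x + y)
  rw [map_add, polar_add_left, polar_add_right, polar_add_right, h, h, polar_comm _ (N y)] at h1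
  linear_combination h1

theorem inv_prp (h : ∀ x, polar (Q8 F) (N x) x = 0) (hC : ∀ x ∈ C, N x ∈ C) : ∀ x ∈ prp (Q8 F) C, N x ∈ prp (Q8 F) C :=
  fun x hx => mem_prp.2 fun y hy => by rw [skew h, mem_prp.1 hx _ (hC y hy), neg_zero]

theorem two_le (hN : Nd (Q8 F) C) (h : ∀ x, polar (Q8 F) (N x) x = 0) (hC : ∀ x ∈ C, N x ∈ C) :
    (∀ x ∈ C, N x = 0) ∨ 2 ≤ finrank F ↥(C ⊓ LinearMap.range N) := by
  refine or_iff_not_imp_left.2 fun h0 => ?_
  push Not at h0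
  obtain ⟨x, hx, h0⟩ := h0
  obtain ⟨y, hy, h1⟩ := hN.exists_one (hC x hx) h0
  refine (Fintype.card_fin 2).ge.trans (LinearIndependent.fintype_card_le_finrank
    (b := ![⟨N x, hC x hx, x, rfl⟩, ⟨N y, hC y hy, y, rfl⟩]) (LinearIndependent.pair_iff.2 fun s t e => ?_))
  have e1 : s • N x + t • N y = 0 := congrArg Subtype.val e
  have e2 := congrArg (polar (Q8 F) · y) e1
  have e3 := congrArg (polar (Q8 F) · x) e1
  simp only [polar_add_left, polar_smul_left, h, h1, skew h y x, polar_comm _ y, polar_zero_left, smul_eq_mul] at e2 e3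
  exact ⟨by linear_combination e2, by linear_combination -e3⟩

theorem half (hN : Nd (Q8 F) C) (h : ∀ x, polar (Q8 F) (N x) x = 0) (hC : ∀ x ∈ C, N x ∈ C)
    (hr : finrank F (LinearMap.range N) < 4) : (∀ x ∈ C, N x = 0) ∨ ∀ x ∈ prp (Q8 F) C, N x = 0 := by
  refine (two_le hN h hC).elim .inl fun h1 => (two_le (hN.nd_prp nondeg8') h (inv_prp h hC)).elim .inr fun h2 => ?_
  have h3 := Submodule.finrank_sup_add_finrank_inf_eq (C ⊓ LinearMap.range N) (prp (Q8 F) C ⊓ LinearMap.range N)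
  rw [← inf_inf_distrib_right, hN.inf_prp, bot_inf_eq, finrank_bot] at h3
  have h4 := Submodule.finrank_mono (sup_le (inf_le_right (a := C)) (inf_le_right (a := prp (Q8 F) C) (b := LinearMap.range N)))
  omega

theorem cross (hN : Nd (Q8 F) C) (h : ∀ x, polar (Q8 F) (N x) x = 0) (hC : ∀ x ∈ C, N x ∈ C) (hC' : ∀ x ∈ C, N' x ∈ C)
    (h1 : ∀ x ∈ C, N x = 0) (h2 : ∀ x ∈ prp (Q8 F) C, N' x = 0) (x : V8 F) : N (N' x) = N' (N x) := by
  obtain ⟨u, hu, hv⟩ := pj hN x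
  obtain ⟨v, rfl⟩ : ∃ v, x = u + v := ⟨x - u, (add_sub_cancel _ _).symm⟩
  rw [add_sub_cancel_left] at hv
  rw [map_add, map_add N u, h2 v hv, h1 u hu, add_zero, zero_add, h1 _ (hC' u hu), h2 _ (inv_prp h hC v hv)]

theorem side (hN : Nd (Q8 F) C) (h : ∀ x, polar (Q8 F) (N x) x = 0) (h' : ∀ x, polar (Q8 F) (N' x) x = 0)
    (hC : ∀ x ∈ C, N x ∈ C) (hC' : ∀ x ∈ C, N' x ∈ C) (hr : finrank F (LinearMap.range N) < 4)
    (hr' : finrank F (LinearMap.range N') < 4) (hn : ¬ ∀ x, N (N' x) = N' (N x)) :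
    ∃ D, (D = C ∨ D = prp (Q8 F) C) ∧ ∀ x ∈ D, N x = 0 ∧ N' x = 0 := by
  rcases half hN h hC hr with h1 | h1 <;> rcases half hN h' hC' hr' with h2 | h2
  · exact ⟨_, .inl rfl, fun x hx => ⟨h1 x hx, h2 x hx⟩⟩
  · exact absurd (cross hN h hC hC' h1 h2) hn
  · exact absurd (fun x => (cross hN h' hC' hC h2 h1 x).symm) hn
  · exact ⟨_, .inr rfl, fun x hx => ⟨h1 x hx, h2 x hx⟩⟩

theorem rank_lt {U W : Submodule F (V8 F)} (hU : finrank F U = 4) (hW : finrank F W = 4) (h1 : LinearMap.range N ≤ U)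
    (h2 : LinearMap.range N ≤ W) (h : ¬ U ≤ W) : finrank F (LinearMap.range N) < 4 :=
  not_le.1 fun k => h ((Submodule.eq_of_le_of_finrank_le h1 (hU.trans_le k)).ge.trans h2)

/-- the partners of a long root element -/
theorem part {e e' : V8 F} (he : Q8 F e = 0) (he' : Q8 F e' = 0) (h₁ : polar (Q8 F) e e' = 0) (h0 : e ≠ 0)
    (hl : ∀ l : F, e' ≠ l • e) {b c : E8 F} (h : T3 ⟨siegel (Q8 F) e e' he h₁, siegel_mem_E he h₁⟩ b c) :
    ∃ (n m : Module.End F (V8 F)) (ε δ : F), ε ≠ 0 ∧ δ ≠ 0 ∧ (∀ x, b.1 x = ε • (x + n x)) ∧ (∀ y, c.1 y = δ • (y + m y)) ∧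
      (∀ x, polar (Q8 F) (n x) x = 0) ∧ (∀ y, polar (Q8 F) (m y) y = 0) ∧ finrank F (LinearMap.range n) < 4 ∧
      finrank F (LinearMap.range m) < 4 ∧ ∀ x y, siegel (Q8 F) e e' he h₁ (pm x y) = pm (x + n x) (y + m y) := by
  have h0' : e' ≠ 0 := by simpa using hl 0
  have hp : ∀ y : V8 F, Q8 F y = 0 → y ≠ 0 → finrank F (LinearMap.range (pl y)) = 4 := fun y hy hy0 => by
    rw [range_pl]
    exact ClassicalGeometry.TrialitySpaces.finrank_leftSp (by rwa [norm_oconj])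
      (ClassicalGeometry.TrialitySpaces.oconj_ne_zero hy0)
  have k : ∀ x y, siegel (Q8 F) e e' he h₁ (pm x y) = pm (x + (pr e' ∘ₗ pl e) x) (y + (-(pl e ∘ₗ pr e')) y) := fun x y =>
    (siegel_pm he he' h₁ x y).trans ((congrArg _ (sub_eq_add_neg _ _) : _))
  obtain ⟨ε, hε, k1, k2⟩ := Tr.lin h (f := 1 + pr e' ∘ₗ pl e) (g := 1 + -(pl e ∘ₗ pr e')) k
  refine ⟨pr e' ∘ₗ pl e, -(pl e ∘ₗ pr e'), ε, ε⁻¹, hε, inv_ne_zero hε, k1, k2, fun x => ?_, fun y => ?_, ?_, ?_, k⟩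
  · show polar (Q8 F) (pm (pm e x) e') x = 0
    rw [polar_pm, polar_pm, pm_pm_right, polar_smul_right, h₁, smul_zero]
  · show polar (Q8 F) (-pm e (pm y e')) y = 0
    rw [polar_neg_left, polar_pm, pm_pm_left, polar_smul_right, h₁, smul_zero, neg_zero]
  · refine rank_lt (finrank_pr he' h0') (finrank_pr he h0) (LinearMap.range_comp_le_range _ _) ?_ fun k3 => ?_
    · rintro _ ⟨x, rfl⟩
      have h2 := pm_lin_left e e' x
      rw [h₁, zero_smul] at h2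
      exact ⟨-pm e' x, (neg_pm _ _).trans (eq_neg_of_add_eq_zero_left h2).symm⟩
    · obtain ⟨l, k4⟩ := pr_line he h0 he' h0' fun t => k3 ⟨t, rfl⟩
      exact hl l k4
  · refine rank_lt (hp e' he' h0') (hp e he h0) ?_ (by rw [LinearMap.range_neg]; exact LinearMap.range_comp_le_range _ _)
      fun k3 => ?_
    · rintro _ ⟨x, rfl⟩
      have h2 := pm_lin_right e e' x
      rw [h₁, zero_smul] at h2
      exact ⟨pm x e, eq_neg_of_add_eq_zero_right h2⟩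
    · obtain ⟨l, k4⟩ := pl_line he h0 he' h0' fun t => k3 ⟨t, rfl⟩
      exact hl l k4

theorem inv_of {b : E8 F} {ε : F} (hε : ε ≠ 0) (h : ∀ x, b.1 x = ε • (x + N x)) (hb : Kp b C C) : ∀ x ∈ C, N x ∈ C :=
  fun x hx => (add_mem_cancel_left hx).1 ((C.smul_mem_iff hε).1 (h x ▸ hb x hx))

theorem comm_of {b b' : E8 F} {ε ε' : F} (h : ∀ x, b.1 x = ε • (x + N x)) (h' : ∀ x, b'.1 x = ε' • (x + N' x))
    (e : ∀ x, N (N' x) = N' (N x)) : b * b' = b' * b := e8_ext fun x => by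
  rw [e8_mul, e8_mul, h, h', h', h]
  simp only [map_smul, map_add, e]
  module

end T44

open T44 in
theorem boxT44 : BoxT44 := by
  intro F _ _ C₁ C₂ C₃ d₁ d₂ d₃ n₁ n₂ n₃ hm
  have h : Gr C₁ C₂ C₃ := ⟨⟨d₁, n₁⟩, ⟨d₂, n₂⟩, ⟨d₃, n₃⟩, hm⟩
  refine ⟨h.ts, h.p₁₃.ts, fun a b c ht ha => ?_⟩
  have key : ∀ U, N4 U → Kp a C₁ U → Gr U (C₂.map b.1.toLinearMap) (C₃.map c.1.toLinearMap) := fun U hU k =>
    ⟨hU, h.n₂.map b, h.n₃.map c, by
      rintro _ ⟨x, hx, rfl⟩ _ ⟨y, hy, rfl⟩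
      exact ht x y ▸ k _ (hm x hx y hy)⟩
  have k : ∀ (g : E8 F) (U W : Submodule F (V8 F)), U.map g.1.toLinearMap ≤ W → Kp g U W := fun g U W e v hv => e ⟨v, hv, rfl⟩
  rcases ha with ha | ha
  · exact ⟨(h.uq (key _ h.n₁ ha)).1.imp (k _ _ _) (k _ _ _), ((key _ h.n₁ ha).uq h).2.imp (k _ _ _) (k _ _ _)⟩
  · refine ⟨(h.p₁₃.uq (key _ h.n₁.prp ha)).1.imp (k _ _ _) (k _ _ _), ?_⟩
    have h1 := ((key _ h.n₁.prp ha).uq h.p₁₂).2
    exact h1.imp (k _ _ _) (k _ _ _)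

open T44 in
theorem boxSg : BoxSg := by
  intro F _ _ e e' f f' he hf h₁ h₂ b c b' c' C₂ C₃ he' hf' hΔ t t' _ _ n₂ n₃ kb kb' kc kc'
  have he0 : e ≠ 0 := by rintro rfl; simp at hΔ
  have hf0 : f ≠ 0 := by rintro rfl; simp at hΔ
  obtain ⟨n, m, ε, δ, hε, hδ, b1, c1, an, am, rn, rm, k⟩ := part he he' h₁ he0 (by
    rintro l rfl
    exact hΔ (by simp only [polar_smul_left, smul_eq_mul]; ring)) t
  obtain ⟨n', m', ε', δ', hε', hδ', b1', c1', an', am', rn', rm', k'⟩ := part hf hf' h₂ hf0 (by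
    rintro l rfl
    exact hΔ (by simp only [polar_smul_right, smul_eq_mul]; ring)) t'
  have noc : ∀ d : F, ¬ ∀ x, siegel (Q8 F) e e' he h₁ (siegel (Q8 F) f f' hf h₂ x) =
      d • siegel (Q8 F) f f' hf h₂ (siegel (Q8 F) e e' he h₁ x) := fun d h => by
    have h1 := h e
    have h2 : siegel (Q8 F) e e' he h₁ e = e := by
      rw [siegel_apply, polar_self_of_sing he, polar_comm, h₁]
      simp
    obtain ⟨v, hv⟩ : ∃ v, v = siegel (Q8 F) f f' hf h₂ e := ⟨_, rfl⟩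
    have h3 : polar (Q8 F) e v = 0 := by
      simp only [hv, siegel_apply, hf', polar_add_right, polar_sub_right, polar_smul_right, polar_self_of_sing he,
        polar_comm _ f, polar_comm _ f', smul_eq_mul]
      ring
    have h4 : polar (Q8 F) e' v =
        polar (Q8 F) e f * polar (Q8 F) e' f' - polar (Q8 F) e f' * polar (Q8 F) e' f := by
      simp only [hv, siegel_apply, hf', polar_add_right, polar_sub_right, polar_smul_right, polar_comm _ e' e, h₁,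
        polar_comm _ f, polar_comm _ f', smul_eq_mul]
      ring
    rw [h2, ← hv, siegel_apply, h3, h4, zero_smul, mul_zero, zero_smul, add_zero, sub_zero] at h1
    have h5 := congrArg (polar (Q8 F) e') h1
    rw [polar_sub_right, polar_smul_right, polar_smul_right, polar_comm _ e' e, h₁, smul_zero, sub_zero, h4,
      smul_eq_mul] at h5
    rw [(mul_eq_right₀ hΔ).1 h5.symm, one_smul, sub_eq_self, smul_eq_zero] at h1
    exact h1.elim hΔ he0
  obtain ⟨D₂, d₂, z₂⟩ := side n₂ an an' (inv_of hε b1 kb) (inv_of hε' b1' kb') rn rn' fun h => by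
    have h1 := (t'.mul t).rot
    rw [← comm_of b1 b1' h] at h1
    obtain ⟨d, -, -, h2⟩ := h1.unique (t.mul t').rot
    exact noc d h2
  obtain ⟨D₃, d₃, z₃⟩ := side n₃ am am' (inv_of hδ c1 kc) (inv_of hδ' c1' kc') rm rm' fun h => by
    have h1 := (t'.mul t).rot.rot
    rw [← comm_of c1 c1' h] at h1
    obtain ⟨d, -, h2, -⟩ := h1.unique (t.mul t').rot.rot
    exact noc d h2
  refine ⟨D₂, D₃, d₂, d₃, fun x hx y hy => ?_⟩
  have h1 := k x y
  have h2 := k' x y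
  rw [(z₂ x hx).1, (z₃ y hy).1, add_zero, add_zero] at h1
  rw [(z₂ x hx).2, (z₃ y hy).2, add_zero, add_zero] at h2
  generalize pm x y = v at h1 h2
  rw [siegel_apply, he', zero_mul, zero_smul, sub_zero, add_sub_assoc, add_eq_left] at h1
  rw [siegel_apply, hf', zero_mul, zero_smul, sub_zero, add_sub_assoc, add_eq_left] at h2
  have h3 := congrArg (polar (Q8 F) · f) h1
  have h4 := congrArg (polar (Q8 F) · f') h1
  have h5 := congrArg (polar (Q8 F) e) h2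
  have h6 := congrArg (polar (Q8 F) e') h2
  simp only [polar_sub_left, polar_sub_right, polar_smul_left, polar_smul_right, polar_zero_left, polar_zero_right,
    smul_eq_mul] at h3 h4 h5 h6
  refine mem_prp.2 fun w hw => (polar_comm _ _ _).trans ((Submodule.span_le (p := LinearMap.ker ((polarBilin (Q8 F)).flip v))).2 ?_ hw)
  rintro w (rfl | rfl | rfl | rfl) <;> refine (mul_eq_zero.1 ?_).resolve_right hΔ <;> change polar (Q8 F) w v * _ = 0
  · linear_combination polar (Q8 F) w f * h4 - polar (Q8 F) w f' * h3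
  · linear_combination polar (Q8 F) w f * h4 - polar (Q8 F) w f' * h3
  · linear_combination polar (Q8 F) e w * h6 - polar (Q8 F) e' w * h5
  · linear_combination polar (Q8 F) e w * h6 - polar (Q8 F) e' w * h5

end Cfsg.Agent.N2C.D4
end

-- part: N2/Cl/D4All89
section
/-!
# N2 (S3519), `PΩ₈⁺(q)` with triality: all boxes (helper89)
-/

set_option autoImplicit false

namespace Cfsg.Agent.N2C.D4.A89

open Cfsg.Agent.SB.D4

private theorem ipw {G : Type} [Group G] {a : G} {r : ℕ} (h : a ^ r = 1) : a⁻¹ ^ r = 1 := by rw [inv_pow, h, inv_one]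

theorem boxLoc : BoxLoc := fun lm sig F _ _ A Γ M₁ M₂ X h h0 hi hc => by
  have _ := finite8 (F := F)
  obtain ⟨Y, ⟨y0, yi, yc⟩, hm⟩ := exists_minimal_of_wellFoundedLT
    (fun Y : Subgroup (G8 F) => Y ≠ ⊥ ∧ N2.Inv Γ Y ∧ ∀ x ∈ Y, ∀ y ∈ Y, x * y = y * x) ⟨X, h0, hi, hc⟩
  have hmin : ∀ Z ≤ Y, (∀ s ∈ Γ, ∀ y ∈ Z, s y ∈ Z) → Z = ⊥ ∨ Z = Y := fun Z hZ zi =>
    (em _).imp_right fun z0 => le_antisymm hZ (hm ⟨z0, zi, fun x hx y hy => yc x (hZ hx) y (hZ hy)⟩ hZ)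
  obtain ⟨r, hr, hd⟩ := Nat.exists_prime_and_dvd (n := Nat.card Y) fun e => y0 (Subgroup.card_eq_one.1 e)
  have _ := Fact.mk hr
  obtain ⟨x, hx⟩ := exists_prime_orderOf_dvd_card' r hd
  let Z : Subgroup (G8 F) :=
    { carrier := {g | g ∈ Y ∧ g ^ r = 1}
      mul_mem' := fun {a b} ha hb => ⟨mul_mem ha.1 hb.1, by rw [Commute.mul_pow (yc a ha.1 b hb.1), ha.2, hb.2, one_mul]⟩
      one_mem' := ⟨one_mem Y, one_pow r⟩
      inv_mem' := fun {a} ha => ⟨inv_mem ha.1, ipw ha.2⟩ }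
  have hZ : Z = Y := (hmin Z (fun _ hg => hg.1) fun s hs y hy => ⟨yi s hs y hy.1, by rw [← map_pow, hy.2, map_one]⟩).resolve_left
    fun e => by
      have h1 : (x : G8 F) ∈ Z := ⟨x.2, by rw [← hx, ← Subgroup.coe_pow, pow_orderOf_eq_one]; rfl⟩
      rw [e, Subgroup.mem_bot, OneMemClass.coe_eq_one] at h1
      rw [h1, orderOf_one] at hx
      exact hr.one_lt.ne hx
  have hp : ∀ g ∈ Y, g ^ r = 1 := fun g hg => (hZ.ge hg).2
  have ht : Y ≠ ⊤ := fun e => noncomm8 (F := F) ⟨⟨fun a b => yc a (e ▸ Subgroup.mem_top a) b (e ▸ Subgroup.mem_top b)⟩⟩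
  have hch : (r : F) ≠ 0 := fun e => y0 (h.np Y (h.le_of_inv ht yi) (fun a ha g hg => yi _ ((h.mi.conj a).2 ha) g hg) (by
    rw [(Nat.prime_dvd_prime_iff_eq (CharP.char_is_prime F (ringChar F)) hr).1 ((ringChar.spec F r).1 e)]
    exact fun g => ⟨1, Subtype.ext (by rw [pow_one]; exact hp g g.2)⟩))
  have y : Cy Γ Y r := ⟨fun H hH hI g hg => (h.mi.conj g).2 (h.le_of_inv hH hI hg), h.e1.imp fun _ k => ⟨k.1, _, k.2⟩,
    h.e2.imp fun _ k => ⟨k.1, _, k.2⟩, y0, yi, hmin, yc, hr, hp, hch⟩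
  rcases hr.eq_two_or_odd' with rfl | ho
  · exact loc2 lm sig h y
  · exact locO lm h y ho

theorem lm : Lm :=
  ⟨boxG44, boxT44, boxSg, boxEx3, boxEx6, boxG2, boxJE, boxP2, boxP2K, boxGI2, boxGN3, boxGN4, boxLQ, boxQA, boxLie, boxPsi,
    boxSubW⟩

theorem bx : Bx := ⟨boxSig, boxLoc, boxFix, boxIrr, box35, box44, boxK, boxQ, boxCen, boxRes⟩

theorem boxD4 (w : WRes) : BoxD4 := boxD4_of lm bx w

end Cfsg.Agent.N2C.D4.A89
end

private theorem dce_4e3b43401fc0 : _root_.True := by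
  try have : _root_.True := by simp only [_root_.Cfsg.Agent.N2C.D4.P2.TT.eq_1]
  try have : _root_.True := by simp only [_root_.Cfsg.Agent.N2C.D4.P2.ll.eq_1]
  try have : _root_.True := by simp only [_root_.Cfsg.Agent.N2C.D4.P2.R.eq_1]
  try have : _root_.True := by simp only [_root_.Cfsg.Agent.N2C.D4.PsiB.thP.eq_1]
  try have : _root_.True := by simp only [_root_.Cfsg.Agent.N2C.D4.PsiB.th.eq_1]
  exact _root_.True.intro
end
end
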