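import Cfsg.Agent.N2.Sp2.MdSuz_m3
import Cfsg.Agent.TAB.J2.Main
import Cfsg.Agent.Prune
set_option linter.all false

-- part: N2/Sp/GJ2
section
set_option linter.all false

/-!
# N2 (S3519), sporadic rows: J2 (helper16; generated by notes/N2/sp16/emit.py.txt)

Types which are left, with order, letter in the order of the table, and bound for the fixed points: 1 = 2a (1920), 2
      = 2b (240), 3 = 3a (1080), 4 = 3b (36), 5 = 4a (96), 6 = 5a (150), 7 = 5b (25), 8 = 6a (24).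
-/

set_option autoImplicit false
set_option Elab.async false

namespace Cfsg.Agent.N2.Sp.J2

open Cfsg Cfsg.Agent.FP3 Cfsg.Agent.TAB.Eng Cfsg.Agent.TAB.Use

/-- the data -/
abbrev D : Dat := TAB.J2.D

/-- the table -/
noncomputable abbrev R : Rows := (TAB.Sm2.mkRows TAB.J2.A TAB.J2.B)

/-- the densities -/
def nu : List ℕ :=
  [1, 315, 2520, 560, 16800, 6300, 4032, 24192, 25200, 50400, 86400, 75600, 60480, 120960, 50400, 80640]

/-- type, lower and upper bound for the order -/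
def O : Out :=
  [(1, 1, 890), (2, 1, 890), (3, 1, 890), (4, 13, 772), (5, 1, 890), (6, 1, 890), (7, 44, 890), (8, 44, 890)]

/-- the certificates -/
def L : List (ℕ × ℕ × List St) := [
  (35060, 3, [.fk 13 [(577181, 1), (362416, 2), (1000000, 4), (25168, 5), (637584, 7), (239933, 8), (362416, 9),
      (644295, 14), (619128, 15)] 0 28944 [(5, 1)] [],
    .fk 10 [(900763, 5), (1000000, 9), (41985, 13), (343511, 14), (57252, 15)] 0 17244 [(5, 1)] [(3780, 5, 2)],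
    .fk 15 [(21, 1), (7, 2), (7, 6), (54, 7), (61, 8), (25, 9), (100, 10), (23, 13), (23, 14), (31, 15)] 0 3 [] [],
    .fk 0 [(12605, 2), (121849, 5), (420168, 6), (987395, 7), (1000000, 8), (273109, 9), (970588, 10), (73529, 12),
      (6303, 13), (487395, 14), (560924, 15)] 0 41418 [] [(88, 14, 3)]]),
  (30486, 3, [.fk 13 [(577181, 1), (362416, 2), (1000000, 4), (25168, 5), (637584, 7), (239933, 8), (362416, 9),
      (644295, 14), (619128, 15)] 0 33286 [(5, 1)] [],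
    .fk 10 [(900763, 5), (1000000, 9), (41985, 13), (343511, 14), (57252, 15)] 0 19831 [(5, 1)] [(3780, 5, 2)],
    .fk 15 [(213115, 1), (73770, 2), (73770, 6), (538251, 7), (612022, 8), (251366, 9), (1000000, 10), (232240, 13),
      (232240, 14), (306011, 15)] 0 32522 [(2, 1), (2, 3)] [],
    .fk 0 [(12605, 2), (121849, 5), (420168, 6), (987395, 7), (1000000, 8), (273109, 9), (970588, 10), (73529, 12),
      (6303, 13), (487395, 14), (560924, 15)] 0 47632 [] [(88, 14, 3)]]),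
  (26508, 3, [.fk 13 [(577181, 1), (362416, 2), (1000000, 4), (25168, 5), (637584, 7), (239933, 8), (362416, 9),
      (644295, 14), (619128, 15)] 0 38281 [(5, 1)] [],
    .fk 10 [(900763, 5), (1000000, 9), (41985, 13), (343511, 14), (57252, 15)] 0 22807 [(5, 1)] [(3780, 5, 2)],
    .fk 15 [(213115, 1), (73770, 2), (73770, 6), (538251, 7), (612022, 8), (251366, 9), (1000000, 10), (232240, 13),
      (232240, 14), (306011, 15)] 0 37403 [(2, 1), (2, 3)] [],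
    .fk 0 [(12605, 2), (121849, 5), (420168, 6), (987395, 7), (1000000, 8), (273109, 9), (970588, 10), (73529, 12),
      (6303, 13), (487395, 14), (560924, 15)] 0 54780 [] [(88, 14, 3)]]),
  (23049, 3, [.fk 13 [(577181, 1), (362416, 2), (1000000, 4), (25168, 5), (637584, 7), (239933, 8), (362416, 9),
      (644295, 14), (619128, 15)] 0 44026 [(5, 1)] [],
    .fk 10 [(900763, 5), (1000000, 9), (41985, 13), (343511, 14), (57252, 15)] 0 26230 [(5, 1)] [(3780, 5, 2)],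
    .fk 15 [(213115, 1), (73770, 2), (73770, 6), (538251, 7), (612022, 8), (251366, 9), (1000000, 10), (232240, 13),
      (232240, 14), (306011, 15)] 0 43016 [(2, 1), (2, 3)] [],
    .fk 0 [(12605, 2), (121849, 5), (420168, 6), (987395, 7), (1000000, 8), (273109, 9), (970588, 10), (73529, 12),
      (6303, 13), (487395, 14), (560924, 15)] 0 63001 [] [(88, 14, 3)]]),
  (20041, 3, [.fk 13 [(577181, 1), (362416, 2), (1000000, 4), (25168, 5), (637584, 7), (239933, 8), (362416, 9),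
      (644295, 14), (619128, 15)] 0 50634 [(5, 1)] [],
    .fk 10 [(900763, 5), (1000000, 9), (41985, 13), (343511, 14), (57252, 15)] 0 30167 [(5, 1)] [(3780, 5, 2)],
    .fk 15 [(2131, 1), (738, 2), (738, 6), (5383, 7), (6120, 8), (2514, 9), (10000, 10), (2322, 13), (2322, 14),
      (3060, 15)] 0 495 [] [],
    .fk 0 [(12605, 2), (121849, 5), (420168, 6), (987395, 7), (1000000, 8), (273109, 9), (970588, 10), (73529, 12),
      (6303, 13), (487395, 14), (560924, 15)] 0 72457 [] [(88, 14, 3)]]),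
  (17426, 4, [.fk 13 [(1000000, 1), (217391, 4)] 0 3234 [(14, 1), (10, 2)] [],
    .fk 10 [(900763, 5), (1000000, 9), (41985, 13), (343511, 14), (57252, 15)] 0 34694 [(5, 1)] [(3780, 5, 2)],
    .fk 15 [(36257, 1), (325146, 3), (205848, 7), (205848, 8), (221053, 9), (1000000, 10), (505263, 13), (128655,
      14)] 0 37693 [(5, 1)] [],
    .fk 0 [(12605, 2), (121849, 5), (420168, 6), (987395, 7), (1000000, 8), (273109, 9), (970588, 10), (73529, 12),
      (6303, 13), (487395, 14), (560924, 15)] 0 83330 [] [(88, 14, 3)]]),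
  (15152, 4, [.fk 13 [(1000000, 1), (217391, 4)] 0 3719 [(14, 1), (10, 2)] [],
    .fk 10 [(900763, 5), (1000000, 9), (41985, 13), (343511, 14), (57252, 15)] 0 39901 [(5, 1)] [(3780, 5, 2)],
    .fk 15 [(36257, 1), (325146, 3), (205848, 7), (205848, 8), (221053, 9), (1000000, 10), (505263, 13), (128655,
      14)] 0 43350 [(5, 1)] [],
    .fk 0 [(12605, 2), (121849, 5), (420168, 6), (987395, 7), (1000000, 8), (273109, 9), (970588, 10), (73529, 12),
      (6303, 13), (487395, 14), (560924, 15)] 0 95836 [] [(88, 14, 3)]]),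
  (13174, 4, [.fk 13 [(1000000, 1), (217391, 4)] 0 4277 [(14, 1), (10, 2)] [],
    .fk 10 [(900763, 5), (1000000, 9), (41985, 13), (343511, 14), (57252, 15)] 0 45892 [(5, 1)] [(3780, 5, 2)],
    .fk 15 [(36257, 1), (325146, 3), (205848, 7), (205848, 8), (221053, 9), (1000000, 10), (505263, 13), (128655,
      14)] 0 49859 [(5, 1)] [],
    .fk 0 [(12605, 2), (121849, 5), (420168, 6), (987395, 7), (1000000, 8), (273109, 9), (970588, 10), (73529, 12),
      (6303, 13), (487395, 14), (560924, 15)] 0 110225 [] [(88, 14, 3)]]),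
  (11454, 4, [.fk 13 [(1000000, 1), (217391, 4)] 0 4919 [(14, 1), (10, 2)] [],
    .fk 10 [(900763, 5), (1000000, 9), (41985, 13), (343511, 14), (57252, 15)] 0 52783 [(5, 1)] [(3780, 5, 2)],
    .fk 15 [(36257, 1), (325146, 3), (205848, 7), (205848, 8), (221053, 9), (1000000, 10), (505263, 13), (128655,
      14)] 0 57346 [(5, 1)] [],
    .fk 0 [(12605, 2), (121849, 5), (420168, 6), (987395, 7), (1000000, 8), (273109, 9), (970588, 10), (73529, 12),
      (6303, 13), (487395, 14), (560924, 15)] 0 126777 [] [(88, 14, 3)]]),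
  (9959, 4, [.fk 13 [(1000000, 1), (217391, 4)] 0 5658 [(14, 1), (10, 2)] [],
    .fk 10 [(900763, 5), (1000000, 9), (41985, 13), (343511, 14), (57252, 15)] 0 60707 [(5, 1)] [(3780, 5, 2)],
    .fk 15 [(36257, 1), (325146, 3), (205848, 7), (205848, 8), (221053, 9), (1000000, 10), (505263, 13), (128655,
      14)] 0 65955 [(5, 1)] [],
    .fk 0 [(12605, 2), (121849, 5), (420168, 6), (987395, 7), (1000000, 8), (273109, 9), (970588, 10), (73529, 12),
      (6303, 13), (487395, 14), (560924, 15)] 0 145808 [] [(88, 14, 3)]]),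
  (8659, 4, [.fk 13 [(1000000, 1), (217391, 4)] 0 6507 [(14, 1), (10, 2)] [],
    .fk 10 [(900763, 5), (1000000, 9), (41985, 13), (343511, 14), (57252, 15)] 0 69821 [(5, 1)] [(3780, 5, 2)],
    .fk 15 [(36257, 1), (325146, 3), (205848, 7), (205848, 8), (221053, 9), (1000000, 10), (505263, 13), (128655,
      14)] 0 75857 [(5, 1)] [],
    .fk 0 [(12605, 2), (121849, 5), (420168, 6), (987395, 7), (1000000, 8), (273109, 9), (970588, 10), (73529, 12),
      (6303, 13), (487395, 14), (560924, 15)] 0 167698 [] [(88, 14, 3)]]),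
  (7528, 5, [.fk 13 [(10000, 1)] 0 0 [(1, 1), (1, 2)] [],
    .fk 10 [(562500, 3), (718750, 5), (319293, 6), (1000000, 9), (319293, 12), (142663, 14)] 0 77970 [(7, 1)] [(1449,
      5, 2)],
    .fk 15 [(87719, 1), (582456, 3), (154386, 7), (375439, 9), (1000000, 10), (505263, 13), (128655, 14)] 0 87253
      [(6, 1)] [],
    .fk 0 [(12605, 2), (121849, 5), (420168, 6), (987395, 7), (1000000, 8), (273109, 9), (970588, 10), (73529, 12),
      (6303, 13), (487395, 14), (560924, 15)] 0 192893 [] [(88, 14, 3)]]),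
  (6545, 5, [.fk 13 [(10000, 1)] 0 0 [(1, 1), (1, 2)] [],
    .fk 10 [(562500, 3), (718750, 5), (319293, 6), (1000000, 9), (319293, 12), (142663, 14)] 0 89680 [(7, 1)] [(1449,
      5, 2)],
    .fk 15 [(87719, 1), (582456, 3), (154386, 7), (375439, 9), (1000000, 10), (505263, 13), (128655, 14)] 0 100358
      [(6, 1)] [],
    .fk 0 [(12605, 2), (121849, 5), (420168, 6), (987395, 7), (1000000, 8), (273109, 9), (970588, 10), (73529, 12),
      (6303, 13), (487395, 14), (560924, 15)] 0 221864 [] [(88, 14, 3)]]),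
  (5690, 5, [.fk 13 [(10000, 1)] 0 0 [(1, 1), (1, 2)] [],
    .fk 10 [(562500, 3), (718750, 5), (319293, 6), (1000000, 9), (319293, 12), (142663, 14)] 0 103156 [(7, 1)]
      [(1449, 5, 2)],
    .fk 15 [(87719, 1), (582456, 3), (154386, 7), (375439, 9), (1000000, 10), (505263, 13), (128655, 14)] 0 115438
      [(6, 1)] [],
    .fk 0 [(12605, 2), (121849, 5), (420168, 6), (987395, 7), (1000000, 8), (273109, 9), (970588, 10), (73529, 12),
      (6303, 13), (487395, 14), (560924, 15)] 0 255202 [] [(88, 14, 3)]]),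
  (4946, 5, [.fk 13 [(10000, 1)] 0 0 [(1, 1), (1, 2)] [],
    .fk 10 [(562500, 3), (718750, 5), (319293, 6), (1000000, 9), (319293, 12), (142663, 14)] 0 118673 [(7, 1)]
      [(1449, 5, 2)],
    .fk 15 [(87719, 1), (582456, 3), (154386, 7), (375439, 9), (1000000, 10), (505263, 13), (128655, 14)] 0 132803
      [(6, 1)] [],
    .fk 0 [(12605, 2), (121849, 5), (420168, 6), (987395, 7), (1000000, 8), (273109, 9), (970588, 10), (73529, 12),
      (6303, 13), (487395, 14), (560924, 15)] 0 293591 [] [(88, 14, 3)]]),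
  (4839, 5, [.fk 13 [(10000, 1)] 0 0 [(1, 1), (1, 2)] [],
    .fk 10 [(562500, 3), (718750, 5), (319293, 6), (1000000, 9), (319293, 12), (142663, 14)] 0 121297 [(7, 1)]
      [(1449, 5, 2)],
    .fk 15 [(87719, 1), (582456, 3), (154386, 7), (375439, 9), (1000000, 10), (505263, 13), (128655, 14)] 0 135739
      [(6, 1)] [],
    .fk 0 [(12605, 2), (121849, 5), (420168, 6), (987395, 7), (1000000, 8), (273109, 9), (970588, 10), (73529, 12),
      (6303, 13), (487395, 14), (560924, 15)] 0 300083 [] [(88, 14, 3)]]),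
  (4206, 6, [.fk 10 [(587253, 3), (625190, 5), (1000000, 9), (477997, 12)] 0 111698 [(9, 1)] [(1985, 5, 2)],
    .fk 15 [(1000000, 1), (573913, 7), (147826, 9), (652174, 10)] 0 101222 [(7, 1), (16, 3)] [],
    .fk 11 [(319149, 1), (687943, 6), (1000000, 7), (709220, 12)] 0 91055 [(11, 1), (8, 2)] [],
    .fk 0 [(238714, 2), (128633, 5), (556586, 7), (795300, 8), (358689, 9), (1000000, 10), (94620, 13), (461967, 14),
      (461967, 15)] 0 292188 [] [(24, 14, 2), (26, 14, 3)]]),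
  (3656, 6, [.fk 10 [(587253, 3), (625190, 5), (1000000, 9), (477997, 12)] 0 128502 [(9, 1)] [(1985, 5, 2)],
    .fk 15 [(1000000, 1), (573913, 7), (147826, 9), (652174, 10)] 0 116449 [(7, 1), (16, 3)] [],
    .fk 11 [(319149, 1), (687943, 6), (1000000, 7), (709220, 12)] 0 104753 [(11, 1), (8, 2)] [],
    .fk 0 [(238714, 2), (128633, 5), (556586, 7), (795300, 8), (358689, 9), (1000000, 10), (94620, 13), (461967, 14),
      (461967, 15)] 0 336144 [] [(24, 14, 2), (26, 14, 3)]]),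
  (3178, 6, [.fk 10 [(587253, 3), (625190, 5), (1000000, 9), (477997, 12)] 0 147830 [(9, 1)] [(1985, 5, 2)],
    .fk 15 [(1000000, 1), (573913, 7), (147826, 9), (652174, 10)] 0 133964 [(7, 1), (16, 3)] [],
    .fk 11 [(319149, 1), (687943, 6), (1000000, 7), (709220, 12)] 0 120509 [(11, 1), (8, 2)] [],
    .fk 0 [(238714, 2), (128633, 5), (556586, 7), (795300, 8), (358689, 9), (1000000, 10), (94620, 13), (461967, 14),
      (461967, 15)] 0 386703 [] [(24, 14, 2), (26, 14, 3)]]),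
  (2762, 6, [.fk 10 [(587253, 3), (625190, 5), (1000000, 9), (477997, 12)] 0 170095 [(9, 1)] [(1985, 5, 2)],
    .fk 15 [(1000000, 1), (573913, 7), (147826, 9), (652174, 10)] 0 154142 [(7, 1), (16, 3)] [],
    .fk 11 [(319149, 1), (687943, 6), (1000000, 7), (709220, 12)] 0 138660 [(11, 1), (8, 2)] [],
    .fk 0 [(238714, 2), (128633, 5), (556586, 7), (795300, 8), (358689, 9), (1000000, 10), (94620, 13), (461967, 14),
      (461967, 15)] 0 444947 [] [(24, 14, 2), (26, 14, 3)]]),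
  (2400, 7, [.fk 10 [(10000, 3)] 0 0 [(2, 1)] [],
    .fk 15 [(1000000, 1)] 0 11250 [(17, 1), (21, 3)] [],
    .fk 11 [(1000000, 12)] 0 13333 [(20, 1), (13, 2)] [],
    .fk 0 [(238714, 2), (128633, 5), (556586, 7), (795300, 8), (358689, 9), (1000000, 10), (94620, 13), (461967, 14),
      (461967, 15)] 0 512059 [] [(24, 14, 2), (26, 14, 3)]]),
  (2086, 7, [.fk 10 [(10000, 3)] 0 0 [(2, 1)] [],
    .fk 15 [(1000000, 1)] 0 12943 [(17, 1), (21, 3)] [],
    .fk 11 [(1000000, 12)] 0 15340 [(20, 1), (13, 2)] [],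
    .fk 0 [(238714, 2), (128633, 5), (556586, 7), (795300, 8), (358689, 9), (1000000, 10), (94620, 13), (461967, 14),
      (461967, 15)] 0 589138 [] [(24, 14, 2), (26, 14, 3)]]),
  (1813, 7, [.fk 10 [(10000, 3)] 0 0 [(2, 1)] [],
    .fk 15 [(1000000, 1)] 0 14892 [(17, 1), (21, 3)] [],
    .fk 11 [(1000000, 12)] 0 17650 [(20, 1), (13, 2)] [],
    .fk 12 [(108108, 1), (846847, 2), (930931, 5), (846847, 8), (822823, 9), (654655, 10), (111111, 11), (1000000,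
      14)] 0 715553 [(7, 1)] [],
    .fk 9 [(357333, 9), (1000000, 11)] 0 72013 [(11, 1), (11, 2), (1, 3)] [(2506, 5, 2)],
    .fk 14 [(900000, 4), (1000000, 13)] 0 136514 [(15, 1), (15, 2), (22, 6)] [],
    .fk 0 [(1742, 2), (227, 6), (6288, 7), (8258, 8), (4545, 9), (10000, 10), (3182, 14), (7159, 15)] 0 7221 [] []]),
  (1764, 7, [.fk 10 [(10000, 3)] 0 0 [(2, 1)] [],
    .fk 15 [(1000000, 1)] 0 15306 [(17, 1), (21, 3)] [],
    .fk 11 [(1000000, 12)] 0 18141 [(20, 1), (13, 2)] [],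
    .fk 12 [(108108, 1), (846847, 2), (930931, 5), (846847, 8), (822823, 9), (654655, 10), (111111, 11), (1000000,
      14)] 0 735429 [(7, 1)] [],
    .fk 9 [(357333, 9), (1000000, 11)] 0 74014 [(11, 1), (11, 2), (1, 3)] [(2506, 5, 2)],
    .fk 14 [(900000, 4), (1000000, 13)] 0 140306 [(15, 1), (15, 2), (22, 6)] [],
    .fk 0 [(1742, 2), (227, 6), (6288, 7), (8258, 8), (4545, 9), (10000, 10), (3182, 14), (7159, 15)] 0 7421 [] []]),
  (1533, 8, [.fk 11 [(10000, 12)] 0 0 [(1, 1), (1, 2)] [],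
    .fk 12 [(1000000, 2), (426304, 5), (419501, 9), (241497, 11), (450113, 14)] 0 281161 [(8, 1), (7, 5)] [],
    .fk 9 [(1000000, 11)] 0 11742 [(20, 1), (20, 2), (10, 3)] [],
    .fk 0 [(195178, 6), (539610, 7), (753157, 8), (280138, 9), (1000000, 10), (246843, 13), (184845, 14), (431688,
      15)] 0 711781 [] [(16, 14, 2)]]),
  (1332, 8, [.fk 11 [(10000, 12)] 0 0 [(1, 1), (1, 2)] [],
    .fk 12 [(1000000, 2), (426304, 5), (419501, 9), (241497, 11), (450113, 14)] 0 323589 [(8, 1), (7, 5)] [],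
    .fk 9 [(1000000, 11)] 0 13514 [(20, 1), (20, 2), (10, 3)] [],
    .fk 14 [(1000000, 11)] 0 0 [(50, 1), (43, 2), (40, 3)] [],
    .fk 8 [(1862, 2), (6186, 7), (8138, 8), (4505, 9), (10000, 10), (3243, 14), (7072, 15)] 0 9739 [] [],
    .fk 7 [(65, 6), (86, 7), (100, 8), (46, 9), (69, 10), (81, 15)] 0 100 [] [],
    .fk 0 [(5303, 5), (7727, 8), (6667, 9), (10000, 10), (8485, 14), (3182, 15)] 0 9828 [] []]),
  (1182, 8, [.fk 11 [(10000, 12)] 0 0 [(1, 1), (1, 2)] [],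
    .fk 12 [(1000000, 2), (426304, 5), (419501, 9), (241497, 11), (450113, 14)] 0 364653 [(8, 1), (7, 5)] [],
    .fk 9 [(1000000, 11)] 0 15228 [(20, 1), (20, 2), (10, 3)] [],
    .fk 14 [(1000000, 11)] 0 0 [(50, 1), (43, 2), (40, 3)] [],
    .fk 8 [(17, 2), (56, 7), (74, 8), (41, 9), (91, 10), (30, 14), (64, 15)] 0 100 [] [],
    .fk 7 [(5746, 6), (7661, 7), (8892, 8), (4104, 9), (6156, 10), (7182, 15)] 0 10000 [] [],
    .fk 0 [(4788, 5), (6977, 8), (6019, 9), (9029, 10), (7661, 14), (2873, 15)] 0 10000 [] []]),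
  (1026, 9, [.fk 12 [(1000000, 11)] 0 17544 [(18, 1), (12, 2), (10, 5)] [],
    .fk 9 [(1000000, 11)] 0 17544 [(20, 1), (20, 2), (10, 3)] [],
    .fk 14 [(1000000, 11)] 0 0 [(50, 1), (43, 2), (40, 3)] [],
    .fk 0 [(1366, 2), (178, 6), (4928, 7), (6472, 8), (3563, 9), (7838, 10), (2494, 14), (5611, 15)] 0 10000 [] []]),
  (891, 9, [.fk 12 [(1000000, 11)] 0 20202 [(18, 1), (12, 2), (10, 5)] [],
    .fk 9 [(1000000, 11)] 0 20202 [(20, 1), (20, 2), (10, 3)] [],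
    .fk 14 [(1000000, 11)] 0 0 [(50, 1), (43, 2), (40, 3)] [],
    .fk 0 [(118594, 2), (15469, 6), (427969, 7), (562031, 8), (309375, 9), (680625, 10), (216563, 14), (487266, 15)]
      0 1000000 [] []]),
  (773, 9, [.fk 12 [(1000000, 11)] 0 23286 [(18, 1), (12, 2), (10, 5)] [],
    .fk 9 [(1000000, 11)] 0 23286 [(20, 1), (20, 2), (10, 3)] [],
    .fk 14 [(1000000, 11)] 0 0 [(50, 1), (43, 2), (40, 3)] [],
    .fk 4 [(25766667, 7), (59585417, 8), (26840278, 9), (59585417, 10), (19325000, 14), (42139236, 15)] 0 100000000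
      [(165, 1)] []]),
  (671, 10, [.fk 12 [(1000000, 11)] 0 0 [(48, 1), (41, 2), (40, 5)] [],
    .fk 9 [(1000000, 11)] 0 0 [(50, 1), (50, 2)] [],
    .fk 14 [(1000000, 11)] 0 0 [(50, 1), (43, 2), (40, 3)] []]),
  (605, 10, [.fk 12 [(1000000, 11)] 0 0 [(48, 1), (41, 2), (40, 5)] [],
    .fk 9 [(1000000, 11)] 0 0 [(50, 1), (50, 2)] [],
    .fk 14 [(1000000, 11)] 0 0 [(50, 1), (43, 2), (40, 3)] []]),
  (525, 11, [.fk 9 [(1000000, 11)] 0 0 [(50, 1), (50, 2)] [],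
    .fk 14 [(1000000, 11)] 0 0 [(50, 1), (43, 2)] []]),
  (455, 11, [.fk 9 [(1000000, 11)] 0 0 [(50, 1), (50, 2)] [],
    .fk 14 [(1000000, 11)] 0 0 [(50, 1), (43, 2)] []]),
  (394, 12, [.fk 9 [(1000000, 11)] 0 0 [(50, 1), (50, 2)] [],
    .fk 14 [(1000000, 11)] 0 0 [(50, 1), (43, 2)] []]),
  (351, 12, [.fk 9 [(1000000, 11)] 0 0 [(50, 1), (50, 2)] [],
    .fk 14 [(1000000, 11)] 0 0 [(50, 1), (43, 2)] []]),
  (304, 13, []),
  (263, 13, []),
  (227, 14, []),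
  (44, 14, []),
  (39, 25, [.fk 7 [(1000000, 2)] 0 0 [(107, 1)] []]),
  (33, 26, []),
  (27, 27, []),
  (22, 29, []),
  (13, 31, []),
  (1, 37, [])]

theorem okz : okZ D = true := by decide +kernel

theorem ok : chk D R nu [] (List.range' 1 (D.n - 1)) O 890 0 40320 L = true :=
  chk_of (by decide +kernel)

variable {K : Type} [Group K] [Finite K] {T : TD K D} {A : Subgroup K}

theorem res (H : Hy T R nu) (hb : ¬ Good A) (hA : A ≠ ⊤) : Res T A O 890 :=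
  H.res hb (pos_nil A) (sup_all A) Nat.card_pos
    ((H.card_le (md := 14) (by decide +kernel) hA).trans (by decide +kernel)) ok

end Cfsg.Agent.N2.Sp.J2
end

-- part: N2/Sp1/VJ2
section
prune_inst 0x7f00000000000000000000000000000000000000000000000000000000000000000000000000000000000000000000000000000000000000000000000000000000000000000000000000000000000000003fffffffffffffffffffffffffffbeffbdffffffff
set_option linter.all false

/-!
# N2 (S3519), sporadic rows: the exact sieve for J2 (helper45; generated by notes/N2/sp45/emit.py.txt)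
-/

set_option autoImplicit false

namespace Cfsg.Agent.N2.Sp1.J2

open Cfsg Cfsg.Agent.FP3 Cfsg.Agent.TAB.Eng Cfsg.Agent.TAB.Use Cfsg.Agent.N2.Sp Cfsg.Agent.N2.Sp.J2

/-- the solutions -/
def SOL : List (List ℕ) := [
  [1, 0, 1, 0, 0, 0, 0, 0, 0, 0, 0, 0, 0, 0, 0, 0],
  [1, 1, 0, 0, 0, 0, 0, 0, 0, 0, 0, 0, 0, 0, 0, 0],
  [1, 0, 0, 2, 0, 0, 0, 0, 0, 0, 0, 0, 0, 0, 0, 0],
  [1, 0, 3, 0, 0, 0, 0, 0, 0, 0, 0, 0, 0, 0, 0, 0],
  [1, 1, 2, 0, 0, 0, 0, 0, 0, 0, 0, 0, 0, 0, 0, 0],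
  [1, 2, 1, 0, 0, 0, 0, 0, 0, 0, 0, 0, 0, 0, 0, 0],
  [1, 3, 0, 0, 0, 0, 0, 0, 0, 0, 0, 0, 0, 0, 0, 0],
  [1, 0, 0, 0, 0, 0, 4, 0, 0, 0, 0, 0, 0, 0, 0, 0],
  [1, 0, 3, 2, 0, 0, 0, 0, 0, 0, 0, 0, 0, 0, 0, 0],
  [1, 3, 0, 2, 0, 0, 0, 0, 0, 0, 0, 0, 0, 0, 0, 0],
  [1, 1, 0, 0, 0, 6, 0, 0, 0, 0, 0, 0, 0, 0, 0, 0],
  [1, 1, 2, 0, 0, 4, 0, 0, 0, 0, 0, 0, 0, 0, 0, 0],
  [1, 1, 6, 0, 0, 0, 0, 0, 0, 0, 0, 0, 0, 0, 0, 0],
  [1, 3, 0, 0, 0, 4, 0, 0, 0, 0, 0, 0, 0, 0, 0, 0],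
  [1, 3, 4, 0, 0, 0, 0, 0, 0, 0, 0, 0, 0, 0, 0, 0],
  [1, 5, 2, 0, 0, 0, 0, 0, 0, 0, 0, 0, 0, 0, 0, 0],
  [1, 7, 0, 0, 0, 0, 0, 0, 0, 0, 0, 0, 0, 0, 0, 0],
  [1, 0, 0, 8, 0, 0, 0, 0, 0, 0, 0, 0, 0, 0, 0, 0],
  [1, 0, 5, 0, 0, 0, 4, 0, 0, 0, 0, 0, 0, 0, 0, 0],
  [1, 5, 0, 0, 0, 0, 4, 0, 0, 0, 0, 0, 0, 0, 0, 0],
  [1, 0, 3, 8, 0, 0, 0, 0, 0, 0, 0, 0, 0, 0, 0, 0],
  [1, 3, 0, 8, 0, 0, 0, 0, 0, 0, 0, 0, 0, 0, 0, 0],
  [1, 0, 0, 5, 0, 0, 9, 0, 0, 0, 0, 0, 0, 0, 0, 0],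
  [1, 3, 0, 0, 0, 12, 0, 0, 0, 0, 0, 0, 0, 0, 0, 0],
  [1, 3, 4, 0, 0, 8, 0, 0, 0, 0, 0, 0, 0, 0, 0, 0],
  [1, 3, 12, 0, 0, 0, 0, 0, 0, 0, 0, 0, 0, 0, 0, 0],
  [1, 7, 0, 0, 0, 8, 0, 0, 0, 0, 0, 0, 0, 0, 0, 0],
  [1, 0, 9, 8, 0, 0, 0, 0, 0, 0, 0, 0, 0, 0, 0, 0],
  [1, 9, 0, 8, 0, 0, 0, 0, 0, 0, 0, 0, 0, 0, 0, 0],
  [1, 3, 0, 8, 0, 12, 0, 0, 0, 0, 0, 0, 0, 0, 0, 0],
  [1, 3, 12, 8, 0, 0, 0, 0, 0, 0, 0, 0, 0, 0, 0, 0],
  [1, 9, 6, 8, 0, 0, 0, 0, 0, 0, 0, 0, 0, 0, 0, 0],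
  [1, 0, 0, 2, 24, 0, 0, 0, 0, 0, 0, 0, 0, 0, 0, 0],
  [1, 3, 0, 0, 0, 28, 0, 0, 0, 0, 0, 0, 0, 0, 0, 0],
  [1, 3, 8, 0, 0, 20, 0, 0, 0, 0, 0, 0, 0, 0, 0, 0],
  [1, 3, 16, 0, 0, 12, 0, 0, 0, 0, 0, 0, 0, 0, 0, 0],
  [1, 11, 0, 0, 0, 20, 0, 0, 0, 0, 0, 0, 0, 0, 0, 0],
  [1, 0, 9, 8, 0, 18, 0, 0, 0, 0, 0, 0, 0, 0, 0, 0],
  [1, 9, 0, 8, 0, 18, 0, 0, 0, 0, 0, 0, 0, 0, 0, 0],
  [1, 9, 18, 8, 0, 0, 0, 0, 0, 0, 0, 0, 0, 0, 0, 0],
  [1, 0, 0, 5, 30, 0, 9, 0, 0, 0, 0, 0, 0, 0, 0, 0],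
  [1, 3, 0, 0, 32, 12, 0, 0, 0, 0, 0, 0, 0, 0, 0, 0],
  [1, 3, 12, 0, 32, 0, 0, 0, 0, 0, 0, 0, 0, 0, 0, 0],
  [1, 0, 15, 20, 0, 0, 24, 0, 0, 0, 0, 0, 0, 0, 0, 0],
  [1, 3, 8, 0, 0, 52, 0, 0, 0, 0, 0, 0, 0, 0, 0, 0],
  [1, 3, 24, 0, 0, 36, 0, 0, 0, 0, 0, 0, 0, 0, 0, 0],
  [1, 9, 18, 8, 0, 36, 0, 0, 0, 0, 0, 0, 0, 0, 0, 0],
  [1, 9, 36, 8, 0, 18, 0, 0, 0, 0, 0, 0, 0, 0, 0, 0],
  [1, 3, 0, 32, 0, 60, 0, 0, 0, 0, 0, 0, 0, 0, 0, 0],
  [1, 0, 27, 20, 60, 0, 0, 0, 0, 0, 0, 0, 0, 0, 0, 0],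
  [1, 3, 24, 0, 128, 36, 0, 0, 0, 0, 0, 0, 0, 0, 0, 0]]

/-- the certificates -/
def CL : List Ct := [
  (2, 68, [2], [[], [], [(1, 16)]]),
  (3, 59, [3], [[], [(1, 16)]]),
  (4, 54, [2, 4], [[], [], [(1, 16)], [(1, 17)]]),
  (5, 50, [5], [[], [(1, 16)]]),
  (6, 47, [6], [[], [(1, 6), (5, 16)], [(4, 1), (5, 2)], [(1, 16)]]),
  (7, 45, [], [[(1, 0)]]),
  (8, 43, [2, 8], [[], [(4, 0), (7, 9), (7, 16)], [(1, 16)], [(1, 17)]]),
  (9, 41, [9], [[], [(1, 16)]]),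
  (10, 40, [10], [[], [(5, 0), (5, 3), (9, 4), (1, 16)], [(3, 0), (4, 1), (6, 2), (9, 3)], [(1, 16)]]),
  (12, 37, [2, 12], [[], [(8, 0), (6, 3), (1, 11)], [(11, 8), (1, 16)], [(10, 0), (11, 3)], [(1, 17)]]),
  (14, 36, [7], [[(1, 16)], [], []]),
  (15, 35, [5, 15], [[], [(3, 4), (14, 16)], [(1, 6)], [(1, 17)]]),
  (16, 34, [16], [[], [(1, 0), (14, 6), (1, 7)], [(4, 0), (15, 9)], [(1, 16)]]),
  (18, 33, [18], [[], [(12, 0), (12, 2), (6, 4), (6, 5), (16, 9), (1, 12)], [(11, 0), (2, 2), (1, 4), (1, 5)], [(1,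
    9)], [(1, 16)]]),
  (20, 32, [10, 20], [[], [(5, 0), (15, 1), (15, 3), (13, 4), (4, 16), (19, 17)], [(12, 0), (8, 1), (18, 4), (1,
    16)], [(1, 4), (19, 17)], [(1, 17)]]),
  (21, 31, [7], [[(1, 16)], [], []]),
  (24, 30, [24], [[], [(2, 0), (9, 1), (21, 2), (3, 3), (1, 4), (6, 5), (1, 6)], [(23, 0), (23, 4), (4, 5), (23,
    7)], [(3, 0), (18, 5), (1, 7)], [(1, 5)], [(1, 16)]]),
  (25, 29, [], [[(21, 0), (24, 1)], []]),
  (27, 29, [27], [[], [(2, 6), (26, 13)], [(1, 16)]]),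
  (28, 28, [7], [[(1, 16)], [], [], []]),
  (30, 28, [10, 30], [[], [(15, 0), (15, 1), (14, 4), (15, 5), (29, 6), (5, 16), (1, 17)], [(25, 0), (15, 1), (2,
    2), (18, 3), (24, 4), (29, 5)], [(3, 4), (29, 16)], [(1, 6)], [(1, 17)]]),
  (32, 27, [32], [[], [(20, 0), (26, 2), (1, 3)], [(4, 0), (31, 9)], [(1, 16)]]),
  (35, 26, [], [[(1, 7)], []]),
  (36, 26, [2, 36], [[], [(34, 0), (10, 1), (27, 2), (35, 3), (30, 4), (28, 5), (1, 6)], [(24, 0), (4, 2), (4, 10),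
    (1, 16)], [(3, 0), (35, 2)], [(1, 5)], [(1, 17)]]),
  (40, 25, [40], [[], [(9, 0), (26, 1), (3, 3), (18, 4), (9, 12), (39, 16)], [(4, 0), (16, 1), (28, 3), (33, 4), (1,
    12)], [(1, 4), (39, 16)], [(1, 16)]]),
  (42, 25, [7], [[(1, 16)], [], [], [], []]),
  (45, 24, [45], [[], [(2, 6), (43, 10), (43, 13), (44, 15)], [(1, 6)], [(1, 13)], [(1, 16)]]),
  (48, 24, [16, 48], [[], [(42, 2), (39, 3), (15, 5), (3, 6), (1, 16)], [(20, 2), (9, 3), (38, 5), (46, 6), (1, 9),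
    (2, 10)], [(20, 2), (5, 3), (38, 5), (46, 6), (47, 9), (47, 10)], [(1, 5)], [(34, 2), (3, 3), (47, 6)], [(1,
    17)]]),
  (50, 23, [50], [[], [(45, 0), (10, 1), (39, 2), (1, 3), (23, 4)], [(7, 4), (41, 7), (40, 10), (1, 11)], [(1, 13)],
    [(1, 16)]]),
  (54, 23, [54], [[], [(22, 0), (48, 1), (16, 2), (16, 4), (50, 5), (4, 8), (52, 9), (53, 12)], [(2, 0), (51, 1),
    (53, 2), (53, 4), (1, 5)], [(52, 5), (53, 15)], [(1, 5)], [(1, 16)]]),
  (56, 23, [7], [[(1, 16)], [], [], []]),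
  (60, 22, [2, 30, 60], [[], [(46, 0), (48, 1), (54, 2), (42, 3), (10, 4), (52, 5), (38, 6), (18, 7), (44, 9), (56,
    10), (2, 16), (4, 17)], [(39, 0), (22, 1), (31, 2), (51, 3), (1, 4), (48, 5), (3, 6), (39, 7), (1, 16)], [(32,
    0), (32, 1), (44, 2), (54, 3), (22, 4), (50, 5), (28, 6), (10, 9), (4, 10), (59, 17)], [(20, 0), (53, 1), (14,
    2), (2, 3), (15, 4), (59, 5)], [(21, 0), (52, 1), (57, 2), (31, 3), (41, 4), (59, 6)], [(59, 1), (1, 3), (2, 9),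
    (1, 10)], [(1, 1), (59, 3)], [(1, 18)]]),
  (63, 22, [7], [[(1, 16)], [], []]),
  (64, 22, [64], [[], [(63, 0), (4, 1), (59, 2), (63, 5)], [(4, 0), (63, 9)], [(1, 16)]]),
  (70, 21, [7], [[(1, 16)], [], [], [], []]),
  (72, 21, [72], [[], [(60, 0), (3, 1), (6, 2), (8, 3), (71, 4), (66, 5)], [(14, 0), (69, 1), (26, 2), (7, 3), (58,
    5), (66, 6)], [(40, 2), (24, 3), (32, 5), (64, 6), (70, 9), (71, 10)], [(1, 5)], [(50, 2), (3, 3), (71, 6)],
    [(1, 16)]]),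
  (75, 21, [75], [[], [(3, 0), (63, 1), (74, 2), (19, 3), (7, 4)], [(1, 6)], [(1, 13)], [(1, 16)]]),
  (80, 20, [80], [[], [(46, 0), (74, 1), (60, 2), (30, 3), (49, 4), (65, 8), (1, 10)], [(6, 0), (34, 1), (60, 2),
    (39, 3), (78, 4), (79, 8)], [(9, 0), (11, 1), (10, 2), (1, 3)], [(1, 13)], [(1, 16)]]),
  (84, 20, [7], [[(1, 16)], [], [], [], [], [], []]),
  (90, 19, [90], [[], [(24, 0), (27, 1), (75, 2), (5, 3), (65, 4), (20, 5), (74, 9), (33, 10), (1, 16)], [(67, 0),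
    (39, 1), (80, 2), (47, 3), (55, 4), (53, 5), (80, 9), (89, 10)], [(84, 0), (28, 1), (1, 2), (48, 3), (70, 4),
    (3, 5)], [(1, 0), (89, 1), (89, 3), (1, 9)], [(89, 1), (1, 3), (2, 9), (1, 10)], [(1, 1), (89, 3)], [(1, 16)]]),
  (96, 19, [96], [[], [(28, 0), (89, 1), (15, 2), (13, 3), (1, 4), (2, 5), (21, 6)], [(92, 0), (1, 1), (44, 2), (21,
    3), (70, 5), (90, 6)], [(36, 2), (5, 3), (86, 5), (94, 6), (95, 9), (95, 10)], [(1, 5)], [(66, 2), (3, 3), (95,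
    6)], [(1, 16)]]),
  (100, 19, [2, 100], [[], [(48, 0), (80, 1), (64, 2), (16, 3), (92, 4), (24, 6), (82, 10), (76, 11), (2, 13), (1,
    15)], [(12, 0), (20, 1), (16, 2), (4, 3), (4, 4), (88, 6), (60, 10), (12, 11), (1, 16)], [(66, 0), (60, 1), (63,
    2), (97, 3)], [(1, 13)], [(1, 17)]]),
  (105, 18, [7], [[(1, 16)], [], [], [], []]),
  (108, 18, [2, 108], [[], [(92, 0), (4, 1), (64, 2), (54, 3), (8, 5), (58, 6), (104, 7), (92, 9), (7, 11), (107,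
    12)], [(52, 0), (95, 1), (102, 2), (60, 3), (104, 5), (39, 6), (13, 7), (1, 16)], [(24, 2), (36, 3), (50, 5),
    (96, 6), (106, 9), (107, 13)], [(1, 5)], [(74, 2), (3, 3), (107, 6)], [(1, 17)]]),
  (112, 18, [7], [[(1, 16)], [], [], []]),
  (120, 18, [120], [[], [(45, 0), (69, 1), (38, 2), (67, 3), (82, 4), (37, 5), (41, 6), (119, 8), (14, 9), (118,
    10)], [(71, 0), (58, 1), (86, 2), (24, 3), (43, 4), (28, 5), (3, 6), (1, 9)], [(36, 0), (7, 1), (108, 2), (53,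
    3), (30, 4), (60, 5), (58, 6), (48, 9), (23, 10), (1, 13)], [(14, 0), (19, 1), (28, 2), (110, 3), (23, 4), (23,
    5)], [(78, 0), (75, 1), (54, 2), (45, 3), (75, 4), (119, 6)], [(119, 1), (1, 3), (2, 9), (1, 10)], [(1, 1),
    (119, 3)], [(1, 16)]]),
  (126, 17, [7], [[(1, 16)], [], [], [], [], []]),
  (128, 17, [], [[(20, 0), (99, 1), (32, 2), (3, 5)], [], [], []]),
  (135, 17, [135], [[], [(111, 0), (71, 1), (98, 2), (81, 3), (14, 4)], [(1, 6)], [(1, 13)], [(1, 16)]]),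
  (140, 17, [7], [[(1, 16)], [], [], [], [], []]),
  (144, 17, [144], [[], [(132, 0), (3, 1), (6, 2), (8, 3), (143, 4), (138, 5)], [(110, 0), (7, 1), (137, 2), (36,
    3), (10, 5), (45, 6)], [(28, 2), (111, 3), (50, 5), (10, 6), (1, 9), (143, 10)], [(1, 5)], [(98, 2), (3, 3),
    (143, 6)], [(1, 16)]]),
  (150, 16, [150], [[], [(144, 0), (26, 1), (11, 2), (93, 3), (2, 4), (48, 5), (63, 6), (4, 7)], [(114, 0), (35, 1),
    (95, 2), (109, 3), (44, 4), (25, 5), (28, 6), (138, 9), (144, 10), (1, 11)], [(41, 0), (109, 1), (146, 2), (145,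
    3), (142, 4), (122, 5), (149, 6)], [(1, 0), (149, 1), (149, 3), (1, 9)], [(149, 1), (1, 3), (2, 9), (1, 10)],
    [(1, 1), (149, 3)], [(1, 16)]]),
  (160, 16, [160], [[], [(17, 0), (34, 1), (125, 2), (63, 3), (39, 4), (154, 5)], [(64, 0), (50, 1), (146, 2), (129,
    3), (18, 4), (1, 5)], [(19, 0), (21, 1), (20, 2), (1, 3)], [(1, 13)], [(1, 16)]]),
  (168, 16, [7], [[(1, 16)], [], [], [], [], [], []]),
  (175, 16, [], [[(1, 7)], [], []]),
  (180, 15, [2, 180], [[], [(79, 0), (48, 1), (93, 2), (7, 3), (79, 4), (62, 5), (102, 6), (16, 7), (10, 8), (179,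
    9)], [(116, 0), (176, 1), (142, 2), (144, 3), (50, 4), (56, 5), (104, 6), (106, 7), (40, 8), (66, 9), (22, 10),
    (1, 16)], [(105, 0), (71, 1), (123, 2), (94, 3), (72, 4), (75, 5), (174, 6), (1, 8)], [(149, 0), (156, 1), (79,
    2), (88, 3), (33, 4), (155, 5)], [(72, 0), (149, 1), (112, 2), (145, 3), (3, 4), (179, 6)], [(179, 1), (1, 3),
    (2, 9), (1, 10)], [(1, 1), (179, 3)], [(1, 17)]]),
  (189, 15, [7], [[(1, 16)], [], []]),
  (192, 15, [192], [[], [(12, 0), (3, 1), (170, 3), (191, 4), (114, 5), (66, 6)], [(88, 0), (170, 1), (42, 2), (63,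
    3), (170, 5), (21, 6), (185, 7)], [(191, 0), (135, 2), (7, 3), (174, 5), (190, 6), (190, 9), (191, 10)], [(1,
    5)], [(130, 2), (3, 3), (191, 6)], [(1, 16)]]),
  (200, 15, [200], [[], [(72, 0), (178, 1), (125, 2), (53, 3), (105, 4), (80, 9), (199, 10), (165, 11), (39, 13),
    (1, 16)], [(104, 0), (196, 1), (150, 2), (46, 3), (163, 4), (8, 9), (40, 10), (199, 11)], [(24, 0), (26, 1),
    (25, 2), (1, 3)], [(1, 13)], [(1, 16)]]),
  (210, 15, [7], [[(1, 16)], [], [], [], [], [], [], []]),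
  (216, 15, [216], [[], [(30, 0), (143, 1), (180, 2), (116, 3), (1, 4), (30, 5), (48, 6)], [(203, 0), (2, 1), (41,
    2), (155, 3), (82, 5), (24, 6)], [(70, 2), (213, 3), (14, 5), (1, 6), (213, 7), (214, 9), (215, 10)], [(1, 5)],
    [(146, 2), (3, 3), (215, 6)], [(1, 16)]]),
  (224, 14, [7], [[(1, 16)], [], [], []]),
  (225, 14, [225], [[], [(219, 0), (11, 1), (2, 2), (189, 3), (224, 4)], [(1, 6)], [(1, 13)], [(1, 16)]]),
  (240, 14, [240], [[], [(215, 0), (149, 1), (7, 2), (208, 3), (132, 4), (68, 5), (14, 6), (134, 7), (234, 9), (238,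
    10)], [(188, 0), (11, 1), (164, 2), (51, 3), (188, 4), (20, 5), (224, 6), (12, 7), (114, 9), (184, 10), (239,
    14)], [(142, 0), (169, 1), (166, 2), (114, 3), (22, 4), (160, 5), (106, 6), (18, 7), (237, 9), (239, 10)], [(65,
    0), (24, 1), (127, 2), (76, 3), (165, 4), (35, 5)], [(165, 0), (144, 1), (109, 2), (83, 3), (149, 4), (239, 6)],
    [(239, 1), (1, 3), (2, 9), (1, 10)], [(1, 1), (239, 3)], [(1, 16)]]),
  (252, 14, [7], [[(1, 16)], [], [], [], [], [], []]),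
  (270, 14, [270], [[], [(261, 0), (13, 1), (257, 2), (148, 3), (242, 4), (123, 5), (30, 6), (56, 7), (1, 8)], [(87,
    0), (192, 1), (248, 2), (102, 3), (218, 4), (213, 5), (36, 6), (267, 9), (269, 10)], [(66, 0), (40, 1), (265,
    2), (48, 3), (154, 4), (219, 5)], [(1, 0), (269, 1), (269, 3), (1, 9)], [(269, 1), (1, 3), (2, 9), (1, 10)],
    [(1, 1), (269, 3)], [(1, 16)]]),
  (280, 13, [7], [[(1, 16)], [], [], [], [], []]),
  (288, 13, [288], [[], [(43, 0), (186, 1), (87, 2), (96, 3), (284, 5), (276, 6), (287, 9)], [(116, 0), (21, 1),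
    (197, 2), (214, 3), (82, 5), (75, 6)], [(4, 2), (141, 3), (230, 5), (46, 6), (7, 9), (287, 10)], [(1, 5)],
    [(194, 2), (3, 3), (287, 6)], [(1, 16)]]),
  (300, 13, [2, 50, 300], [[], [(54, 0), (298, 1), (69, 2), (115, 3), (104, 4), (135, 5), (279, 6), (84, 7), (9,
    8)], [(84, 0), (6, 1), (206, 2), (178, 3), (133, 4), (60, 5), (155, 6), (119, 7), (82, 9), (78, 10), (37, 11),
    (1, 16)], [(240, 0), (66, 1), (234, 3), (240, 4), (60, 5), (96, 9), (48, 10), (1, 17)], [(59, 0), (186, 1),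
    (189, 2), (224, 3), (133, 4), (287, 5), (288, 6)], [(123, 0), (246, 1), (87, 2), (39, 3), (105, 4), (299, 6)],
    [(299, 1), (1, 3), (2, 9), (1, 10)], [(1, 1), (299, 3)], [(1, 18)]]),
  (315, 13, [7], [[(1, 16)], [], [], [], []]),
  (320, 13, [320], [[], [(281, 0), (212, 1), (69, 2), (153, 3), (285, 4), (10, 5)], [(88, 0), (64, 1), (202, 2),
    (247, 3), (252, 4), (1, 5)], [(39, 0), (41, 1), (40, 2), (1, 3)], [(1, 13)], [(1, 16)]]),
  (336, 13, [7], [[(1, 16)], [], [], [], [], [], []]),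
  (350, 13, [7], [[(1, 16)], [], [], [], []]),
  (360, 12, [360], [[], [(261, 0), (255, 1), (152, 2), (133, 3), (154, 4), (33, 5), (75, 6), (328, 7), (3, 8)],
    [(255, 0), (197, 1), (182, 2), (2, 3), (10, 4), (300, 5), (341, 6), (135, 9), (262, 10), (359, 13)], [(181, 0),
    (32, 1), (298, 2), (277, 3), (24, 4), (40, 5), (325, 6), (357, 9), (359, 10)], [(164, 0), (173, 1), (330, 2),
    (346, 3), (323, 4), (287, 5)], [(252, 0), (213, 1), (164, 2), (121, 3), (223, 4), (359, 6)], [(359, 1), (1, 3),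
    (2, 9), (1, 10)], [(1, 1), (359, 3)], [(1, 16)]]),
  (378, 12, [7], [[(1, 16)], [], [], [], [], []]),
  (384, 12, [], [[(364, 0), (178, 1), (213, 2), (125, 3), (370, 4), (248, 5), (285, 6)], [], [], [], [], [], []]),
  (400, 12, [400], [[], [(29, 0), (40, 1), (217, 2), (385, 3), (365, 4), (322, 5)], [(206, 0), (394, 1), (300, 2),
    (94, 3), (323, 4), (16, 9), (80, 10), (399, 11)], [(49, 0), (51, 1), (50, 2), (1, 3)], [(1, 13)], [(1, 16)]]),
  (420, 12, [7], [[(1, 16)], [], [], [], [], [], [], [], []]),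
  (432, 12, [432], [[], [(12, 0), (263, 1), (90, 2), (332, 3), (427, 4), (354, 5), (228, 6)], [(158, 0), (23, 1),
    (131, 2), (422, 3), (82, 5), (231, 6)], [(15, 0), (235, 2), (171, 3), (206, 5), (370, 6), (430, 9), (431, 10)],
    [(1, 5)], [(290, 2), (3, 3), (431, 6)], [(1, 16)]]),
  (448, 12, [7], [[(1, 16)], [], [], []]),
  (450, 12, [450], [[], [(164, 0), (351, 1), (56, 2), (399, 3), (47, 4), (104, 5), (11, 6), (1, 7)], [(31, 0), (293,
    1), (380, 2), (3, 3), (432, 4), (449, 5), (182, 6), (9, 9), (1, 10), (1, 11)], [(2, 0), (87, 1), (359, 3), (272,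
    9), (361, 10), (449, 13)], [(1, 0), (449, 1), (449, 3), (1, 9)], [(449, 1), (1, 3), (2, 9), (1, 10)], [(1, 1),
    (449, 3)], [(1, 16)]]),
  (480, 11, [480], [[], [(404, 0), (38, 1), (96, 2), (104, 3), (232, 4), (164, 5), (377, 6), (69, 7), (471, 9),
    (478, 10)], [(348, 0), (15, 1), (58, 2), (269, 3), (233, 4), (408, 5), (27, 6), (1, 7)], [(358, 0), (3, 1),
    (124, 2), (14, 3), (368, 4), (232, 5), (478, 6), (477, 9), (479, 10)], [(161, 0), (104, 1), (271, 2), (12, 3),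
    (277, 4), (467, 5)], [(339, 0), (282, 1), (219, 2), (159, 3), (297, 4), (479, 6)], [(479, 1), (1, 3), (2, 9),
    (1, 10)], [(1, 1), (479, 3)], [(1, 16)]]),
  (504, 11, [7], [[(1, 16)], [], [], [], [], [], []]),
  (525, 11, [7], [[(1, 16)], [], [], [], []]),
  (540, 11, [2, 540], [[], [(487, 0), (416, 1), (76, 2), (254, 3), (274, 4), (400, 5), (443, 6), (380, 7), (60, 9),
    (55, 10), (1, 13)], [(362, 0), (342, 1), (198, 2), (531, 3), (165, 4), (428, 5), (521, 6), (445, 7), (201, 9),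
    (67, 10), (1, 16)], [(333, 0), (171, 1), (410, 2), (361, 3), (316, 4), (60, 5), (537, 6)], [(479, 0), (122, 1),
    (537, 2), (412, 3), (473, 4), (71, 5)], [(225, 0), (440, 1), (337, 2), (427, 3), (9, 4), (539, 6)], [(539, 1),
    (1, 3), (2, 9), (1, 10)], [(1, 1), (539, 3)], [(1, 17)]]),
  (560, 11, [7], [[(1, 16)], [], [], [], [], []]),
  (576, 11, [576], [[], [(120, 0), (137, 1), (135, 2), (17, 3), (13, 4), (138, 5), (489, 6)], [(308, 0), (17, 1),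
    (428, 2), (485, 3), (22, 5), (114, 6)], [(63, 0), (505, 2), (33, 3), (374, 5), (352, 6), (574, 9), (575, 10)],
    [(1, 5)], [(386, 2), (3, 3), (575, 6)], [(1, 16)]]),
  (600, 11, [600], [[], [(211, 0), (215, 1), (116, 2), (355, 3), (390, 4), (370, 5), (271, 6), (390, 7), (590, 8),
    (588, 9), (596, 10)], [(362, 0), (407, 1), (20, 2), (321, 3), (440, 4), (500, 5), (174, 6), (234, 7), (98, 9),
    (34, 10), (599, 11)], [(502, 0), (525, 1), (68, 2), (184, 3), (310, 4), (448, 5), (100, 6), (582, 7), (597, 9),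
    (599, 10)], [(467, 0), (454, 1), (225, 2), (408, 3), (129, 4), (59, 5)], [(426, 0), (351, 1), (274, 2), (197,
    3), (371, 4), (599, 6)], [(599, 1), (1, 3), (2, 9), (1, 10)], [(1, 1), (599, 3)], [(1, 16)]]),
  (630, 10, [7], [[(1, 16)], [], [], [], [], [], [], []]),
  (640, 10, [], [[(256, 0), (60, 1), (141, 2), (425, 3), (606, 4), (506, 5), (1, 6)], [], [], [], [], []]),
  (672, 10, [7], [[(1, 16)], [], [], [], [], [], []]),
  (675, 10, [675], [[], [(489, 0), (551, 1), (512, 2), (579, 3), (659, 4)], [(1, 6)], [(1, 13)], [(1, 16)]]),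
  (700, 10, [7], [[(1, 16)], [], [], [], [], []]),
  (720, 10, [720], [[], [(153, 0), (7, 1), (520, 2), (555, 3), (88, 4), (315, 5), (513, 6), (314, 7), (681, 8),
    (702, 9), (714, 10)], [(463, 0), (112, 1), (617, 2), (293, 3), (657, 4), (652, 5), (409, 6), (75, 7), (6, 9),
    (2, 10)], [(370, 0), (521, 1), (178, 2), (598, 3), (186, 4), (544, 5), (46, 6), (702, 7), (717, 9), (719, 10)],
    [(11, 0), (350, 1), (249, 2), (496, 3), (137, 4), (683, 5)], [(513, 0), (420, 1), (329, 2), (235, 3), (445, 4),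
    (719, 6)], [(719, 1), (1, 3), (2, 9), (1, 10)], [(1, 1), (719, 3)], [(1, 16)]]),
  (756, 10, [7], [[(1, 16)], [], [], [], [], [], []]),
  (800, 10, [800], [[], [(465, 0), (260, 1), (733, 2), (193, 3), (741, 4), (666, 5)], [(410, 0), (790, 1), (600, 2),
    (190, 3), (643, 4), (32, 9), (160, 10), (799, 11)], [(99, 0), (101, 1), (100, 2), (1, 3)], [(1, 13)], [(1,
    16)]]),
  (840, 9, [7], [[(1, 16)], [], [], [], [], [], [], []]),
  (864, 9, [], [[(130, 0), (442, 1), (426, 2), (329, 3), (37, 4), (821, 5)], [], [], [], [], []])]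

theorem okB : chkB D R nu O SOL CL = true := by decide +kernel

theorem okC : cov D.N 890 (CL.map Prod.fst) = true := by decide +kernel

variable {K : Type} [Group K] [Finite K] {T : TD K D} {A : Subgroup K}

theorem vec (H : Sp.Hy T R nu) (hb : ¬ Good A) (h1 : A ≠ ⊤) (h0 : A ≠ ⊥) : ∃ v ∈ SOL, Vec T A v :=
  bad H hb (res H hb h1) okB (mem_of_cov H.mass h0 (res H hb h1).1 okC)

end Cfsg.Agent.N2.Sp1.J2
end
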