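import Cfsg.Agent.N2.Sp2.MdSuz_m3
import Cfsg.Agent.N2.Sp3.Lyv_m3
import Cfsg.Agent.N2.Ex.Al.SvF4
import Cfsg.Agent.N2.Ex.CC.Asm_mg_m3
import Cfsg.Agent.N2.Ex.Mu.LatE7_m3
import Cfsg.Agent.N2.Ex.Al.SvE8_m3
import Cfsg.Agent.N2.Ex.Mu.T33C_m3
import Cfsg.Agent.N2.Ex.K.Main_m3
import Cfsg.Agent.SB.Exc.CI.Main_m3
import Cfsg.Agent.H994.KE.Base_m3
import Cfsg.Agent.N2.C1.L_mg_m3
import Cfsg.Agent.N2.Ex.Al.Grp_mg_m3
import Cfsg.Agent.N2.Ex.Al.Tor_m3
import Cfsg.Agent.N2.Sp2.MdCo3_m3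
import Cfsg.Agent.TH.Spor.NFi24D_mg_m3
import Cfsg.Agent.TAB.F24.Use_m3
import Cfsg.Agent.N2.Sp.GFi22_m3
import Cfsg.Agent.H427.Bochert
import Cfsg.Agent.N2.Cl.RAlt.Tri_m3
import Cfsg.Agent.S2119
import Cfsg.Agent.S0253
import Cfsg.Agent.S0254
import Cfsg.Agent.Lib.SolvableNormalP
import Cfsg.Agent.S0494
import Cfsg.Agent.S0496
import Cfsg.Agent.S0497
import Cfsg.Agent.S0725
import Cfsg.Agent.S3578
import Cfsg.Agent.S3569
import Cfsg.Agent.H436.Simple
import Cfsg.Agent.H915.GNDefs_m3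
import Cfsg.Agent.SP.Mon.NL.Out
import Cfsg.Agent.ClassicalGeometry.PSL2Basic
import Cfsg.Agent.H901.Caps
import Cfsg.Agent.H901.MinDeg
import Cfsg.Agent.PermutationGroups.OnanScott
import Cfsg.Agent.DS.Gen.Split
import Cfsg.Agent.N2.D4m.Cen_m3
import Cfsg.Agent.N2.Cl.Br.Main_m3
import Cfsg.Agent.SM.Uj.Loc_mg_m3
import Cfsg.Agent.S1001
import Cfsg.Agent.S0270
import Cfsg.Agent.SmallSimple.S1000.PSLFacts
import Cfsg.Agent.FastGrp
import Cfsg.Agent.Prune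
set_option linter.all false

section
prune_inst 0x7fb0acf82fb82ddeffff7e7ffeb0dffc39d0dfffefdff94bffe8ebff0fdf23042be5fb871de018fd0ed6e01410b87803f9feeeffeb63dc7ffffd1ff45ffbee1fa5e6bd0451d7bc340fbc4fff83f0778a7f3fffffffffffffffffffffffffffbefffdffffffff

-- part: N2/Sp1/VMcL
section
set_option linter.all false

/-- decoders of the packed data (elaboration time only) -/
private noncomputable def pk61d (b S i : Nat) : Nat := Nat.mod (Nat.shiftRight S (Nat.mul b i)) (Nat.shiftLeft (nat_lit 1) b)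
private noncomputable def pk61f {α : Type} (t : Nat) (f : Nat → α) : α := Nat.rec (f Nat.zero) (fun k _ => f (Nat.succ k)) t
private noncomputable def pk61l {α : Type} (f : Nat → α) (s e : Nat) (tl : List α) : List α :=
  pk61f e fun e => Nat.rec tl (fun k ih => List.cons (pk61f (Nat.sub e (Nat.succ k)) f) ih) (Nat.sub e s)
private noncomputable def lq2653663fbe {T : Sort _} (f :
    type_of% (@_root_.List.cons.{0}) →
    type_of% (@_root_.Prod.mk.{0, 0}) →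
    type_of% (@_root_.List.nil.{0}) →
    type_of% (@_root_.List.cons.{0} (Prod Nat (Prod Nat (Prod (List Nat) (List (List (Prod Nat Nat))))))) →
    type_of% (@_root_.List.cons.{0} (List Nat)) → T) : T :=
  f (@_root_.List.cons.{0}) (@_root_.Prod.mk.{0, 0}) (@_root_.List.nil.{0}) (@_root_.List.cons.{0} (Prod Nat (Prod Nat (Prod (List Nat) (List (List (Prod Nat Nat))))))) (@_root_.List.cons.{0} (List Nat))

/-!
# N2 (S3519), sporadic rows: the exact sieve for McL (helper45; generated by notes/N2/sp45/emit.py.txt)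
-/

set_option autoImplicit false

namespace Cfsg.Agent.N2.Sp1.McL

open Cfsg Cfsg.Agent.FP3 Cfsg.Agent.TAB.Eng Cfsg.Agent.TAB.Use Cfsg.Agent.N2.Sp Cfsg.Agent.N2.Sp.McL

/-- the solutions -/
noncomputable def SOL : List (List ℕ) :=
  (by
  refine (?fq9001 : ((pk61l (fun i1 => (pk61l (fun i2 => (pk61d (nat_lit 9) 
    (nat_lit 0x3c144963c1b0d55d27d2087421f4f06e3218ca853281389648228fc78381b0cc6430160a84c2410074361a0c8602a14090401e0e0602c1208038180a04018080200) (pk61d (nat_lit 6) 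
    (nat_lit 0xdc0c40d90341000000000000000e40c409c0341000000000000000000e00ddd001000000000000000c00000bd6541000000000000000d40000850541000000000000000000000bec001000000000000000000000ca8001000000000000000000000ce0001000000000000000000000d16001000000000000000000000d82001000000000000000000c409c0341000000000000000000a80ad3001000000000000000000a80b800010000000000000000000009c0881000000000000000a4000001b341000000000000000a400005cb341000000000000000b400000083410000000000000000007c08500010000000000000000007c094500100000000000000000000061b5410000000000000000000007175410000000000000000000008505410000000000000000000009085410000000000000000000006990010000000000000000000007960010000000000000000000008500010000000000000000000008ca0010000000000000000000009820010000000000000000004807400010000000000000007000000083410000000000000000004804003410000000000000000000000145410000000000000000000003c8541000000000000000000000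4825410000000000000000004800004c100000000000000000000038e3410000000000000000000005c03410000000000000000004800003410000000000000000000000085410000000000000000000002cc00100000000000000000000034a0010000000000000000000003c80010000000000000000000004450010000000000000000000004820010000000000000000000000083410000000000000000000000082410000000000000000000002002410000000000000000000000003410000000000000000000000080c10000000000000000000002000c10000000000000000000001430010000000000000000000001820010000000000000000000001c10010000000000000000000002000010000000000000000000000001c10000000000000000000000020c10000000000000000001000000010000000000000000000000000c1000000000000000000000002001000000000000000000000000041) i2))) (Nat.mul (nat_lit 18) i1) (Nat.mul (nat_lit 18) (Nat.succ i1)) List.nil)) (nat_lit 0) (nat_lit 60) List.nil) : List (List ℕ))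
    = ?xq9001 → (List (List ℕ))) ?hq9001; (case hq9001 => (set_option maxRecDepth 1000000 in set_option simprocs false in conv => lhs; reduce; dsimp only)); intro _; exact ?xq9001 : List (List ℕ))

/-- the certificates -/
noncomputable def CL : List Ct := (beta% delta% lq2653663fbe fun a b c d _ =>
 (let e:=(let e:=(let e:=(let e:=(let e:=(let e:=(d (b 6000<|b 54<|b (a 5<|c) (a (a (b 1 18)<|c)<|a c<|a c<|a c<|a c<|a c<|c))<|
 d (b 6048<|b 53<|b (a 7<|c) (a (a (b 1 18)<|c)<|a c<|a c<|a c<|a c<|a c<|c))<|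
 d (b 6075<|b 53<|b c (a (a (b 1 9)<|c)<|a c<|a c<|c))<|
 d (b 6160<|b 53<|b c (a (a (b 1 13)<|c)<|a c<|a c<|c))<|
 d (b 6237<|b 53<|b c (a (a (b 1 9)<|c)<|a c<|a c<|c))<|c);
 (d (b 5670<|b 55<|b (a 5<|c) (a (a (b 1 18)<|c)<|a c<|a c<|a c<|a c<|c))<|
 d (b 5760<|b 54<|b (a 5<|c) (a (a (b 1 18)<|c)<|a c<|a c<|a c<|a c<|a c<|c))<|
 d (b 5775<|b 54<|b c (a (a (b 1 9)<|c)<|a c<|a c<|c))<|
 d (b 5832<|b 54<|b c (a (a (b 190 0)<|a (b 2252 1)<|a (b 5102 2)<|a (b 5724 3)<|a (b 3336 4)<|a (b 2277 5)<|a (b 5830 8)<|c)<|a c<|a c<|a c<|a c<|a c<|c))<|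
 d (b 5940<|b 54<|b (a 5<|c) (a (a (b 1 18)<|c)<|a c<|a c<|a c<|a c<|a c<|c))<|
 e));
 (let e:=(d (b 5346<|b 56<|b (a 11<|c) (a (a (b 1 18)<|c)<|a c<|a c<|a c<|a c<|c))<|
 d (b 5400<|b 55<|b (a 5400<|c) (a c<|a (a (b 4663 0)<|a (b 5109 1)<|a (b 3449 2)<|a (b 2465 3)<|a (b 2854 4)<|a (b 4070 5)<|a (b 2 6)<|c)<|a (a (b 4688 0)<|
 a (b 2022 1)<|a (b 1288 2)<|a (b 3194 3)<|a (b 3390 4)<|a (b 2548 5)<|a (b 1 8)<|c)<|a (a (b 5009 0)<|a (b 1928 1)<|a (b 1025 2)<|a (b 2720 3)<|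
 a (b 4140 4)<|a (b 3 5)<|c)<|a (a (b 691 0)<|a (b 1413 1)<|a (b 3724 2)<|a (b 1402 3)<|c)<|a (a (b 1 3)<|a (b 5399 18)<|c)<|a (a (b 1 18)<|c)<|c))<|
 d (b 5500<|b 55<|b c (a (a (b 1 13)<|c)<|a c<|a c<|c))<|
 d (b 5544<|b 55<|b (a 7<|c) (a (a (b 1 18)<|c)<|a c<|a c<|a c<|a c<|a c<|c))<|
 d (b 5600<|b 55<|b c (a (a (b 1 13)<|c)<|a c<|a c<|c))<|
 e);
 (d (b 5103<|b 57<|b c (a (a (b 1 14)<|c)<|a c<|a c<|c))<|
 d (b 5184<|b 56<|b (a 5184<|c) (a c<|a (a (b 1864 0)<|a (b 4080 1)<|a (b 1598 2)<|a (b 167 3)<|a (b 637 4)<|a (b 3503 5)<|a (b 5183 6)<|c)<|a (a (b 4164 0)<|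
 a (b 1394 1)<|a (b 1092 2)<|a (b 4982 3)<|a (b 66 4)<|a (b 22 5)<|a (b 5183 8)<|c)<|a (a (b 924 0)<|a (b 2839 1)<|a (b 5182 2)<|a (b 941 3)<|c)<|a (a (b 3
 0)<|a (b 5183 1)<|c)<|a (a (b 1 18)<|c)<|c))<|
 d (b 5250<|b 56<|b (a 7<|c) (a (a (b 1 18)<|c)<|a c<|a c<|a c<|a c<|a c<|c))<|
 d (b 5280<|b 56<|b (a 11<|c) (a (a (b 1 18)<|c)<|a c<|a c<|a c<|a c<|a c<|a c<|c))<|
 e)));
 (let e:=(let e:=(d (b 4800<|b 58<|b (a 4800<|c) (a c<|a (a (b 3002 0)<|a (b 4302 1)<|a (b 8 2)<|a (b 3843 3)<|a (b 915 4)<|a (b 2319 5)<|a (b 127 6)<|c)<|a (a (b 182 0)<|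
 a (b 2808 1)<|a (b 578 2)<|a (b 16 3)<|a (b 2158 4)<|a (b 1932 5)<|a (b 1 8)<|c)<|a (a (b 3105 0)<|a (b 4176 1)<|a (b 2613 2)<|a (b 1670 3)<|a (b 4238
 4)<|a (b 4799 5)<|c)<|a (a (b 730 0)<|a (b 3930 1)<|a (b 885 2)<|a (b 475 3)<|a (b 4798 4)<|c)<|a (a (b 1 3)<|a (b 4799 18)<|c)<|a (a (b 1 18)<|c)<|c))<|
 d (b 4860<|b 57<|b (a 2<|a 4860<|c) (a c<|a (a (b 3520 0)<|a (b 1324 1)<|a (b 4488 2)<|a (b 562 3)<|a (b 466 4)<|a (b 426 5)<|a (b 1206 6)<|a (b 1 18)<|c)<|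
 a (a (b 1125 0)<|a (b 2891 1)<|a (b 2677 2)<|a (b 2528 3)<|a (b 2549 4)<|a (b 2712 5)<|a (b 2 6)<|c)<|a (a (b 1425 0)<|a (b 1056 1)<|a (b 1233 2)<|
 a (b 4460 3)<|a (b 4508 4)<|a (b 4859 5)<|c)<|a (a (b 3378 0)<|a (b 578 1)<|a (b 1965 2)<|a (b 573 3)<|c)<|a (a (b 1 3)<|a (b 4859 19)<|c)<|a (a (b 1 19)<|c)<|c))<|
 d (b 4928<|b 57<|b c (a (a (b 1 13)<|c)<|a c<|a c<|c))<|
 d (b 4950<|b 57<|b (a 11<|c) (a (a (b 1 18)<|c)<|a c<|a c<|a c<|a c<|a c<|c))<|
 d (b 5040<|b 57<|b (a 7<|c) (a (a (b 1 18)<|c)<|a c<|a c<|a c<|a c<|a c<|a c<|c))<|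
 e);
 (d (b 4500<|b 59<|b c (a (a (b 2699 0)<|a (b 3013 1)<|a (b 4019 2)<|a (b 3198 3)<|a (b 2501 4)<|a (b 284 5)<|a (b 50 6)<|c)<|a c<|a c<|a c<|a c<|a c<|
 a c<|c))<|
 d (b 4536<|b 59<|b (a 7<|c) (a (a (b 1 18)<|c)<|a c<|a c<|a c<|a c<|a c<|c))<|
 d (b 4620<|b 58<|b (a 7<|c) (a (a (b 1 18)<|c)<|a c<|a c<|a c<|a c<|a c<|a c<|c))<|
 d (b 4725<|b 58<|b (a 7<|c) (a (a (b 1 18)<|c)<|a c<|a c<|a c<|c))<|
 d (b 4752<|b 58<|b (a 11<|c) (a (a (b 1 18)<|c)<|a c<|a c<|a c<|a c<|a c<|c))<|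
 e));
 (let e:=(d (b 4224<|b 60<|b (a 11<|c) (a (a (b 1 18)<|c)<|a c<|a c<|a c<|a c<|a c<|c))<|
 d (b 4320<|b 60<|b (a 4320<|c) (a c<|a (a (b 2488 0)<|a (b 1224 1)<|a (b 4094 2)<|a (b 815 3)<|a (b 109 4)<|a (b 815 5)<|a (b 4187 6)<|c)<|a (a (b 3854 0)<|
 a (b 1704 1)<|a (b 244 2)<|a (b 281 3)<|a (b 2409 4)<|a (b 3994 5)<|a (b 480 6)<|a (b 1 8)<|c)<|a (a (b 2269 0)<|a (b 3868 1)<|a (b 1305 2)<|a (b 2370
 3)<|a (b 3870 4)<|a (b 650 5)<|a (b 4317 6)<|c)<|a (a (b 4136 0)<|a (b 2368 1)<|a (b 1139 2)<|a (b 2387 3)<|c)<|a (a (b 1 3)<|a (b 4319 18)<|c)<|a (a (b 1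
 18)<|c)<|c))<|
 d (b 4400<|b 59<|b (a 11<|c) (a (a (b 1 18)<|c)<|a c<|a c<|a c<|c))<|
 d (b 4455<|b 59<|b (a 11<|c) (a (a (b 1 18)<|c)<|a c<|a c<|a c<|c))<|
 d (b 4480<|b 59<|b (a 7<|c) (a (a (b 1 18)<|c)<|a c<|a c<|a c<|c))<|
 e);
 (d (b 4050<|b 61<|b (a 4050<|c) (a c<|a (a (b 157 0)<|a (b 2178 1)<|a (b 358 2)<|a (b 3202 3)<|a (b 3455 4)<|a (b 1232 5)<|a (b 13 6)<|c)<|a (a (b 2303 0)<|
 a (b 26 1)<|a (b 2722 2)<|a (b 2869 3)<|a (b 4049 5)<|c)<|a (a (b 1062 0)<|a (b 4048 1)<|a (b 2907 2)<|a (b 2895 3)<|c)<|a (a (b 1 3)<|a (b 4049 18)<|c)<|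
 a (a (b 1 18)<|c)<|c))<|
 d (b 4125<|b 61<|b (a 11<|c) (a (a (b 1 18)<|c)<|a c<|a c<|a c<|c))<|
 d (b 4158<|b 61<|b (a 7<|c) (a (a (b 1 18)<|c)<|a c<|a c<|a c<|a c<|c))<|
 d (b 4200<|b 60<|b (a 7<|c) (a (a (b 1 18)<|c)<|a c<|a c<|a c<|a c<|a c<|a c<|c))<|
 e))));
 (let e:=(let e:=(let e:=(d (b 3850<|b 62<|b (a 7<|c) (a (a (b 1 18)<|c)<|a c<|a c<|c))<|
 d (b 3888<|b 62<|b (a 3888<|c) (a c<|a (a (b 1551 0)<|a (b 3421 1)<|a (b 1945 2)<|a (b 3161 3)<|a (b 174 4)<|a (b 2791 5)<|a (b 1 6)<|c)<|a (a (b 2958 0)<|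
 a (b 1484 1)<|a (b 2406 2)<|a (b 3002 3)<|a (b 12 4)<|a (b 4 5)<|a (b 3887 8)<|c)<|a (a (b 1033 0)<|a (b 3198 1)<|a (b 3885 2)<|a (b 1058 3)<|c)<|a (a (b 3
 0)<|a (b 3887 1)<|c)<|a (a (b 1 18)<|c)<|c))<|
 d (b 3960<|b 61<|b (a 11<|c) (a (a (b 1 18)<|c)<|a c<|a c<|a c<|a c<|a c<|a c<|c))<|
 d (b 4000<|b 61<|b c (a (a (b 2996 0)<|a (b 954 1)<|a (b 972 2)<|a (b 3017 3)<|c)<|a c<|a c<|a c<|c))<|
 d (b 4032<|b 61<|b (a 7<|c) (a (a (b 1 18)<|c)<|a c<|a c<|a c<|a c<|a c<|c))<|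
 e);
 (d (b 3564<|b 64<|b (a 11<|c) (a (a (b 1 18)<|c)<|a c<|a c<|a c<|a c<|a c<|c))<|
 d (b 3600<|b 63<|b (a 3600<|c) (a c<|a (a (b 3089 0)<|a (b 1171 1)<|a (b 2755 2)<|a (b 2317 3)<|a (b 3028 4)<|a (b 2061 5)<|a (b 3527 6)<|c)<|a (a (b 2431 0)<|
 a (b 2363 1)<|a (b 2121 2)<|a (b 755 3)<|a (b 1372 4)<|a (b 2636 5)<|a (b 1 8)<|c)<|a (a (b 2095 0)<|a (b 3562 1)<|a (b 135 2)<|a (b 2088 3)<|a (b 282
 4)<|a (b 3599 5)<|c)<|a (a (b 2508 0)<|a (b 428 1)<|a (b 1455 2)<|a (b 423 3)<|c)<|a (a (b 1 3)<|a (b 3599 18)<|c)<|a (a (b 1 18)<|c)<|c))<|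
 d (b 3645<|b 63<|b c (a (a (b 1664 0)<|a (b 3254 1)<|a (b 404 3)<|a (b 3638 4)<|c)<|a c<|a c<|a c<|c))<|
 d (b 3696<|b 63<|b (a 7<|c) (a (a (b 1 18)<|c)<|a c<|a c<|a c<|a c<|a c<|c))<|
 d (b 3780<|b 62<|b (a 7<|c) (a (a (b 1 18)<|c)<|a c<|a c<|a c<|a c<|a c<|a c<|c))<|
 e));
 (let e:=(d (b 3402<|b 65<|b (a 7<|c) (a (a (b 1 18)<|c)<|a c<|a c<|a c<|a c<|c))<|
 d (b 3456<|b 64<|b c (a (a (b 1937 0)<|a (b 2919 1)<|a (b 2829 2)<|a (b 2806 3)<|a (b 555 4)<|a (b 980 5)<|a (b 3428 6)<|c)<|a c<|a c<|a c<|a c<|a c<|c))<|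
 d (b 3465<|b 64<|b (a 7<|c) (a (a (b 1 18)<|c)<|a c<|a c<|a c<|c))<|
 d (b 3500<|b 64<|b (a 7<|c) (a (a (b 1 18)<|c)<|a c<|a c<|a c<|c))<|
 d (b 3520<|b 64<|b (a 11<|c) (a (a (b 1 18)<|c)<|a c<|a c<|a c<|c))<|
 e);
 (d (b 3240<|b 66<|b (a 3240<|c) (a c<|a (a (b 879 0)<|a (b 745 1)<|a (b 1277 2)<|a (b 1559 3)<|a (b 2816 4)<|a (b 756 5)<|a (b 3072 6)<|a (b 3238 8)<|c)<|
 a (a (b 2126 0)<|a (b 288 1)<|a (b 1006 2)<|a (b 1490 3)<|a (b 2652 4)<|a (b 2056 5)<|a (b 1 8)<|c)<|a (a (b 3175 0)<|a (b 34 1)<|a (b 3159 2)<|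
 a (b 1944 3)<|a (b 930 4)<|a (b 3239 5)<|c)<|a (a (b 845 0)<|a (b 3163 1)<|a (b 386 2)<|a (b 3164 3)<|c)<|a (a (b 1 3)<|a (b 3239 18)<|c)<|a (a (b 1 18)<|c)<|c))<|
 d (b 3300<|b 65<|b (a 11<|c) (a (a (b 1 18)<|c)<|a c<|a c<|a c<|a c<|a c<|a c<|c))<|
 d (b 3360<|b 65<|b (a 7<|c) (a (a (b 1 18)<|c)<|a c<|a c<|a c<|a c<|a c<|a c<|c))<|
 d (b 3375<|b 65<|b c (a (a (b 1544 0)<|a (b 3014 1)<|a (b 374 3)<|a (b 3368 4)<|c)<|a c<|a c<|a c<|c))<|
 e)));
 (let e:=(let e:=(d (b 3024<|b 67<|b (a 7<|c) (a (a (b 1 18)<|c)<|a c<|a c<|a c<|a c<|a c<|c))<|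
 d (b 3080<|b 67<|b (a 7<|c) (a (a (b 1 18)<|c)<|a c<|a c<|a c<|c))<|
 d (b 3150<|b 66<|b (a 7<|c) (a (a (b 1 18)<|c)<|a c<|a c<|a c<|a c<|a c<|c))<|
 d (b 3168<|b 66<|b (a 11<|c) (a (a (b 1 18)<|c)<|a c<|a c<|a c<|a c<|a c<|c))<|
 d (b 3200<|b 66<|b (a 128<|c) (a (a (b 2700 0)<|a (b 50 1)<|a (b 2775 2)<|a (b 3199 18)<|c)<|a c<|a c<|a c<|c))<|
 e);
 (d (b 2835<|b 69<|b (a 7<|c) (a (a (b 1 18)<|c)<|a c<|a c<|a c<|c))<|
 d (b 2880<|b 68<|b (a 2880<|c) (a c<|a (a (b 1014 0)<|a (b 1986 1)<|a (b 1940 2)<|a (b 1867 3)<|a (b 1943 4)<|a (b 391 5)<|a (b 2847 6)<|c)<|a (a (b 1712 0)<|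
 a (b 1230 1)<|a (b 2502 2)<|a (b 177 3)<|a (b 1691 4)<|a (b 2102 5)<|a (b 1 8)<|c)<|a (a (b 2405 0)<|a (b 2108 1)<|a (b 2097 2)<|a (b 2866 3)<|
 a (b 646 4)<|a (b 2879 5)<|c)<|a (a (b 391 0)<|a (b 753 1)<|a (b 1984 2)<|a (b 742 3)<|c)<|a (a (b 1 3)<|a (b 2879 18)<|c)<|a (a (b 1 18)<|c)<|c))<|
 d (b 2916<|b 68<|b c (a (a (b 1010 0)<|a (b 542 1)<|a (b 72 2)<|a (b 1553 3)<|a (b 1715 4)<|a (b 2427 5)<|a (b 2915 8)<|c)<|a c<|a c<|a c<|a c<|a c<|c))<|
 d (b 2970<|b 68<|b (a 11<|c) (a (a (b 1 18)<|c)<|a c<|a c<|a c<|a c<|a c<|c))<|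
 d (b 3000<|b 67<|b c (a (a (b 1222 0)<|a (b 914 1)<|a (b 2182 2)<|a (b 1344 3)<|a (b 2878 4)<|a (b 2227 5)<|a (b 25 6)<|c)<|a c<|a c<|a c<|a c<|a c<|
 a c<|c))<|
 e));
 (let e:=(d (b 2688<|b 70<|b (a 7<|c) (a (a (b 1 18)<|c)<|a c<|a c<|a c<|a c<|a c<|c))<|
 d (b 2700<|b 70<|b (a 2<|a 2700<|c) (a c<|a (a (b 2332 0)<|a (b 1048 1)<|a (b 1740 2)<|a (b 196 3)<|a (b 964 4)<|a (b 1668 5)<|a (b 876 6)<|a (b 1 18)<|c)<|
 a (a (b 2394 0)<|a (b 2166 1)<|a (b 1400 2)<|a (b 637 3)<|a (b 113 4)<|a (b 34 5)<|c)<|a (a (b 221 0)<|a (b 552 1)<|a (b 2477 2)<|a (b 1064 3)<|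
 a (b 1148 4)<|a (b 413 5)<|a (b 2698 6)<|c)<|a (a (b 80 0)<|a (b 280 1)<|a (b 2035 2)<|a (b 1025 3)<|a (b 2698 4)<|c)<|a (a (b 1 3)<|a (b 2699 19)<|c)<|
 a (a (b 1 19)<|c)<|c))<|
 d (b 2750<|b 69<|b (a 11<|c) (a (a (b 1 18)<|c)<|a c<|a c<|c))<|
 d (b 2772<|b 69<|b (a 7<|c) (a (a (b 1 18)<|c)<|a c<|a c<|a c<|a c<|a c<|c))<|
 d (b 2800<|b 69<|b (a 7<|c) (a (a (b 1 18)<|c)<|a c<|a c<|a c<|c))<|
 e);
 (d (b 2592<|b 71<|b (a 2592<|c) (a c<|a (a (b 2032 0)<|a (b 1120 1)<|a (b 550 2)<|a (b 775 3)<|a (b 477 4)<|a (b 35 5)<|a (b 2591 6)<|c)<|a (a (b 2502 0)<|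
 a (b 1556 1)<|a (b 1374 2)<|a (b 1514 3)<|a (b 36 4)<|a (b 4 5)<|a (b 2591 8)<|c)<|a (a (b 1457 0)<|a (b 1622 1)<|a (b 5 2)<|a (b 1418 3)<|c)<|a (a (b 3
 0)<|a (b 2591 1)<|c)<|a (a (b 1 18)<|c)<|c))<|
 d (b 2625<|b 70<|b (a 7<|c) (a (a (b 1 18)<|c)<|a c<|a c<|a c<|c))<|
 d (b 2640<|b 70<|b (a 11<|c) (a (a (b 1 18)<|c)<|a c<|a c<|a c<|a c<|a c<|a c<|c))<|
 d (b 2673<|b 70<|b c (a (a (b 1 9)<|c)<|a c<|a c<|c))<|
 e)))));
 (let e:=(let e:=(let e:=(let e:=(d (b 2400<|b 73<|b (a 2400<|c) (a c<|a (a (b 1901 0)<|a (b 1065 1)<|a (b 1027 2)<|a (b 366 3)<|a (b 156 4)<|a (b 153 5)<|a (b 1927 6)<|a (b 5 7)<|c)<|a (a (b 654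
 0)<|a (b 864 1)<|a (b 2254 2)<|a (b 1506 3)<|a (b 524 4)<|a (b 1502 5)<|a (b 2378 6)<|a (b 1 8)<|c)<|a (a (b 2205 0)<|a (b 1476 1)<|a (b 1113 2)<|
 a (b 170 3)<|a (b 38 4)<|a (b 2399 5)<|c)<|a (a (b 625 0)<|a (b 2343 1)<|a (b 286 2)<|a (b 2344 3)<|c)<|a (a (b 1 3)<|a (b 2399 18)<|c)<|a (a (b 1 18)<|c)<|c))<|
 d (b 2430<|b 72<|b (a 2430<|c) (a c<|a (a (b 1077 0)<|a (b 2074 1)<|a (b 1564 2)<|a (b 1208 3)<|a (b 1557 4)<|a (b 1333 5)<|a (b 2428 6)<|c)<|a (a (b 57 0)<|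
 a (b 121 1)<|a (b 2293 2)<|a (b 564 3)<|a (b 5 4)<|c)<|a (a (b 299 0)<|a (b 2429 1)<|a (b 2090 2)<|a (b 2084 3)<|c)<|a (a (b 1 3)<|a (b 2429 18)<|c)<|a (a (b 1
 18)<|c)<|c))<|
 d (b 2464<|b 72<|b c (a (a (b 1 13)<|c)<|a c<|a c<|c))<|
 d (b 2475<|b 72<|b (a 11<|c) (a (a (b 1 18)<|c)<|a c<|a c<|a c<|c))<|
 d (b 2520<|b 71<|b (a 7<|c) (a (a (b 1 18)<|c)<|a c<|a c<|a c<|a c<|a c<|a c<|c))<|
 e);
 (d (b 2240<|b 74<|b (a 7<|c) (a (a (b 1 18)<|c)<|a c<|a c<|a c<|c))<|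
 d (b 2250<|b 74<|b c (a (a (b 1516 0)<|a (b 2076 1)<|a (b 2040 2)<|a (b 1861 3)<|a (b 2207 4)<|a (b 1825 5)<|a (b 2225 6)<|c)<|a c<|a c<|a c<|a c<|
 a c<|c))<|
 d (b 2268<|b 74<|b (a 7<|c) (a (a (b 1 18)<|c)<|a c<|a c<|a c<|a c<|a c<|c))<|
 d (b 2310<|b 73<|b (a 7<|c) (a (a (b 1 18)<|c)<|a c<|a c<|a c<|a c<|a c<|c))<|
 d (b 2376<|b 73<|b (a 11<|c) (a (a (b 1 18)<|c)<|a c<|a c<|a c<|a c<|a c<|c))<|
 e));
 (let e:=(d (b 2079<|b 76<|b c (a (a (b 1 9)<|c)<|a c<|a c<|c))<|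
 d (b 2100<|b 76<|b (a 7<|c) (a (a (b 1 18)<|c)<|a c<|a c<|a c<|a c<|a c<|a c<|c))<|
 d (b 2112<|b 76<|b (a 11<|c) (a (a (b 1 18)<|c)<|a c<|a c<|a c<|a c<|a c<|c))<|
 d (b 2160<|b 75<|b (a 2160<|c) (a c<|a (a (b 901 0)<|a (b 1455 1)<|a (b 407 2)<|a (b 1421 3)<|a (b 856 4)<|a (b 1793 5)<|a (b 2027 6)<|c)<|a (a (b 745 0)<|
 a (b 1113 1)<|a (b 1229 2)<|a (b 84 3)<|a (b 41 4)<|a (b 113 5)<|a (b 13 6)<|a (b 1 8)<|c)<|a (a (b 492 0)<|a (b 1377 1)<|a (b 1984 2)<|a (b 1270 3)<|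
 a (b 69 4)<|a (b 1 5)<|c)<|a (a (b 819 0)<|a (b 1493 1)<|a (b 1188 2)<|a (b 1506 3)<|c)<|a (a (b 1 3)<|a (b 2159 18)<|c)<|a (a (b 1 18)<|c)<|c))<|
 d (b 2200<|b 75<|b (a 11<|c) (a (a (b 1 18)<|c)<|a c<|a c<|a c<|c))<|
 e);
 (d (b 1980<|b 77<|b (a 11<|c) (a (a (b 1 18)<|c)<|a c<|a c<|a c<|a c<|a c<|a c<|c))<|
 d (b 2000<|b 77<|b c (a (a (b 652 0)<|a (b 1998 1)<|a (b 564 2)<|a (b 1979 3)<|c)<|a c<|a c<|a c<|c))<|
 d (b 2016<|b 77<|b (a 7<|c) (a (a (b 1 18)<|c)<|a c<|a c<|a c<|a c<|a c<|c))<|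
 d (b 2025<|b 77<|b (a 2025<|c) (a c<|a (a (b 2020 0)<|a (b 2024 1)<|a (b 1 3)<|c)<|a (a (b 2017 0)<|a (b 4 3)<|a (b 621 4)<|c)<|a (a (b 1 18)<|c)<|c))<|
 e)));
 (let e:=(let e:=(d (b 1848<|b 79<|b (a 7<|c) (a (a (b 1 18)<|c)<|a c<|a c<|a c<|a c<|a c<|c))<|
 d (b 1890<|b 79<|b (a 7<|c) (a (a (b 1 18)<|c)<|a c<|a c<|a c<|a c<|a c<|c))<|
 d (b 1920<|b 78<|b c (a (a (b 619 0)<|a (b 673 1)<|a (b 1599 2)<|a (b 298 3)<|a (b 1141 4)<|a (b 1074 5)<|a (b 300 6)<|c)<|a c<|a c<|a c<|a c<|a c<|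
 a c<|c))<|
 d (b 1925<|b 78<|b c (a (a (b 1 4)<|c)<|a c<|c))<|
 d (b 1944<|b 78<|b (a 1944<|c) (a c<|a (a (b 108 0)<|a (b 1726 1)<|a (b 22 2)<|a (b 1385 3)<|a (b 321 4)<|a (b 151 5)<|a (b 1942 6)<|c)<|a (a (b 1926 0)<|
 a (b 1652 1)<|a (b 846 2)<|a (b 842 3)<|a (b 12 4)<|a (b 4 5)<|a (b 1943 8)<|c)<|a (a (b 167 0)<|a (b 536 1)<|a (b 1943 2)<|a (b 176 3)<|c)<|a (a (b 3 0)<|
 a (b 1943 1)<|c)<|a (a (b 1 18)<|c)<|c))<|
 e);
 (d (b 1728<|b 81<|b (a 1728<|c) (a c<|a (a (b 736 0)<|a (b 1390 1)<|a (b 982 2)<|a (b 1099 3)<|a (b 1719 4)<|a (b 1088 5)<|a (b 1727 6)<|c)<|a (a (b 888 0)<|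
 a (b 162 1)<|a (b 1688 2)<|a (b 958 3)<|a (b 50 4)<|a (b 1708 5)<|a (b 1727 8)<|c)<|a (a (b 1134 0)<|a (b 1549 1)<|a (b 4 2)<|a (b 1103 3)<|c)<|a (a (b 3
 0)<|a (b 1727 1)<|c)<|a (a (b 1 18)<|c)<|c))<|
 d (b 1750<|b 81<|b (a 7<|c) (a (a (b 1 18)<|c)<|a c<|a c<|c))<|
 d (b 1760<|b 80<|b (a 11<|c) (a (a (b 1 18)<|c)<|a c<|a c<|a c<|c))<|
 d (b 1782<|b 80<|b (a 11<|c) (a (a (b 1 18)<|c)<|a c<|a c<|a c<|a c<|c))<|
 d (b 1800<|b 80<|b (a 1800<|c) (a c<|a (a (b 366 0)<|a (b 770 1)<|a (b 1092 2)<|a (b 1071 3)<|a (b 1051 4)<|a (b 268 5)<|a (b 2 6)<|c)<|a (a (b 692 0)<|a (b 1578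
 1)<|a (b 868 2)<|a (b 1706 3)<|a (b 498 4)<|a (b 919 5)<|a (b 1797 6)<|a (b 1 8)<|c)<|a (a (b 1345 0)<|a (b 472 1)<|a (b 405 2)<|a (b 1518 3)<|
 a (b 1422 4)<|a (b 1799 5)<|c)<|a (a (b 1676 0)<|a (b 988 1)<|a (b 479 2)<|a (b 1007 3)<|c)<|a (a (b 1 3)<|a (b 1799 18)<|c)<|a (a (b 1 18)<|c)<|c))<|
 e));
 (let e:=(d (b 1600<|b 83<|b (a 1600<|c) (a c<|a (a (b 923 0)<|a (b 21 1)<|a (b 65 2)<|a (b 175 3)<|c)<|a (a (b 1371 0)<|a (b 1 1)<|a (b 1372 2)<|c)<|a (a (b 1 18)<|c)<|c))<|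
 d (b 1620<|b 83<|b (a 2<|a 1620<|c) (a c<|a (a (b 874 0)<|a (b 622 1)<|a (b 1572 2)<|a (b 265 3)<|a (b 817 4)<|a (b 1560 5)<|a (b 1206 6)<|a (b 1 18)<|c)<|
 a (a (b 66 0)<|a (b 1200 1)<|a (b 622 2)<|a (b 951 3)<|a (b 1224 4)<|a (b 96 5)<|a (b 1 7)<|c)<|a (a (b 1105 0)<|a (b 1528 1)<|a (b 1377 2)<|a (b 36 3)<|
 a (b 156 4)<|a (b 1619 5)<|c)<|a (a (b 241 0)<|a (b 423 1)<|a (b 1114 2)<|a (b 412 3)<|c)<|a (a (b 1 3)<|a (b 1619 19)<|c)<|a (a (b 1 19)<|c)<|c))<|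
 d (b 1650<|b 82<|b (a 11<|c) (a (a (b 1 18)<|c)<|a c<|a c<|a c<|a c<|a c<|c))<|
 d (b 1680<|b 82<|b (a 7<|c) (a (a (b 1 18)<|c)<|a c<|a c<|a c<|a c<|a c<|a c<|c))<|
 d (b 1701<|b 81<|b c (a (a (b 1 14)<|c)<|a c<|a c<|c))<|
 e);
 (d (b 1512<|b 85<|b (a 7<|c) (a (a (b 1 18)<|c)<|a c<|a c<|a c<|a c<|a c<|c))<|
 d (b 1540<|b 84<|b (a 7<|c) (a (a (b 1 18)<|c)<|a c<|a c<|a c<|c))<|
 d (b 1575<|b 83<|b (a 7<|c) (a (a (b 1 18)<|c)<|a c<|a c<|a c<|c))<|
 d (b 1584<|b 83<|b (a 11<|c) (a (a (b 1 18)<|c)<|a c<|a c<|a c<|a c<|a c<|c))<|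
 e))));
 (let e:=(let e:=(let e:=(d (b 1408<|b 87<|b c (a (a (b 1 13)<|c)<|a c<|a c<|c))<|
 d (b 1440<|b 86<|b (a 1440<|c) (a c<|a (a (b 223 0)<|a (b 1309 1)<|a (b 649 2)<|a (b 1425 3)<|a (b 374 4)<|a (b 65 5)<|a (b 1407 6)<|c)<|a (a (b 892 0)<|a (b 530
 1)<|a (b 1212 2)<|a (b 602 3)<|a (b 586 4)<|a (b 707 5)<|a (b 1425 6)<|a (b 1 8)<|c)<|a (a (b 595 0)<|a (b 1270 1)<|a (b 1251 2)<|a (b 12 3)<|
 a (b 1194 4)<|a (b 1439 5)<|c)<|a (a (b 1130 0)<|a (b 970 1)<|a (b 1285 2)<|a (b 1355 3)<|a (b 1438 4)<|c)<|a (a (b 1 3)<|a (b 1439 18)<|c)<|a (a (b 1 18)<|c)<|c))<|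
 d (b 1458<|b 86<|b c (a (a (b 622 0)<|a (b 1316 1)<|a (b 482 2)<|a (b 282 3)<|a (b 162 4)<|a (b 1428 5)<|a (b 1 8)<|c)<|a c<|a c<|a c<|a c<|c))<|
 d (b 1485<|b 85<|b (a 11<|c) (a (a (b 1 18)<|c)<|a c<|a c<|a c<|c))<|
 d (b 1500<|b 85<|b c (a (a (b 138 0)<|a (b 406 1)<|a (b 1228 2)<|a (b 1001 3)<|a (b 1137 4)<|a (b 658 5)<|a (b 100 6)<|c)<|a c<|a c<|a c<|a c<|a c<|
 a c<|c))<|
 e);
 (d (b 1344<|b 88<|b (a 7<|c) (a (a (b 1 18)<|c)<|a c<|a c<|a c<|a c<|a c<|c))<|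
 d (b 1350<|b 88<|b (a 1350<|c) (a c<|a (a (b 829 0)<|a (b 318 1)<|a (b 156 2)<|a (b 1302 3)<|a (b 105 4)<|a (b 425 5)<|a (b 1338 6)<|c)<|a (a (b 522 0)<|
 a (b 1096 1)<|a (b 58 2)<|a (b 1209 3)<|a (b 5 4)<|c)<|a (a (b 1203 0)<|a (b 1 1)<|a (b 186 2)<|a (b 192 3)<|c)<|a (a (b 1 3)<|a (b 1349 18)<|c)<|a (a (b 1
 18)<|c)<|c))<|
 d (b 1375<|b 87<|b c (a (a (b 1 4)<|c)<|a c<|c))<|
 d (b 1386<|b 87<|b (a 7<|c) (a (a (b 1 18)<|c)<|a c<|a c<|a c<|a c<|c))<|
 d (b 1400<|b 87<|b (a 7<|c) (a (a (b 1 18)<|c)<|a c<|a c<|a c<|c))<|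
 e));
 (let e:=(d (b 1215<|b 91<|b (a 1215<|c) (a c<|a (a (b 1210 0)<|a (b 1214 1)<|a (b 1 3)<|c)<|a (a (b 1213 0)<|a (b 1 3)<|a (b 93 4)<|c)<|a (a (b 1 18)<|c)<|c))<|
 d (b 1232<|b 91<|b c (a (a (b 1 13)<|c)<|a c<|a c<|c))<|
 d (b 1260<|b 90<|b (a 7<|c) (a (a (b 1 18)<|c)<|a c<|a c<|a c<|a c<|a c<|a c<|c))<|
 d (b 1296<|b 89<|b (a 1296<|c) (a c<|a (a (b 603 0)<|a (b 1061 1)<|a (b 981 2)<|a (b 1153 3)<|a (b 710 4)<|a (b 205 5)<|a (b 1 6)<|c)<|a (a (b 588 0)<|a (b 134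
 1)<|a (b 656 3)<|a (b 852 4)<|a (b 4 5)<|a (b 1295 8)<|c)<|a (a (b 26 0)<|a (b 1 1)<|a (b 1287 3)<|a (b 4 4)<|c)<|a (a (b 3 0)<|a (b 1295 1)<|c)<|a (a (b 1
 18)<|c)<|c))<|
 d (b 1320<|b 88<|b (a 11<|c) (a (a (b 1 18)<|c)<|a c<|a c<|a c<|a c<|a c<|a c<|c))<|
 e);
 (d (b 1152<|b 93<|b c (a (a (b 539 0)<|a (b 73 1)<|a (b 815 2)<|a (b 1050 3)<|a (b 845 4)<|a (b 614 5)<|a (b 1148 6)<|c)<|a c<|a c<|a c<|a c<|a c<|c))<|
 d (b 1155<|b 92<|b (a 7<|c) (a (a (b 1 18)<|c)<|a c<|a c<|a c<|c))<|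
 d (b 1188<|b 92<|b (a 11<|c) (a (a (b 1 18)<|c)<|a c<|a c<|a c<|a c<|a c<|c))<|
 d (b 1200<|b 91<|b (a 1200<|c) (a c<|a (a (b 439 0)<|a (b 821 1)<|a (b 905 2)<|a (b 917 3)<|a (b 1178 4)<|a (b 111 5)<|a (b 1177 6)<|c)<|a (a (b 550 0)<|a (b 824
 1)<|a (b 286 2)<|a (b 1102 3)<|a (b 440 4)<|a (b 1120 5)<|a (b 1 8)<|c)<|a (a (b 925 0)<|a (b 964 1)<|a (b 489 2)<|a (b 114 3)<|a (b 990 4)<|a (b 1199
 5)<|c)<|a (a (b 191 0)<|a (b 313 1)<|a (b 824 2)<|a (b 302 3)<|c)<|a (a (b 1 3)<|a (b 1199 18)<|c)<|a (a (b 1 18)<|c)<|c))<|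
 e)));
 (let e:=(let e:=(d (b 1080<|b 95<|b (a 1080<|c) (a c<|a (a (b 736 0)<|a (b 444 1)<|a (b 234 2)<|a (b 353 3)<|a (b 219 4)<|a (b 913 5)<|a (b 37 6)<|a (b 1078 8)<|c)<|a (a (b 1074
 0)<|a (b 964 1)<|a (b 4 2)<|a (b 351 3)<|a (b 1039 4)<|a (b 214 5)<|a (b 1 8)<|c)<|a (a (b 405 0)<|a (b 900 1)<|a (b 801 2)<|a (b 902 3)<|a (b 194 4)<|
 a (b 1079 5)<|c)<|a (a (b 768 0)<|a (b 128 1)<|a (b 435 2)<|a (b 123 3)<|c)<|a (a (b 1 3)<|a (b 1079 18)<|c)<|a (a (b 1 18)<|c)<|c))<|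
 d (b 1100<|b 94<|b (a 11<|c) (a (a (b 1 18)<|c)<|a c<|a c<|a c<|c))<|
 d (b 1120<|b 93<|b (a 7<|c) (a (a (b 1 18)<|c)<|a c<|a c<|a c<|c))<|
 d (b 1125<|b 93<|b c (a (a (b 888 0)<|a (b 1078 1)<|a (b 48 3)<|a (b 86 4)<|c)<|a c<|a c<|a c<|c))<|
 d (b 1134<|b 93<|b (a 7<|c) (a (a (b 1 18)<|c)<|a c<|a c<|a c<|a c<|c))<|
 e);
 (d (b 990<|b 97<|b (a 11<|c) (a (a (b 1 18)<|c)<|a c<|a c<|a c<|a c<|a c<|c))<|
 d (b 1000<|b 97<|b (a 125<|c) (a (a (b 944 0)<|a (b 8 2)<|a (b 1 18)<|c)<|a c<|a c<|c))<|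
 d (b 1008<|b 97<|b (a 7<|c) (a (a (b 1 18)<|c)<|a c<|a c<|a c<|a c<|c))<|
 d (b 1050<|b 95<|b (a 7<|c) (a (a (b 1 18)<|c)<|a c<|a c<|a c<|a c<|a c<|c))<|
 d (b 1056<|b 95<|b (a 11<|c) (a (a (b 1 18)<|c)<|a c<|a c<|a c<|a c<|a c<|c))<|
 e));
 (let e:=(d (b 900<|b 100<|b (a 900<|c) (a c<|a (a (b 359 0)<|a (b 558 1)<|a (b 816 2)<|a (b 667 3)<|a (b 560 4)<|a (b 510 5)<|a (b 113 6)<|c)<|a (a (b 329 0)<|a (b 716
 1)<|a (b 490 2)<|a (b 337 3)<|a (b 888 4)<|a (b 899 5)<|c)<|a (a (b 162 0)<|a (b 898 1)<|a (b 657 2)<|a (b 645 3)<|c)<|a (a (b 1 3)<|a (b 899 18)<|c)<|a (a (b 1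
 18)<|c)<|c))<|
 d (b 924<|b 100<|b (a 7<|c) (a (a (b 1 18)<|c)<|a c<|a c<|a c<|a c<|c))<|
 d (b 945<|b 99<|b (a 7<|c) (a (a (b 1 18)<|c)<|a c<|a c<|a c<|c))<|
 d (b 960<|b 98<|b c (a (a (b 506 0)<|a (b 762 1)<|a (b 756 2)<|a (b 407 3)<|a (b 319 4)<|a (b 911 5)<|a (b 955 6)<|c)<|a c<|a c<|a c<|a c<|a c<|c))<|
 d (b 972<|b 98<|b (a 972<|c) (a c<|a (a (b 152 0)<|a (b 919 1)<|a (b 55 2)<|a (b 864 3)<|a (b 54 4)<|c)<|a (a (b 695 0)<|a (b 874 2)<|a (b 959 3)<|a (b 1 5)<|c)<|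
 a (a (b 7 0)<|a (b 971 2)<|c)<|a (a (b 1 18)<|c)<|c))<|
 e);
 (d (b 875<|b 101<|b c (a (a (b 1 7)<|c)<|a c<|c))<|
 d (b 880<|b 101<|b (a 11<|c) (a (a (b 1 18)<|c)<|a c<|a c<|c))<|
 d (b 891<|b 101<|b c (a (a (b 1 9)<|c)<|a c<|a c<|c))<|
 d (b 896<|b 101<|b (a 7<|c) (a (a (b 1 18)<|c)<|a c<|c))<|
 e))))));
 (let e:=(let e:=(let e:=(let e:=(let e:=(d (b 800<|b 104<|b c (a (a (b 57 0)<|a (b 1 1)<|a (b 791 2)<|c)<|a c<|a c<|c))<|
 d (b 810<|b 104<|b (a 810<|c) (a c<|a (a (b 392 0)<|a (b 785 1)<|a (b 355 2)<|a (b 69 3)<|a (b 529 4)<|a (b 549 5)<|a (b 808 6)<|c)<|a (a (b 576 0)<|a (b 96 1)<|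
 a (b 734 2)<|a (b 484 3)<|a (b 809 17)<|c)<|a (a (b 205 0)<|a (b 807 1)<|a (b 484 2)<|a (b 466 3)<|c)<|a (a (b 1 3)<|a (b 809 18)<|c)<|a (a (b 1 18)<|c)<|c))<|
 d (b 825<|b 103<|b (a 11<|c) (a (a (b 1 18)<|c)<|a c<|a c<|a c<|c))<|
 d (b 840<|b 103<|b (a 7<|c) (a (a (b 1 18)<|c)<|a c<|a c<|a c<|a c<|a c<|c))<|
 d (b 864<|b 102<|b (a 32<|c) (a (a (b 342 0)<|a (b 441 1)<|a (b 441 2)<|a (b 432 4)<|a (b 863 18)<|c)<|a c<|a c<|a c<|a c<|c))<|
 e);
 (d (b 729<|b 108<|b c (a (a (b 9 0)<|a (b 728 3)<|c)<|a c<|a c<|c))<|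
 d (b 750<|b 107<|b c (a (a (b 13 0)<|a (b 537 1)<|a (b 199 2)<|a (b 712 3)<|a (b 419 4)<|a (b 104 5)<|a (b 700 6)<|c)<|a c<|a c<|a c<|a c<|a c<|c))<|
 d (b 756<|b 106<|b (a 7<|c) (a (a (b 1 18)<|c)<|a c<|a c<|a c<|a c<|c))<|
 d (b 770<|b 106<|b (a 7<|c) (a (a (b 1 18)<|c)<|a c<|a c<|c))<|
 d (b 792<|b 105<|b (a 11<|c) (a (a (b 1 18)<|c)<|a c<|a c<|a c<|a c<|c))<|
 e));
 (let e:=(d (b 675<|b 110<|b (a 675<|c) (a c<|a (a (b 210 0)<|a (b 575 3)<|a (b 260 4)<|a (b 1 12)<|c)<|a (a (b 665 0)<|a (b 5 3)<|a (b 257 4)<|c)<|a (a (b 1 18)<|c)<|c))<|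
 d (b 693<|b 110<|b c (a (a (b 1 9)<|c)<|a c<|a c<|c))<|
 d (b 700<|b 109<|b (a 7<|c) (a (a (b 1 18)<|c)<|a c<|a c<|c))<|
 d (b 704<|b 109<|b c (a (a (b 1 13)<|c)<|a c<|c))<|
 d (b 720<|b 108<|b (a 720<|c) (a c<|a (a (b 655 0)<|a (b 614 1)<|a (b 606 2)<|a (b 478 3)<|a (b 177 4)<|a (b 395 5)<|a (b 718 6)<|c)<|a (a (b 518 0)<|a (b 674
 1)<|a (b 616 2)<|a (b 350 3)<|a (b 2 6)<|a (b 719 8)<|c)<|a (a (b 663 0)<|a (b 1 1)<|a (b 96 2)<|a (b 102 3)<|c)<|a (a (b 1 3)<|a (b 719 18)<|c)<|a (a (b 1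
 18)<|c)<|c))<|
 e);
 (d (b 640<|b 112<|b c (a (a (b 57 0)<|a (b 1 1)<|a (b 631 2)<|c)<|a c<|a c<|c))<|
 d (b 648<|b 112<|b (a 648<|c) (a c<|a (a (b 98 0)<|a (b 613 1)<|a (b 37 2)<|a (b 576 3)<|a (b 36 4)<|c)<|a (a (b 21 0)<|a (b 646 2)<|a (b 647 3)<|a (b 1 8)<|c)<|
 a (a (b 7 0)<|a (b 647 2)<|c)<|a (a (b 1 18)<|c)<|c))<|
 d (b 660<|b 111<|b (a 11<|c) (a (a (b 1 18)<|c)<|a c<|a c<|a c<|a c<|a c<|c))<|
 d (b 672<|b 111<|b (a 7<|c) (a (a (b 1 18)<|c)<|a c<|a c<|a c<|a c<|c))<|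
 e)));
 (let e:=(let e:=(d (b 576<|b 116<|b c (a (a (b 108 0)<|a (b 162 1)<|a (b 162 2)<|a (b 575 14)<|c)<|a c<|a c<|a c<|a c<|c))<|
 d (b 594<|b 115<|b (a 11<|c) (a (a (b 1 18)<|c)<|a c<|a c<|a c<|a c<|c))<|
 d (b 600<|b 115<|b (a 600<|c) (a c<|a (a (b 267 0)<|a (b 66 1)<|a (b 106 2)<|a (b 230 3)<|a (b 541 4)<|a (b 5 5)<|a (b 588 6)<|c)<|a (a (b 326 0)<|a (b 510 1)<|
 a (b 52 2)<|a (b 202 3)<|a (b 468 4)<|a (b 22 6)<|a (b 599 8)<|c)<|a (a (b 115 0)<|a (b 597 1)<|a (b 364 2)<|a (b 346 3)<|c)<|a (a (b 1 3)<|a (b 599 18)<|c)<|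
 a (a (b 1 18)<|c)<|c))<|
 d (b 616<|b 114<|b c (a (a (b 1 13)<|c)<|a c<|c))<|
 d (b 630<|b 113<|b (a 7<|c) (a (a (b 1 18)<|c)<|a c<|a c<|a c<|a c<|a c<|c))<|
 e);
 (d (b 528<|b 120<|b (a 11<|c) (a (a (b 1 18)<|c)<|a c<|a c<|a c<|a c<|c))<|
 d (b 540<|b 119<|b (a 540<|c) (a c<|a (a (b 418 0)<|a (b 135 1)<|a (b 19 2)<|a (b 19 3)<|a (b 419 4)<|a (b 143 5)<|a (b 538 6)<|c)<|a (a (b 330 0)<|a (b 7 1)<|
 a (b 491 2)<|a (b 533 3)<|a (b 539 18)<|c)<|a (a (b 29 0)<|a (b 539 1)<|a (b 470 2)<|a (b 464 3)<|c)<|a (a (b 1 3)<|a (b 539 18)<|c)<|a (a (b 1 18)<|c)<|c))<|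
 d (b 550<|b 118<|b (a 11<|c) (a (a (b 1 18)<|c)<|a c<|a c<|c))<|
 d (b 560<|b 118<|b (a 7<|c) (a (a (b 1 18)<|c)<|a c<|a c<|c))<|
 d (b 567<|b 117<|b c (a (a (b 1 14)<|c)<|a c<|a c<|c))<|
 e));
 (let e:=(d (b 486<|b 123<|b (a 486<|c) (a c<|a (a (b 89 0)<|a (b 26 1)<|a (b 312 2)<|a (b 443 3)<|a (b 170 4)<|c)<|a (a (b 80 0)<|a (b 58 2)<|a (b 5 3)<|a (b 1 4)<|c)<|a (a (b 7
 0)<|a (b 485 2)<|c)<|a (a (b 1 18)<|c)<|c))<|
 d (b 495<|b 122<|b (a 11<|c) (a (a (b 1 18)<|c)<|a c<|a c<|a c<|c))<|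
 d (b 500<|b 122<|b c (a (a (b 288 0)<|a (b 362 1)<|a (b 216 2)<|a (b 1 3)<|c)<|a c<|a c<|c))<|
 d (b 504<|b 122<|b (a 7<|c) (a (a (b 1 18)<|c)<|a c<|a c<|a c<|a c<|c))<|
 d (b 525<|b 120<|b (a 7<|c) (a (a (b 1 18)<|c)<|a c<|a c<|a c<|c))<|
 e);
 (d (b 448<|b 127<|b (a 7<|c) (a (a (b 1 18)<|c)<|a c<|c))<|
 d (b 450<|b 126<|b (a 450<|c) (a c<|a (a (b 117 0)<|a (b 132 1)<|a (b 362 2)<|a (b 301 3)<|a (b 368 4)<|a (b 61 5)<|a (b 438 6)<|c)<|a (a (b 345 0)<|a (b 299 1)<|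
 a (b 353 2)<|a (b 342 3)<|a (b 1 4)<|c)<|a (a (b 397 0)<|a (b 3 1)<|a (b 172 2)<|a (b 190 3)<|c)<|a (a (b 1 3)<|a (b 449 18)<|c)<|a (a (b 1 18)<|c)<|c))<|
 d (b 462<|b 125<|b (a 7<|c) (a (a (b 1 18)<|c)<|a c<|a c<|a c<|a c<|c))<|
 d (b 480<|b 124<|b c (a (a (b 388 0)<|a (b 360 1)<|a (b 382 2)<|a (b 415 3)<|a (b 425 4)<|a (b 107 5)<|a (b 475 6)<|c)<|a c<|a c<|a c<|a c<|a c<|c))<|
 e))));
 (let e:=(let e:=(let e:=(d (b 400<|b 131<|b (a 400<|c) (a c<|a (a (b 44 0)<|a (b 50 1)<|a (b 351 2)<|c)<|a (a (b 1 18)<|c)<|c))<|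
 d (b 405<|b 131<|b (a 405<|c) (a c<|a (a (b 400 0)<|a (b 404 1)<|a (b 1 3)<|c)<|a (a (b 10 0)<|a (b 400 3)<|a (b 252 4)<|c)<|a (a (b 1 18)<|c)<|c))<|
 d (b 420<|b 129<|b (a 7<|c) (a (a (b 1 18)<|c)<|a c<|a c<|a c<|a c<|a c<|c))<|
 d (b 432<|b 128<|b (a 432<|c) (a c<|a (a (b 161 0)<|a (b 414 1)<|a (b 236 2)<|a (b 124 3)<|a (b 31 4)<|c)<|a (a (b 28 0)<|a (b 428 2)<|a (b 1 3)<|a (b 431 4)<|
 a (b 1 8)<|c)<|a (a (b 7 0)<|a (b 431 2)<|c)<|a (a (b 1 18)<|c)<|c))<|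
 d (b 440<|b 127<|b (a 11<|c) (a (a (b 1 18)<|c)<|a c<|a c<|c))<|
 e);
 (d (b 375<|b 134<|b c (a (a (b 86 0)<|a (b 347 1)<|a (b 83 2)<|a (b 41 3)<|a (b 368 4)<|c)<|a c<|a c<|a c<|c))<|
 d (b 378<|b 134<|b (a 7<|c) (a (a (b 1 18)<|c)<|a c<|a c<|a c<|a c<|c))<|
 d (b 384<|b 133<|b c (a (a (b 234 0)<|a (b 308 1)<|a (b 120 2)<|a (b 145 3)<|a (b 351 4)<|a (b 1 6)<|c)<|a c<|a c<|a c<|a c<|c))<|
 d (b 385<|b 133<|b c (a (a (b 1 4)<|c)<|a c<|c))<|
 d (b 396<|b 132<|b (a 11<|c) (a (a (b 1 18)<|c)<|a c<|a c<|a c<|a c<|c))<|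
 e));
 (let e:=(d (b 330<|b 140<|b (a 11<|c) (a (a (b 1 18)<|c)<|a c<|a c<|a c<|a c<|a c<|c))<|
 d (b 336<|b 139<|b (a 7<|c) (a (a (b 1 18)<|c)<|a c<|a c<|a c<|a c<|c))<|
 d (b 350<|b 137<|b (a 7<|c) (a (a (b 1 18)<|c)<|a c<|a c<|c))<|
 d (b 352<|b 137<|b c (a (a (b 1 13)<|c)<|a c<|c))<|
 d (b 360<|b 136<|b (a 360<|c) (a c<|a (a (b 143 0)<|a (b 62 1)<|a (b 226 2)<|a (b 96 3)<|a (b 343 4)<|a (b 15 5)<|a (b 358 6)<|c)<|a (a (b 340 0)<|a (b 132 1)<|
 a (b 74 2)<|a (b 172 3)<|a (b 2 5)<|a (b 359 8)<|c)<|a (a (b 350 0)<|a (b 2 1)<|a (b 89 2)<|a (b 101 3)<|c)<|a (a (b 1 3)<|a (b 359 18)<|c)<|a (a (b 1 18)<|c)<|c))<|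
 e);
 (d (b 308<|b 143<|b c (a (a (b 1 13)<|c)<|a c<|c))<|
 d (b 315<|b 142<|b (a 7<|c) (a (a (b 1 18)<|c)<|a c<|a c<|a c<|c))<|
 d (b 320<|b 142<|b c (a (a (b 57 0)<|a (b 1 1)<|a (b 311 2)<|c)<|a c<|a c<|c))<|
 d (b 324<|b 141<|b (a 324<|c) (a c<|a (a (b 179 0)<|a (b 4 1)<|a (b 88 2)<|a (b 159 3)<|a (b 258 4)<|c)<|a (a (b 2 0)<|a (b 46 2)<|a (b 4 3)<|a (b 1 6)<|c)<|a (a (b 7
 0)<|a (b 323 2)<|c)<|a (a (b 1 18)<|c)<|c))<|
 e)));
 (let e:=(let e:=(d (b 275<|b 149<|b c (a (a (b 1 4)<|c)<|a c<|c))<|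
 d (b 280<|b 148<|b (a 7<|c) (a (a (b 1 18)<|c)<|a c<|a c<|c))<|
 d (b 288<|b 147<|b c (a (a (b 150 0)<|a (b 168 1)<|a (b 148 2)<|a (b 169 3)<|a (b 83 4)<|a (b 1 6)<|c)<|a c<|a c<|a c<|a c<|c))<|
 d (b 297<|b 145<|b c (a (a (b 1 9)<|c)<|a c<|a c<|c))<|
 d (b 300<|b 145<|b (a 300<|c) (a c<|a (a (b 197 0)<|a (b 84 1)<|a (b 264 2)<|a (b 138 3)<|a (b 87 4)<|a (b 13 5)<|a (b 288 6)<|c)<|a (a (b 48 0)<|a (b 288 1)<|
 a (b 156 2)<|a (b 96 3)<|a (b 1 14)<|c)<|a (a (b 3 0)<|a (b 1 1)<|a (b 36 2)<|a (b 42 3)<|c)<|a (a (b 1 3)<|a (b 299 18)<|c)<|a (a (b 1 18)<|c)<|c))<|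
 e);
 (d (b 243<|b 155<|b (a 243<|c) (a c<|a (a (b 4 0)<|a (b 242 1)<|c)<|a (a (b 1 18)<|c)<|c))<|
 d (b 250<|b 154<|b c (a (a (b 6 0)<|a (b 175 1)<|a (b 1 10)<|c)<|a c<|a c<|c))<|
 d (b 252<|b 153<|b (a 7<|c) (a (a (b 1 18)<|c)<|a c<|a c<|a c<|a c<|c))<|
 d (b 264<|b 151<|b (a 11<|c) (a (a (b 1 18)<|c)<|a c<|a c<|a c<|a c<|c))<|
 d (b 270<|b 150<|b (a 270<|c) (a c<|a (a (b 144 0)<|a (b 199 1)<|a (b 97 2)<|a (b 143 3)<|a (b 177 4)<|a (b 31 5)<|a (b 268 6)<|c)<|a (a (b 143 0)<|a (b 26 1)<|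
 a (b 22 2)<|a (b 169 3)<|a (b 269 5)<|c)<|a (a (b 252 0)<|a (b 268 1)<|a (b 207 2)<|a (b 195 3)<|c)<|a (a (b 1 3)<|a (b 269 18)<|c)<|a (a (b 1 18)<|c)<|c))<|
 e));
 (let e:=(d (b 220<|b 160<|b (a 11<|c) (a (a (b 1 18)<|c)<|a c<|a c<|c))<|
 d (b 224<|b 159<|b (a 7<|c) (a (a (b 1 18)<|c)<|a c<|c))<|
 d (b 225<|b 159<|b (a 225<|c) (a c<|a (a (b 220 0)<|a (b 224 1)<|a (b 1 3)<|c)<|a (a (b 8 0)<|a (b 221 3)<|a (b 158 4)<|c)<|a (a (b 1 18)<|c)<|c))<|
 d (b 231<|b 158<|b c (a (a (b 1 9)<|c)<|a c<|a c<|c))<|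
 d (b 240<|b 156<|b (a 240<|c) (a c<|a (a (b 160 0)<|a (b 29 1)<|a (b 123 2)<|a (b 40 3)<|a (b 52 4)<|a (b 214 5)<|a (b 13 6)<|a (b 2 8)<|c)<|a (a (b 41 0)<|a (b 169
 1)<|a (b 43 2)<|a (b 105 3)<|a (b 239 8)<|c)<|a (a (b 37 0)<|a (b 3 1)<|a (b 82 2)<|a (b 100 3)<|c)<|a (a (b 1 3)<|a (b 239 18)<|c)<|a (a (b 1 18)<|c)<|c))<|
 e);
 (d (b 198<|b 166<|b (a 11<|c) (a (a (b 1 18)<|c)<|a c<|a c<|a c<|a c<|c))<|
 d (b 200<|b 165<|b (a 200<|c) (a c<|a (a (b 19 0)<|a (b 25 1)<|a (b 176 2)<|c)<|a (a (b 1 18)<|c)<|c))<|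
 d (b 210<|b 163<|b (a 7<|c) (a (a (b 1 18)<|c)<|a c<|a c<|a c<|a c<|a c<|c))<|
 d (b 216<|b 161<|b (a 216<|c) (a c<|a (a (b 197 0)<|a (b 2 1)<|a (b 164 3)<|a (b 203 4)<|c)<|a (a (b 28 0)<|a (b 212 2)<|a (b 1 3)<|a (b 215 4)<|a (b 1 8)<|c)<|a (a (b 7
 0)<|a (b 215 2)<|c)<|a (a (b 1 18)<|c)<|c))<|
 e)))));
 (let e:=(let e:=(let e:=(let e:=(d (b 175<|b 173<|b c (a (a (b 1 7)<|c)<|a c<|c))<|
 d (b 176<|b 173<|b c (a (a (b 1 13)<|c)<|a c<|c))<|
 d (b 180<|b 171<|b (a 90<|a 180<|c) (a c<|a (a (b 30 0)<|a (b 131 1)<|a (b 113 2)<|a (b 50 3)<|a (b 56 4)<|a (b 157 5)<|a (b 178 6)<|c)<|a (a (b 176 0)<|a (b 42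
 1)<|a (b 66 2)<|a (b 138 3)<|a (b 179 18)<|c)<|a (a (b 115 0)<|a (b 177 1)<|a (b 124 2)<|a (b 106 3)<|c)<|a (a (b 1 3)<|a (b 179 19)<|c)<|a (a (b 1 19)<|c)<|c))<|
 d (b 189<|b 169<|b c (a (a (b 1 14)<|c)<|a c<|a c<|c))<|
 d (b 192<|b 168<|b c (a (a (b 82 0)<|a (b 188 1)<|a (b 96 2)<|a (b 113 3)<|a (b 87 4)<|a (b 9 6)<|c)<|a c<|a c<|a c<|a c<|c))<|
 e);
 (d (b 154<|b 181<|b c (a (a (b 1 13)<|c)<|a c<|c))<|
 d (b 160<|b 178<|b c (a (a (b 57 0)<|a (b 1 1)<|a (b 151 2)<|c)<|a c<|a c<|c))<|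
 d (b 162<|b 177<|b (a 162<|c) (a c<|a (a (b 59 0)<|a (b 110 2)<|a (b 7 3)<|a (b 118 4)<|a (b 141 5)<|c)<|a (a (b 80 0)<|a (b 58 2)<|a (b 5 3)<|a (b 1 4)<|c)<|a (a (b 7
 0)<|a (b 161 2)<|c)<|a (a (b 1 18)<|c)<|c))<|
 d (b 165<|b 176<|b (a 11<|c) (a (a (b 1 18)<|c)<|a c<|a c<|a c<|c))<|
 d (b 168<|b 175<|b (a 7<|c) (a (a (b 1 18)<|c)<|a c<|a c<|a c<|a c<|c))<|
 e));
 (let e:=(d (b 132<|b 190<|b (a 11<|c) (a (a (b 1 18)<|c)<|a c<|a c<|a c<|a c<|c))<|
 d (b 135<|b 189<|b (a 135<|c) (a c<|a (a (b 26 0)<|a (b 122 3)<|a (b 7 4)<|c)<|a (a (b 12 0)<|a (b 129 3)<|a (b 76 4)<|c)<|a (a (b 1 18)<|c)<|c))<|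
 d (b 140<|b 186<|b (a 7<|c) (a (a (b 1 18)<|c)<|a c<|a c<|c))<|
 d (b 144<|b 185<|b (a 144<|c) (a c<|a (a (b 74 0)<|a (b 141 1)<|a (b 53 2)<|a (b 16 3)<|a (b 4 4)<|c)<|a (a (b 88 0)<|a (b 8 2)<|a (b 2 3)<|a (b 143 6)<|a (b 1 8)<|c)<|
 a (a (b 7 0)<|a (b 143 2)<|c)<|a (a (b 1 18)<|c)<|c))<|
 d (b 150<|b 182<|b (a 50<|a 150<|c) (a c<|a (a (b 143 0)<|a (b 140 1)<|a (b 104 2)<|a (b 129 3)<|a (b 4 4)<|a (b 13 5)<|a (b 138 6)<|c)<|a (a (b 129 0)<|a (b 6 1)<|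
 a (b 90 2)<|a (b 123 3)<|a (b 1 18)<|c)<|a (a (b 50 0)<|a (b 2 1)<|a (b 29 2)<|a (b 41 3)<|c)<|a (a (b 1 3)<|a (b 149 19)<|c)<|a (a (b 1 19)<|c)<|c))<|
 e);
 (d (b 120<|b 196<|b (a 120<|c) (a c<|a (a (b 41 0)<|a (b 60 1)<|a (b 56 2)<|a (b 114 3)<|a (b 39 4)<|a (b 15 5)<|a (b 118 6)<|c)<|a (a (b 42 0)<|a (b 46 1)<|a (b 92
 2)<|a (b 18 3)<|a (b 2 6)<|a (b 119 8)<|c)<|a (a (b 89 0)<|a (b 119 1)<|a (b 110 2)<|a (b 104 3)<|c)<|a (a (b 1 3)<|a (b 119 18)<|c)<|a (a (b 1 18)<|c)<|c))<|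
 d (b 125<|b 193<|b c (a (a (b 122 0)<|a (b 124 1)<|c)<|a c<|c))<|
 d (b 126<|b 193<|b (a 7<|c) (a (a (b 1 18)<|c)<|a c<|a c<|a c<|a c<|c))<|
 d (b 128<|b 192<|b c (a (a (b 6 0)<|a (b 127 1)<|c)<|a c<|c))<|
 e)));
 (let e:=(let e:=(d (b 100<|b 208<|b (a 100<|c) (a c<|a (a (b 85 0)<|a (b 63 1)<|a (b 34 2)<|c)<|a (a (b 1 18)<|c)<|c))<|
 d (b 105<|b 205<|b (a 7<|c) (a (a (b 1 18)<|c)<|a c<|a c<|a c<|c))<|
 d (b 108<|b 203<|b (a 108<|c) (a c<|a (a (b 73 0)<|a (b 5 2)<|a (b 107 11)<|c)<|a (a (b 56 0)<|a (b 100 2)<|a (b 107 3)<|a (b 1 18)<|c)<|a (a (b 7 0)<|a (b 107 2)<|c)<|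
 a (a (b 1 18)<|c)<|c))<|
 d (b 110<|b 202<|b (a 11<|c) (a (a (b 1 18)<|c)<|a c<|a c<|c))<|
 d (b 112<|b 201<|b (a 7<|c) (a (a (b 1 18)<|c)<|a c<|c))<|
 e);
 (d (b 84<|b 221<|b (a 7<|c) (a (a (b 1 18)<|c)<|a c<|a c<|a c<|a c<|c))<|
 d (b 88<|b 217<|b c (a (a (b 1 13)<|c)<|a c<|c))<|
 d (b 90<|b 216<|b (a 90<|c) (a c<|a (a (b 21 0)<|a (b 82 1)<|a (b 28 2)<|a (b 86 3)<|a (b 63 4)<|a (b 7 5)<|a (b 88 6)<|c)<|a (a (b 40 0)<|a (b 12 1)<|a (b 20 2)<|
 a (b 68 3)<|a (b 89 12)<|c)<|a (a (b 33 0)<|a (b 1 1)<|a (b 6 2)<|a (b 12 3)<|c)<|a (a (b 1 3)<|a (b 89 18)<|c)<|a (a (b 1 18)<|c)<|c))<|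
 d (b 96<|b 211<|b c (a (a (b 20 0)<|a (b 90 1)<|a (b 42 2)<|a (b 5 3)<|a (b 21 4)<|a (b 1 6)<|c)<|a c<|a c<|a c<|a c<|c))<|
 d (b 99<|b 209<|b c (a (a (b 1 9)<|c)<|a c<|a c<|c))<|
 e));
 (let e:=(d (b 72<|b 232<|b (a 72<|c) (a c<|a (a (b 17 0)<|a (b 70 1)<|a (b 30 2)<|a (b 67 3)<|c)<|a (a (b 54 0)<|a (b 54 2)<|a (b 6 3)<|a (b 1 8)<|c)<|a (a (b 7 0)<|a (b 71 2)<|c)<|
 a (a (b 1 18)<|c)<|c))<|
 d (b 75<|b 229<|b (a 75<|c) (a c<|a (a (b 67 0)<|a (b 74 13)<|c)<|a (a (b 67 0)<|a (b 4 3)<|a (b 21 4)<|c)<|a (a (b 1 18)<|c)<|c))<|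
 d (b 77<|b 227<|b c (a (a (b 1 0)<|c)<|c))<|
 d (b 80<|b 224<|b (a 80<|c) (a c<|a (a (b 4 0)<|a (b 10 1)<|a (b 71 2)<|c)<|a (a (b 1 18)<|c)<|c))<|
 d (b 81<|b 223<|b (a 81<|c) (a c<|a (a (b 73 0)<|a (b 80 13)<|c)<|a (a (b 1 18)<|c)<|c))<|
 e);
 (d (b 63<|b 243<|b c (a (a (b 1 14)<|c)<|a c<|a c<|c))<|
 d (b 64<|b 242<|b c (a (a (b 6 0)<|a (b 63 1)<|c)<|a c<|c))<|
 d (b 66<|b 239<|b (a 11<|c) (a (a (b 1 18)<|c)<|a c<|a c<|a c<|a c<|c))<|
 d (b 70<|b 235<|b (a 7<|c) (a (a (b 1 18)<|c)<|a c<|a c<|c))<|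
 e))));
 (let e:=(let e:=(let e:=(d (b 50<|b 262<|b (a 50<|c) (a c<|a (a (b 2 0)<|a (b 44 1)<|a (b 5 2)<|c)<|a (a (b 1 18)<|c)<|c))<|
 d (b 54<|b 256<|b (a 54<|c) (a c<|a (a (b 19 0)<|a (b 5 2)<|a (b 53 11)<|c)<|a (a (b 50 0)<|a (b 16 2)<|a (b 53 16)<|c)<|a (a (b 7 0)<|a (b 53 2)<|c)<|a (a (b 1 18)<|c)<|c))<|
 d (b 55<|b 254<|b c (a (a (b 1 4)<|c)<|a c<|c))<|
 d (b 56<|b 253<|b (a 7<|c) (a (a (b 1 18)<|c)<|a c<|c))<|
 d (b 60<|b 247<|b (a 60<|c) (a c<|a (a (b 27 0)<|a (b 10 1)<|a (b 59 3)<|a (b 24 4)<|a (b 54 5)<|a (b 53 6)<|c)<|a (a (b 59 0)<|a (b 14 1)<|a (b 22 2)<|a (b 46 3)<|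
 a (b 59 18)<|c)<|a (a (b 42 0)<|a (b 58 1)<|a (b 57 2)<|a (b 45 3)<|c)<|a (a (b 1 3)<|a (b 59 18)<|c)<|a (a (b 1 18)<|c)<|c))<|
 e);
 (d (b 40<|b 283<|b (a 40<|c) (a c<|a (a (b 39 0)<|a (b 5 1)<|a (b 36 2)<|c)<|a (a (b 1 18)<|c)<|c))<|
 d (b 42<|b 278<|b (a 7<|c) (a (a (b 1 18)<|c)<|a c<|a c<|a c<|a c<|c))<|
 d (b 44<|b 274<|b c (a (a (b 1 13)<|c)<|a c<|c))<|
 d (b 45<|b 272<|b (a 5<|a 45<|c) (a c<|a (a (b 18 0)<|a (b 9 3)<|a (b 27 4)<|a (b 1 18)<|c)<|a (a (b 43 0)<|a (b 1 3)<|a (b 3 4)<|c)<|a (a (b 1 19)<|c)<|c))<|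
 d (b 48<|b 266<|b (a 16<|a 48<|c) (a c<|a (a (b 1 18)<|c)<|a (a (b 6 0)<|a (b 6 2)<|a (b 6 3)<|a (b 1 8)<|c)<|a (a (b 7 0)<|a (b 47 2)<|c)<|a (a (b 1 19)<|c)<|c))<|
 e));
 (let e:=(d (b 30<|b 311<|b (a 30<|c) (a c<|a (a (b 24 0)<|a (b 27 1)<|a (b 5 2)<|a (b 21 3)<|a (b 3 4)<|a (b 29 5)<|a (b 28 6)<|c)<|a (a (b 21 0)<|a (b 6 1)<|a (b 23 2)<|
 a (b 14 3)<|a (b 29 10)<|c)<|a (a (b 7 0)<|a (b 3 1)<|a (b 22 2)<|a (b 10 3)<|c)<|a (a (b 1 3)<|a (b 29 18)<|c)<|a (a (b 1 18)<|c)<|c))<|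
 d (b 32<|b 304<|b c (a (a (b 6 0)<|a (b 31 1)<|c)<|a c<|c))<|
 d (b 33<|b 301<|b c (a (a (b 1 9)<|c)<|a c<|a c<|c))<|
 d (b 35<|b 295<|b c (a (a (b 1 7)<|c)<|a c<|c))<|
 d (b 36<|b 293<|b (a 36<|c) (a c<|a (a (b 1 0)<|a (b 5 2)<|a (b 35 11)<|c)<|a c<|a (a (b 7 0)<|a (b 35 2)<|c)<|a (a (b 1 18)<|c)<|c))<|
 e);
 (d (b 24<|b 335<|b (a 8<|a 24<|c) (a c<|a (a (b 1 18)<|c)<|a (a (b 6 0)<|a (b 6 2)<|a (b 6 3)<|a (b 1 8)<|c)<|a (a (b 7 0)<|a (b 23 2)<|c)<|a (a (b 1 19)<|c)<|c))<|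
 d (b 25<|b 330<|b (a 25<|c) (a c<|a (a (b 1 18)<|c)<|c))<|
 d (b 27<|b 322<|b (a 27<|c) (a c<|a (a (b 11 0)<|a (b 26 16)<|c)<|a (a (b 1 18)<|c)<|c))<|
 d (b 28<|b 318<|b (a 7<|c) (a (a (b 1 18)<|c)<|a c<|c))<|
 e)));
 (let e:=(let e:=(d (b 16<|b 383<|b (a 16<|c) (a c<|a (a (b 1 18)<|c)<|c))<|
 d (b 18<|b 369<|b (a 18<|c) (a c<|a (a (b 5 0)<|a (b 7 3)<|a (b 10 4)<|c)<|a (a (b 13 0)<|a (b 17 11)<|c)<|a (a (b 1 18)<|c)<|c))<|
 d (b 20<|b 356<|b (a 20<|c) (a c<|a (a (b 15 0)<|a (b 13 1)<|a (b 4 2)<|c)<|a (a (b 1 18)<|c)<|c))<|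
 d (b 21<|b 350<|b c (a (a (b 1 14)<|c)<|a c<|a c<|c))<|
 d (b 22<|b 345<|b c (a (a (b 1 13)<|c)<|a c<|c))<|
 e);
 (d (b 11<|b 434<|b c (a (a (b 1 0)<|c)<|c))<|
 d (b 12<|b 422<|b (a 12<|c) (a c<|a (a (b 10 0)<|a (b 11 1)<|a (b 3 2)<|c)<|a (a (b 9 4)<|a (b 11 10)<|c)<|a (a (b 1 18)<|c)<|c))<|
 d (b 14<|b 401<|b (a 7<|c) (a (a (b 1 18)<|c)<|a c<|c))<|
 d (b 15<|b 392<|b (a 15<|c) (a c<|a (a (b 13 0)<|a (b 10 3)<|a (b 6 4)<|a (b 1 16)<|c)<|a (a (b 10 0)<|a (b 10 3)<|a (b 12 4)<|c)<|a (a (b 1 18)<|c)<|c))<|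
 e));
 (let e:=(d (b 6<|b 531<|b (a 6<|c) (a c<|a (a (b 2 4)<|a (b 5 10)<|a (b 1 11)<|c)<|a (a (b 1 11)<|a (b 5 18)<|c)<|a (a (b 1 18)<|c)<|c))<|
 d (b 7<|b 505<|b c (a (a (b 1 0)<|c)<|c))<|
 d (b 8<|b 483<|b (a 8<|c) (a c<|a (a (b 1 18)<|c)<|c))<|
 d (b 9<|b 464<|b (a 9<|c) (a c<|a c<|a (a (b 1 18)<|c)<|c))<|
 d (b 10<|b 448<|b (a 10<|c) (a c<|a (a (b 5 0)<|a (b 9 5)<|c)<|a (a (b 1 18)<|c)<|c))<|
 e);
 (a (b 2<|b 766<|b (a 2<|c) (a c<|a (a (b 1 18)<|c)<|c))<|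
 a (b 3<|b 669<|b (a 3<|c) (a c<|a c<|a (a (b 1 18)<|c)<|c))<|
 a (b 4<|b 608<|b (a 4<|c) (a c<|a (a (b 1 18)<|c)<|c))<|
 a (b 5<|b 565<|b (a 5<|c) (a c<|a (a (b 1 18)<|c)<|c))<|
 e))))))))

theorem okB : chkB D R nu O SOL CL = true := by decide +kernel

theorem okC : cov D.N 6291 (CL.map Prod.fst) = true := by decide +kernel

variable {K : Type} [Group K] [Finite K] {T : TD K D} {A : Subgroup K}

theorem vec (H : Sp.Hy T R nu) (hb : ¬ Good A) (h1 : A ≠ ⊤) (h0 : A ≠ ⊥) : ∃ v ∈ SOL, Vec T A v :=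
  bad H hb (res H hb h1) okB (mem_of_cov H.mass h0 (res H hb h1).1 okC)

end Cfsg.Agent.N2.Sp1.McL
end

-- part: N2/Ex/Al/Lat_mg
section

end

-- part: N2/Ex/Al/Co
section
set_option linter.all false
open scoped Cfsg.Agent.FastGrp

/-!
# N2 (S3519), box [CO]: the context of a frame (helper94)

* `lift` : the lifts normalise the frame up to an inner automorphism;
* `cmt_mem` : commutators lie in a normal subgroup of index at most three;
* `boxCo`.
-/

set_option autoImplicit false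
set_option linter.unusedSectionVars false

namespace Cfsg.Agent.N2.Ex.Al

open CoxeterSystem Cfsg Cfsg.Lie Cfsg.Lie.ChevalleyDatum
open Cfsg.Agent.ChevalleyStructure Cfsg.Agent.ChevalleyStructure.CoxeterGeom Cfsg.Agent.Tits.Roots Cfsg.Agent.Nodes
  Cfsg.Agent.Nodes.BNOf Cfsg.Agent.Nodes.RGDChev Cfsg.Agent.Nodes.Coroot
open Cfsg.Agent.KFacts.RgdChevCoord Cfsg.Agent.BpExc.Fr Cfsg.Agent.BpExc.LangFr Cfsg.Agent.BpExc.Zc
open Cfsg.Agent.H469.Exc Cfsg.Agent.H129.TorusChar Cfsg.Agent.DS.Ex Cfsg.Agent.DS.Nt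
open Cfsg.Agent.DS.Ex.Tor (RT FR)
open Cfsg.Agent.SB.Exc (XF nP dM ordU)

namespace CoB

section Grp

/-- a normal subgroup of index at most three contains the commutators -/
theorem cmt_mem {Y : Type} [Group Y] {K Φ : Subgroup Y} [Finite Φ] (hK : K ≤ Φ)
    (hn : ∀ y ∈ Φ, ∀ x ∈ K, y * x * y⁻¹ ∈ K) (hc : Nat.card Φ ≤ 3 * Nat.card K) {y z : Y} (hy : y ∈ Φ) (hz : z ∈ Φ) :
    y * z * y⁻¹ * z⁻¹ ∈ K := by
  have hN : (K.subgroupOf Φ).Normal := ⟨fun x hx g => hn g g.2 x hx⟩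
  have h1 : Nat.card (K.subgroupOf Φ) = Nat.card K := Nat.card_congr (Subgroup.subgroupOfEquivOfLe hK).toEquiv
  have h2 := (K.subgroupOf Φ).card_eq_card_quotient_mul_card_subgroup
  have h3 : 0 < Nat.card (K.subgroupOf Φ) := Nat.card_pos
  have h4 : Nat.card (Φ ⧸ K.subgroupOf Φ) ≤ 3 := Nat.le_of_mul_le_mul_right (by rwa [← h2, h1]) h3
  have h5 : 0 < Nat.card (Φ ⧸ K.subgroupOf Φ) := Nat.card_pos
  have h6 : IsCyclic (Φ ⧸ K.subgroupOf Φ) := by
    by_cases h : Nat.card (Φ ⧸ K.subgroupOf Φ) = 2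
    · have := Fact.mk Nat.prime_two
      exact isCyclic_of_prime_card h
    · have := Fact.mk Nat.prime_three
      exact isCyclic_of_card_dvd_prime (p := 3) (by
        obtain h | h : Nat.card (Φ ⧸ K.subgroupOf Φ) = 1 ∨ Nat.card (Φ ⧸ K.subgroupOf Φ) = 3 := by omega
        all_goals rw [h]
        exact one_dvd _)
  have h7 : IsMulCommutative (Φ ⧸ K.subgroupOf Φ) := inferInstance
  have h8 : ((⟨y, hy⟩ * ⟨z, hz⟩ * ⟨y, hy⟩⁻¹ * ⟨z, hz⟩⁻¹ : Φ) : Φ ⧸ K.subgroupOf Φ) = 1 := by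
    rw [QuotientGroup.mk_mul, QuotientGroup.mk_mul, QuotientGroup.mk_mul, QuotientGroup.mk_inv, QuotientGroup.mk_inv,
      h7.1.1 (QuotientGroup.mk ⟨y, hy⟩), mul_inv_cancel_right, mul_inv_cancel]
  exact Subgroup.mem_subgroupOf.1 ((QuotientGroup.eq_one_iff _).1 h8)

theorem cK_range {T Y : Type} [Group T] [Group Y] {ι : T →* Y} (hι : Function.Injective ι) (a : T) :
    cK ι.range (ι a) = cn a := by
  rw [cK, cn, ← Subgroup.card_map_of_injective (K := Subgroup.centralizer {a}) hι]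
  congr 2
  ext y
  constructor
  · rintro ⟨⟨x, rfl⟩, h⟩
    refine ⟨x, Subgroup.mem_centralizer_singleton_iff.2 (hι ?_), rfl⟩
    rw [map_mul, map_mul]
    exact Subgroup.mem_centralizer_singleton_iff.1 h
  · rintro ⟨x, h, rfl⟩
    refine ⟨⟨x, rfl⟩, Subgroup.mem_centralizer_singleton_iff.2 ?_⟩
    rw [← map_mul, ← map_mul, Subgroup.mem_centralizer_singleton_iff.1 h]

theorem cn_equiv {T T' : Type} [Group T] [Group T'] (e : T ≃* T') (a : T) : cn (e a) = cn a := by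
  rw [← cK_range (ι := e.toMonoidHom) e.injective, cK, MonoidHom.range_eq_top.2 e.surjective, top_inf_eq]
  rfl

end Grp

section Dat

variable {p : ℕ} [Fact p.Prime] {k : Type} [Field k] [CharP k p] {Y : Type} [Group Y] {N : Type} [Fintype N]
  [DecidableEq N] {ρ : Y →* GL N k} {F : MulAut Y} {G : Subgroup Y} [IsAlgClosed k]

theorem ort_dat (E : DL.Datum p ρ F G) {a b : E.I → ℤ} (ha : E.Rt a) (hb : E.Rt b) :
    cpr E.cs E.h (E.g a) (E.g b) = 0 ↔ cpr E.cs E.h a b = 0 := by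
  refine ⟨fun h => ?_, SB.Exc.Max.cpr_g_zero ha hb⟩
  have k : ∀ n, cpr E.cs E.h (E.g^[n + 1] a) (E.g^[n + 1] b) = 0 := fun n => by
    induction n with
    | zero => exact h
    | succ n ih =>
      rw [Function.iterate_succ_apply', Function.iterate_succ_apply' (x := b)]
      exact SB.Exc.Max.cpr_g_zero (E.iterate_g_root _ ha) (E.iterate_g_root _ hb) ih
  obtain ⟨d, hd, h1⟩ := SB.Exc.Max.periodic ha
  obtain ⟨e, he, h2⟩ := SB.Exc.Max.periodic hb
  have h3 := k (d * e - 1)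
  rwa [Nat.sub_add_cancel (Nat.mul_pos hd he), (h1.mul_const e).eq, (h2.const_mul d).eq] at h3

end Dat

variable {D : ChevalleyDatum} {l : ℕ} {M : CoxeterMatrix (Fin l)} {hp : IsType D l M} {p : ℕ} [Fact p.Prime]

theorem of_fr (o : Prop) {β : MulAut (YY D p)} {g : LL l ≃+ LL l} (Φ : FR hp p β g) : WF hp p β g ∧ Ok hp o g := by
  have := finW hp
  refine ⟨⟨Φ.tor, Φ.map⟩, ⟨fun a ha => (Φ.root a).2 ha, g.injective.injOn, fun a ha => ⟨g.symm a, ?_, g.apply_symm_apply a⟩⟩,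
    fun a _ => map_neg g a, fun a b ha hb => ?_, Or.inr ⟨g, fun _ _ => rfl⟩⟩
  · exact (Φ.root _).1 (by rwa [g.apply_symm_apply])
  · rw [cp, H123.ExcComb.cpr_g Φ.root ha hb]

variable {q : ℕ} {G : Type} [Group G] [Finite G] {T H : Subgroup G} (F : XF hp p q T)

theorem lift (φ : F.L.Γ) :
    ∃ y h, WF hp p (MulAut.conj y * (φ : MulAut (YY D p))) h ∧ Ok hp (D = chevF4 ∧ p = 2) h := by
  by_cases ho : D = chevF4 ∧ p = 2
  · obtain ⟨n, hn, -⟩ := SB.Exc.Max.deg_pos F φ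
    obtain ⟨ex, y, β, h, Φ, e⟩ := SB.Exc.Max.isFA_pos F hn
    rw [SB.Exc.Max.coe_sg] at e
    obtain ⟨g, h1, -⟩ := F.m.fr.pow n
    obtain ⟨h2, h3⟩ := of_fr (D = chevF4 ∧ p = 2) h1.inv
    have h4 : WF hp p β h := ⟨Φ.dat.F_mem_T_iff, fun a ha => Φ.dat.F_mem_X_iff ha⟩
    have h5 : Ok hp (D = chevF4 ∧ p = 2) h :=
      ⟨Φ.dat.g_bijOn (A := {a | RT hp a}) (fun _ h => h) Φ.root, fun a ha => Φ.dat.g_neg ha,
        fun a b ha hb => ort_dat Φ.dat ha hb, Or.inl ho⟩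
    refine ⟨y⁻¹, _, ?_, Red.ok_comp ho h5 h3⟩
    have e' : MulAut.conj y⁻¹ * (φ : MulAut (YY D p)) = β * (F.m.σ ^ n)⁻¹ := by
      rw [eq_mul_inv_iff_mul_eq, mul_assoc, e, map_inv, inv_mul_cancel_left]
    rw [e']
    exact Red.wf_mul h4 h2 fun a ha => h3.bij.mapsTo ha
  · obtain ⟨y, g, Φ, -⟩ := F.L.sfr (fun h1 h2 => ho ⟨h1, h2⟩) φ φ.2
    exact ⟨y, g, of_fr _ Φ⟩

theorem dd_dvd : F.L.dd ∣ dM l := by
  rcases F.L.hdd with h | ⟨h1, h⟩ | ⟨h1, h⟩ <;> rw [h]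
  · exact one_dvd _
  · rw [(typ_l hp).2.1 h1]
    exact dvd_rfl
  · rw [(typ_l hp).2.2.1 h1]
    exact dvd_rfl

theorem card_range : Nat.card F.L.ι.range = Nat.card T := (Nat.card_congr (MonoidHom.ofInjective F.L.inj).toEquiv).symm

end CoB

open CoB in
/-- **[CO]** -/
theorem boxCo : BoxCo := by
  intro h0 D l M hp p _ tw f G _ _ T H F C
  have hS := C.cx.setup
  have he : F.m.e = f := Nat.pow_right_injective (Fact.out : p.Prime).two_le F.m.hq
  have hf : Finite (DL.fix F.L.σ) := F.L.fin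
  have hK : F.L.ι.range ≤ DL.fix F.L.σ := by
    rintro _ ⟨x, rfl⟩
    exact F.L.fix x
  have hF : IsFrob p f F.L.σ := by
    have h := F.m.frob
    rwa [he, ← F.hσ] at h
  refine ⟨⟨C.typ, F.m.he.trans_eq he, hF, ⟨1, F.m.g, ?_, F.gW⟩, hf, F.L.σ_mem_GH hS.normal hS.cent H,
    fun φ hφ => F.L.comm_σ φ (F.L.GH_le H hφ), hK, fun y hy => ?_, fun y z hy hz => cmt_mem hK ?_ ?_ hy hz,
    Subgroup.map_le_range _ _, ?_, fun N hN hN' => ?_, card_range F ▸ F.ord,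
    fun φ hφ => lift F ⟨φ, F.L.GH_le H hφ⟩, ?_⟩, ?_⟩
  · rw [map_one, one_mul, F.hσ]
    exact F.m.fr
  · obtain ⟨c, hc⟩ := dd_dvd F
    rw [hc, pow_mul]
    exact pow_mem (F.L.pow_dd y hy) c
  · rintro u hu _ ⟨x, rfl⟩
    exact F.L.norm u hu x
  · rw [card_range]
    exact F.idx.trans (Nat.mul_le_mul_right _ (by unfold dM; split_ifs <;> norm_num))
  · rintro _ ⟨x, hx, rfl⟩
    exact F.L.conj_mem_GH hS.normal hS.cent hx
  · rintro _ ⟨⟨x, rfl⟩, hx⟩
    refine ι_mem_im.2 (le_of_inv hS (pb_le N) (fun e => hN' ?_) (fun a ha y hy => ?_) (coe_mem_pb.2 hx))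
    · rintro _ ⟨x, rfl⟩
      exact coe_mem_pb.1 (e.ge x.2)
    · exact (Subgroup.mem_normalizer_iff.1 (norm_pb hS.normal (F.L.inv_iff.2 hN) ha) y).1 hy
  · rintro hD hq _ ⟨a, rfl⟩ t ht hd
    obtain ⟨-, K, _, _, _, ⟨-, h1, ⟨e⟩⟩ | ⟨-, h1, -⟩⟩ := C.iso
    · subst hD
      rw [cK_range F.L.inj, ← cn_equiv e]
      refine h0 K (h1.trans hq) (e a) t ht ?_
      rwa [orderOf_injective _ F.L.inj, ← e.orderOf_eq] at hd
    · have h2 := ((typ_l hp).1 hD).symm.trans ((typ_l hp).2.1 h1)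
      omega
  · rintro ⟨_, ⟨a, ha, rfl⟩, h⟩
    refine gd_of_cn ha (cK_range F.L.inj a).ge ?_
    rwa [card_range, im, Subgroup.card_map_of_injective F.L.inj, card_A] at h

end Cfsg.Agent.N2.Ex.Al

private theorem dce_173ec9d9e5df : _root_.True := by
  try have : _root_.True := by simp only [_root_.Cfsg.Agent.N2.cn.eq_1]
  try have : _root_.True := by simp only [_root_.Cfsg.Agent.DS.Nt.im.eq_1]
  exact _root_.True.intro
end

-- part: N2/Ex/Al/Red
section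
prune_inst 0x4f1107d044d22100000180014f2003c22b2000000004b000110400302048e9c40a0038e2158602902803a8a54203d006011100100c20800000e008000011c0581140892028008a10420000680f886000000000000000000000000000000041000200000000
set_option linter.all false
open scoped Cfsg.Agent.FastGrp

/-!
# N2 (S3519), box [RED]: reduction to a set of roots which does not span the lattice (helper68)
-/

set_option autoImplicit false
set_option linter.unusedSectionVars false

namespace Cfsg.Agent.N2.Ex.Al.Red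

open CoxeterSystem Cfsg Cfsg.Lie Cfsg.Lie.ChevalleyDatum
open Cfsg.Agent.ChevalleyStructure Cfsg.Agent.ChevalleyStructure.CoxeterGeom Cfsg.Agent.Tits.Roots Cfsg.Agent.Nodes
  Cfsg.Agent.Nodes.BNOf Cfsg.Agent.Nodes.RGDChev Cfsg.Agent.Nodes.Coroot
open Cfsg.Agent.KFacts.RgdChevCoord Cfsg.Agent.BpExc.Fr Cfsg.Agent.BpExc.LangFr Cfsg.Agent.BpExc.Zc
open Cfsg.Agent.H469.Exc Cfsg.Agent.H129.TorusChar Cfsg.Agent.DS.Ex Cfsg.Agent.DS.Nt Cfsg.Agent.H79.SimpleGen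
open Cfsg.Agent.DS.Ex.Tor (RT FR)
open Cfsg.Agent.H296.FFour Cfsg.Agent.DS.Ex.Untw Cfsg.Agent.N2.Ex.K.C4
open Cfsg.Agent.ChevalleyStructure.RootCombGood (car)

set_option maxRecDepth 100000

theorem t_short : ∀ r < 48, la r = 2 → ∃ s < 48, s ≠ r ∧ car chevF4 r s = 2 := by decide +kernel

/-- `c` is the sum of the orthogonal short roots `r`, `s` -/
def Sm (c r s : ℕ) : Prop := la r = 2 ∧ la s = 2 ∧ chevF4.chainRoot r s 1 = some c ∧
  s ≠ r ∧ s ≠ chevF4.neg r ∧ ∃ m ∈ [(2 : ℤ), -2], chevF4.commTerms r s = [(c, m, 1, 1)]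

noncomputable instance (c r s : ℕ) : Decidable (Sm c r s) := by unfold Sm; infer_instance

theorem t_long : ∀ c < 48, la c = 2 ∨ ∃ r < 48, ∃ s < 48, Sm c r s := by decide +kernel

theorem t_car : ∀ r < 48, ∀ s < 48, car chevF4 (br r) (br s) * la r = la s * car chevF4 r s := by decide +kernel

theorem t_odd : ∀ r < 48, ∃ i, ¬ 2 ∣ vec chevF4 4 r i := by decide +kernel

variable {Ψ : Set (LL 4)}

theorem cp_vec {r s : ℕ} (hr : r < 48) (hs : s < 48) : cp hpF4 (vec chevF4 4 s) (vec chevF4 4 r) = car chevF4 r s :=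
  KFacts.ChevTwoInst.cpr_vec hpF4 _ hr s hs

theorem ex {a : LL 4} (ha : RT hpF4 a) : ∃ r < 48, vec chevF4 4 r = a := (isRoot_iff hpF4 _ a).1 ha

theorem rt {r : ℕ} (hr : r < 48) : RT hpF4 (vec chevF4 4 r) := isRoot_vec hpF4 _ hr

theorem short_mem (hS : F4S) (h1 : Sy hpF4 Ψ) (h2 : Rc hpF4 Ψ) (h3 : ¬ Pp hpF4 Ψ) {r : ℕ} (hr : r < 48) (h : la r = 2) :
    vec chevF4 4 r ∈ Ψ := by
  obtain ⟨s, hs, e1, e2⟩ := t_short r hr h
  exact hS _ hpF4 Ψ h1 h2 h3 _ (rt hr) ⟨_, rt hs, fun e => e1 (vec_inj hpF4 hs hr e), (cp_vec hr hs).trans e2⟩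

/-- in odd characteristic the short root groups generate the group -/
theorem top_odd {p : ℕ} [Fact p.Prime] (h2 : p ≠ 2) (h : ∀ r < 48, la r = 2 → vec chevF4 4 r ∈ Ψ) : MR chevF4 p Ψ = ⊤ := by
  refine eq_top_of_xS_mem hpF4.inList _ fun c hc v => ?_
  rcases t_long c hc with e | ⟨r, hr, s, hs, e1, e2, -, e3, e4, m, hm, e5⟩
  · exact xS_mem (hp := hpF4) hc (h c hc e) v
  have h3 : (2 : KK p) ≠ 0 := fun h => h2 ((Nat.prime_dvd_prime_iff_eq Fact.out Nat.prime_two).1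
    ((CharP.cast_eq_zero_iff (KK p) p 2).1 (by exact_mod_cast h)))
  have h4 : (m : KK p) ≠ 0 := by
    simp only [List.mem_cons, List.not_mem_nil, or_false] at hm
    rcases hm with rfl | rfl <;> simpa using h3
  have h5 : xS hpF4.inList s (1 : KK p) * xS hpF4.inList r (-(v / m)) =
      xS hpF4.inList r (-(v / m)) * xS hpF4.inList s 1 * xS hpF4.inList c v := by
    have h6 := S1025.result chevF4 hpF4.inList r s hr hs e3 e4 (-(v / m)) (1 : KK p)
    rw [commWord, e5] at h6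
    simp only [wordMat, List.map_cons, List.map_nil, List.prod_cons, List.prod_nil, neg_neg, pow_one, mul_one,
      mul_div_cancel₀ v h4] at h6
    exact Subtype.ext (Units.ext h6)
  have a1 := xS_mem (hp := hpF4) hr (h r hr e1) (-(v / m) : KK p)
  have a2 := xS_mem (hp := hpF4) hs (h s hs e2) (1 : KK p)
  exact (mul_mem_cancel_left (mul_mem a1 a2)).1 (h5 ▸ mul_mem a2 a1)

/-- the permutation of the roots given by the special isogeny -/
noncomputable def bb (a : LL 4) : LL 4 := vec chevF4 4 (br (idx chevF4 4 a))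

theorem bb_vec {r : ℕ} (hr : r < 48) : bb (vec chevF4 4 r) = vec chevF4 4 (br r) := by rw [bb, idx_vec hpF4 hr]

theorem bb_bb (a : LL 4) (ha : RT hpF4 a) : RT hpF4 (bb a) ∧ bb (bb a) = a := by
  obtain ⟨r, hr, rfl⟩ := ex ha
  rw [bb_vec hr, bb_vec (tab r hr).1, (tab r hr).2.1]
  exact ⟨rt (tab r hr).1, rfl⟩

theorem la_ne {r : ℕ} (hr : r < 48) : (la r : ℤ) ≠ 0 := by rcases (tabN r hr).2.2.2 with h | h <;> rw [h] <;> decide

theorem ok_bb {o : Prop} (ho : o) : Ok hpF4 o bb where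
  bij := Set.InvOn.bijOn ⟨fun a ha => (bb_bb a ha).2, fun a ha => (bb_bb a ha).2⟩ (fun a ha => (bb_bb a ha).1)
    fun a ha => (bb_bb a ha).1
  neg a ha := by
    obtain ⟨r, hr, rfl⟩ := ex ha
    rw [← vec_neg hpF4 hr, bb_vec (tabN r hr).2.2.1, bb_vec hr, (tabN r hr).1, vec_neg hpF4 (tab r hr).1]
  ort a b ha hb := by
    obtain ⟨s, hs, rfl⟩ := ex ha
    obtain ⟨r, hr, rfl⟩ := ex hb
    rw [bb_vec hr, bb_vec hs, cp_vec hr hs, cp_vec (tab r hr).1 (tab s hs).1, ← mul_eq_zero_iff_right (la_ne hr), t_car r hr s hs,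
      mul_eq_zero_iff_left (la_ne hs)]
  lin := Or.inl ho

theorem act_X {σ : MulAut (YY chevF4 2)} {r s : ℕ} (h : SigFr.Act hpF4.inList σ r s) {y : YY chevF4 2}
    (hy : y ∈ XX chevF4 4 (KK 2) (vec chevF4 4 r)) : σ y ∈ XX chevF4 4 (KK 2) (vec chevF4 4 s) := by
  obtain ⟨hr, hs, c, φ, -, h1, -⟩ := h
  obtain ⟨t, ht⟩ := (LangThm.mem_XX_vec hpF4 hr).1 hy
  obtain rfl : y = SigFr.xs hpF4.inList r t := Subtype.ext ht
  exact (LangThm.mem_XX_vec hpF4 hs).2 ⟨_, congrArg Subtype.val (h1 t)⟩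

theorem wf_al : WF hpF4 2 (al (KK 2)) bb := by
  refine ⟨(wfr_of_act hpF4 (fun a ha => ⟨_, act_al ha⟩) fun s hs => ⟨br s, ?_⟩).1, fun a ha y => ?_⟩
  · have h := act_al (tab s hs).1
    rwa [(tab s hs).2.1] at h
  · obtain ⟨r, hr, rfl⟩ := ex ha
    rw [bb_vec hr]
    exact ⟨fun h => by simpa using act_X (act_al hr).inv h, act_X (act_al hr)⟩

theorem sy_bb (h : Sy hpF4 Ψ) : Sy hpF4 (bb '' Ψ) := by
  constructor <;> rintro _ ⟨a, ha, rfl⟩
  · exact (bb_bb a (h.root a ha)).1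
  · exact ⟨_, h.neg a ha, (ok_bb trivial).neg a (h.root a ha)⟩

theorem rc_bb (h1 : Sy hpF4 Ψ) (h2 : Rc hpF4 Ψ) : Rc hpF4 (bb '' Ψ) := by
  have := finW hpF4
  rintro _ ⟨a, ha, rfl⟩ _ ⟨b, hb, rfl⟩
  refine ⟨_, h2 a ha b hb, ?_⟩
  obtain ⟨c, hc, e1⟩ := ex (h1.root _ (h2 a ha b hb))
  obtain ⟨u, hu, e2⟩ := ex (isRoot_refl _ _ (bb_bb b (h1.root b hb)).1 (bb_bb a (h1.root a ha)).1)
  obtain ⟨r, hr, rfl⟩ := ex (h1.root a ha)
  obtain ⟨s, hs, rfl⟩ := ex (h1.root b hb)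
  have h3 : (la (br u) : ℤ) • vec chevF4 4 (br u) = (la s : ℤ) • vec chevF4 4 c := by
    rw [← psi_vec _ (tab u hu).1, (tab u hu).2.1, e2, e1, bb_vec hr, bb_vec hs, map_sub, map_zsmul, psi_vec r hr,
      psi_vec s hs, smul_sub, smul_smul, smul_smul, cp_vec hr hs, ← t_car r hr s hs]
    exact congrArg (fun m : ℤ => _ - (m * _) • _) (cp_vec (tab r hr).1 (tab s hs).1)
  have h4 : vec chevF4 4 (br u) = vec chevF4 4 c := by
    obtain ⟨i, hi⟩ := t_odd c hc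
    obtain ⟨j, hj⟩ := t_odd _ (tab u hu).1
    have h5 := congrFun h3 i
    have h6 := congrFun h3 j
    rcases (tabN _ (tab u hu).1).2.2.2 with k | k <;> rcases (tabN s hs).2.2.2 with k' | k' <;>
      rw [k, k'] at h3 h5 h6 <;> simp only [Pi.smul_apply, smul_eq_mul] at h5 h6
    · exact smul_right_injective _ (by decide) h3
    · omega
    · omega
    · exact smul_right_injective _ (by decide) h3
  rw [← e1, ← e2, ← h4, bb_vec (tab u hu).1, (tab u hu).2.1]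

theorem pp_bb (hS : F4S) (h1 : Sy hpF4 Ψ) (h2 : Rc hpF4 Ψ) (h3 : ¬ Pp hpF4 Ψ) (h4 : MR chevF4 2 Ψ ≠ ⊤) :
    Pp hpF4 (bb '' Ψ) := by
  by_contra h
  refine h4 (top_of (hp := hpF4) fun a ha => ?_)
  obtain ⟨r, hr, rfl⟩ := ex ha
  rcases (tabN r hr).2.2.2 with e | e
  · have h5 := (tab r hr).2.2
    rw [e, one_mul] at h5
    obtain ⟨b, hb, e'⟩ := short_mem hS (sy_bb h1) (rc_bb h1 h2) h (tab r hr).1 h5
    have h6 := congrArg bb e'
    rw [(bb_bb b (h1.root b hb)).2, ← bb_vec hr, (bb_bb _ ha).2] at h6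
    exact h6 ▸ hb
  · exact short_mem hS h1 h2 h3 hr e

theorem al_frob (e : ℕ) : al (KK 2) * DL.Ex.frobA hpF4.inList 2 e = DL.Ex.frobA hpF4.inList 2 e * al (KK 2) := by
  have h : ∀ r < 48, ∀ t : KK 2, DL.Ex.frobA hpF4.inList 2 e (xS hp4.inList r t) = xS hp4.inList r (t ^ 2 ^ e) :=
    fun r hr t => by rw [← xc_xS (hp := hpF4) hr, DL.Ex.frobA_xc, xc_xS hr]
  refine aut_ext4 _ _ fun r hr t => ?_
  rw [MulAut.mul_apply, MulAut.mul_apply, h r hr, al_xS hr, al_xS hr, h _ (tab r hr).1, pow_right_comm]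

/-- the context after the special isogeny -/
theorem co_al {e : ℕ} {σ : MulAut (YY chevF4 2)} {Γ : Subgroup (MulAut (YY chevF4 2))} {K B : Subgroup (YY chevF4 2)}
    (C : Co hpF4 2 e σ Γ K B) : Co hpF4 2 e (al (KK 2) * σ * (al (KK 2))⁻¹) (TH.cj (al (KK 2)) Γ)
      (K.map (al (KK 2)).toMonoidHom) (B.map (al (KK 2)).toMonoidHom) := by
  obtain ⟨y, g, F, w, hw⟩ := C.fr
  obtain ⟨z, hz⟩ := std C.frob F (hw.resolve_right fun h =>
    absurd (congrArg ChevalleyDatum.nroots h.1) (by decide +kernel))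
  have h1 : al (KK 2) * σ * (al (KK 2))⁻¹ = MulAut.conj (al (KK 2) z) * DL.Ex.frobA hpF4.inList 2 e := by
    rw [hz, ← conj_map, al_frob, mul_inv_cancel_right]
  refine co_map C _ (h1 ▸ (DL.Ex.isFrob_frobA _ _ e).conj_mul _) ⟨(al (KK 2) z)⁻¹, AddEquiv.refl _, ?_, 1, Or.inl fun a => ?_⟩
    fun φ hφ => ?_
  · rw [h1, map_inv, inv_mul_cancel_left, BpExc.FamInst.eq_phi 2 (DL.Ex.coe_frobA _ _ e)]
    exact BpExc.FamInst.phi_fr hpF4 _ 2 (locFin 2) e
  · exact (congrFun (congrArg DFunLike.coe (map_one (rep CoxeterMatrix.F₄.toCoxeterSystem hpF4.isCartan))) _).symm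
  · obtain ⟨y, h, F, O⟩ := C.lift φ hφ
    refine ⟨al (KK 2) y, _, ?_, ok_comp ⟨rfl, rfl⟩ (ok_comp ⟨rfl, rfl⟩ (ok_bb ⟨rfl, rfl⟩) O) (ok_bb ⟨rfl, rfl⟩)⟩
    rw [conj_map]
    exact wf_mul (wf_mul wf_al F fun a ha => O.bij.mapsTo ha) (wf_inv wf_al bb_bb) fun a ha => (bb_bb a ha).1

end Cfsg.Agent.N2.Ex.Al.Red

namespace Cfsg.Agent.N2.Ex.Al

open Red

/-- **[RED]** -/
theorem boxRed : BoxRed := by
  intro hS D l M hp p _ e σ Γ K B C x Ψ h1 h2 h3
  by_cases h : Pp hp Ψ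
  · exact ⟨σ, Γ, K, B, C, ⟨x, Ψ, sy_of h1, h, h3⟩, id⟩
  rcases SB.Exc.W.laced hp C.typ with rfl | ⟨h4, h6⟩
  · obtain rfl := (DS.Nt.typ_l hp).1 rfl
    obtain rfl := DS.Nt.eqF4 hp
    by_cases h5 : p = 2
    · subst h5
      refine ⟨_, _, _, _, co_al C, ⟨H296.FFour.al _ x, _, sy_bb (sy_of h1), pp_bb hS (sy_of h1) (rc_of h1) h h2, ?_⟩,
        gb_map _⟩
      rw [← MR_map wf_al h1.1, cj_map]
      exact iv_map _ h3
    · exact absurd (top_odd h5 fun r hr e => short_mem hS (sy_of h1) (rc_of h1) h hr e) h2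
  · refine absurd (top_of (hp := hp) fun a ha => all_of_laced h4 h6 (sy_of h1) (rc_of h1) a ha ?_) h2
    by_contra h7
    exact h ⟨a, ha, h7⟩

end Cfsg.Agent.N2.Ex.Al

private theorem dce_dc1c9cb6da87 : _root_.True := by
  try have : _root_.True := by simp only [_root_.Cfsg.Agent.N2.Ex.Al.Red.bb.eq_1]
  exact _root_.True.intro
end

-- part: N2/Ex/Al/Main
section
set_option linter.all false

/-!
# N2 (S3519), subgroups of maximal rank in `F₄, E₆, ²E₆, E₇, E₈`: assembly (helper40)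
-/

namespace Cfsg.Agent.N2.Ex

open Al in
/-- **[ALPHA]** -/
theorem boxAl : BoxAl :=
  boxAl_of boxF42 boxCo f4s boxRed boxNrm boxLM boxMv (boxBd_of boxSub) boxElT (boxElA_of boxKT) boxLat boxTor

end Cfsg.Agent.N2.Ex
end

-- part: N2/SpK/F24
section
set_option linter.all false
open scoped Cfsg.Agent.FastGrp

/-!
# N2 (S3519), the sporadic rows: the multipliers for `Fi24'` (helper26)
-/

set_option autoImplicit false
set_option maxRecDepth 100000

namespace Cfsg.Agent.N2.SpK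

open Cfsg Cfsg.Agent.TAB Cfsg.Agent.TAB.Eng Cfsg.Agent.TAB.Use Cfsg.Agent.TH.Spor

theorem KapT.of_ratA {G : Type} [Group G] [Finite G] {D : Dat} {T : TD G D} (hm : T.Mass) {al : MulAut G}
    (h : F24.RatA T al) (t : ℕ) : KapT T t 2 := fun x hx => by
  classical
  have := finite_RC (T := T) x
  have h1 : ∀ y : {g // T.ty g = t}, ¬ (∃ k : ℕ, IsConj (x ^ k) y.1) → ∃ k : ℕ, IsConj (x ^ k) (al.symm y.1) :=
    fun y hy => by
      obtain ⟨k, hk⟩ := h.2 x y.1 (hx.trans y.2.symm)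
      exact ⟨k, by simpa using al.symm.toMonoidHom.map_isConj (hk.resolve_left fun h2 => hy ⟨k, h2⟩)⟩
  rw [two_mul, ← Nat.card_sum, ← hm.2 t (hx ▸ T.lt x)]
  refine Nat.card_le_card_of_injective (β := RC T x ⊕ RC T x) (fun y => if h2 : ∃ k : ℕ, IsConj (x ^ k) y.1 then
    .inl ⟨y.1, y.2.trans hx.symm, h2⟩ else
    .inr ⟨al.symm y.1, by rw [← h.1, al.apply_symm_apply, y.2, hx], h1 y h2⟩) fun y y' e => ?_
  dsimp only at e
  split_ifs at e
  · exact Subtype.ext (congrArg Subtype.val (Sum.inl_injective e) :)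
  · exact Subtype.ext (al.symm.injective (congrArg Subtype.val (Sum.inr_injective e) :))

theorem inK_fi24 {K : Type} [Group K] (h : Spor.IsoFi24' K) : InK K F24.DT NFi24.R
    [(48, 2), (63, 2), (68, 2), (74, 2), (75, 2), (78, 2), (83, 2), (87, 2), (88, 2), (89, 2), (91, 2), (92, 2)] := by
  obtain ⟨e⟩ := h
  obtain ⟨X, _, _, ⟨S⟩⟩ := F24C.inF24
  have := S.mn.finite
  have hU : Unif S.T' := SB.SporL.unif_of S.mass' [1, 2, 3, 4, 5, 6, 7, 11, 23, 24] (by decide +kernel)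
    fun t ht g g' hg hg' => ⟨1, by
      have h1 : ∀ t ∈ [1, 2, 3, 4, 5, 6, 7, 11, 23, 24], t < 94 ∧ F24.kind.getD t 0 = 0 := by decide
      rw [pow_one]
      exact S.one t (h1 t ht).1 (h1 t ht).2 g g' hg hg'⟩
  refine InK.of_equiv ⟨S.T', S.mass', NFi24.R_eq ▸ S.mn.tab, hU, kap_of (fun p hp => ?_) fun t ht h1 => ?_⟩ e
  · have h1 : ∀ p ∈ [(48, 2), (63, 2), (68, 2), (74, 2), (75, 2), (78, 2), (83, 2), (87, 2), (88, 2), (89, 2), (91, 2),
      (92, 2)], p.2 = 2 := by decide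
    exact h1 p hp ▸ KapT.of_ratA S.mass' S.rat' _
  · have h2 : ∀ t < 94, t ∉ [48, 63, 68, 74, 75, 78, 83, 87, 88, 89, 91, 92] →
      F24.kind.getD t 0 = 0 ∨ (F24.DT.ord t).Prime := by decide +kernel
    rcases h2 t ht h1 with h3 | h3
    · exact RatT.kap S.mass' fun g g' hg hg' => ⟨1, by rw [pow_one]; exact S.one t ht h3 g g' hg hg'⟩
    · exact (RatT.of_unif hU h3).kap S.mass'

end Cfsg.Agent.N2.SpK
end

-- part: N2/Alt/Frame
section
prune_inst 0x404201c000820100000000000c0000000400001000020000140000e00000021000002880004000100002200000000002000000000c000000000000000000000009000800000000000020007000004400000000000000000000000000000000000000000000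
set_option linter.all false
open scoped Cfsg.Agent.FastGrp

-- part: N2/Alt/Intr
section
/-!
# N2 (S3519), box Intr: the stabiliser of a subset (helper42)
-/

set_option autoImplicit false
set_option linter.unusedSectionVars false

namespace Cfsg.Agent.N2.Alt

open Equiv Equiv.Perm MulAction Subgroup Cfsg.Agent.FP3 Cfsg.Agent.TH.Alt

namespace In

variable {Ω : Type} [Fintype Ω] [DecidableEq Ω]

/-- `a` stabilises only one subset of the size of `O` -/
theorem good_of_uniq {O : Finset Ω} {a : Perm Ω} (h1 : sign a = 1) (h2 : a ∈ SW O)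
    (h3 : ∀ S : Finset Ω, S.card = O.card → a ∈ SW S → S ⊆ O) : Good (al (SW O)) := by
  refine good_of_one (a := ⟨a, h1⟩) h2 (fx_le_one fun t ht => ?_)
  have hS : ∀ x, x ∈ O.map t.1.toEmbedding ↔ t.1⁻¹ x ∈ O := fun x => Finset.mem_map_equiv
  have h4 := Finset.eq_of_subset_of_card_le (h3 (O.map t.1.toEmbedding) (Finset.card_map _) fun x => by
    have h5 : t.1⁻¹ (a (t.1 (t.1⁻¹ x))) ∈ O ↔ t.1⁻¹ x ∈ O := ht (t.1⁻¹ x)
    rw [hS, hS, ← h5, ap_inv]) (Finset.card_map _).ge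
  intro x
  change t.1 x ∈ O ↔ x ∈ O
  conv_lhs => rw [← h4, hS, inv_ap]

theorem sub_of_cycle {O S : Finset Ω} {c d : Perm Ω} (hd : d.IsCycleOn (Oᶜ : Finset Ω)) (hs : d.support ⊆ Oᶜ)
    (hc : ∀ x ∉ O, c x = x) (h : c * d ∈ SW S) (hlt : S.card < Oᶜ.card) : S ⊆ O := by
  have h1 : d ∈ SW S := fun x => by
    by_cases hx : x ∈ O
    · rw [notMem_support.1 fun h => Finset.mem_compl.1 (hs h) hx]
    · rw [← h x, mul_apply, hc _ (Finset.mem_compl.1 (hd.1.mapsTo (Finset.mem_compl.2 hx)))]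
  intro x hx
  by_contra h2
  refine absurd (Finset.card_le_card fun y hy => ?_) hlt.not_ge
  obtain ⟨n, -, rfl⟩ := hd.exists_pow_eq (Finset.mem_compl.2 h2) hy
  exact ((SW S).pow_mem h1 n x).2 hx

end In

theorem boxIntr : BoxIntr := by
  intro Ω _ _ O h7 h1 h2
  obtain ⟨d, hd, hs⟩ := Oᶜ.exists_cycleOn
  have hc := Finset.card_add_card_compl O
  have h3 : d ∈ SW O := fun x => by
    have := hd.apply_mem_iff (x := x)
    simpa [not_iff_not] using this
  rcases h1.eq_or_lt with h4 | h4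
  · refine In.good_of_uniq (a := d ^ 2) (by rw [map_pow, Int.units_sq]) ((SW O).pow_mem h3 2) fun S h5 h6 x hx => ?_
    by_contra h8
    have h9 := (hd.pow_apply_eq (Finset.mem_compl.2 h8)).1 (Finset.card_le_one.1 (by omega) _ ((h6 x).2 hx) _ hx)
    have := Nat.le_of_dvd two_pos h9
    omega
  rcases Int.units_eq_one_or (sign d) with h5 | h5
  · exact In.good_of_uniq h5 h3 fun S h6 h8 => In.sub_of_cycle (c := 1) hd hs (fun _ _ => rfl) (by rwa [one_mul]) (by omega)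
  · obtain ⟨x, hx, y, hy, hxy⟩ := Finset.one_lt_card.1 h4
    refine In.good_of_uniq (a := swap x y * d) (by rw [map_mul, sign_swap hxy, h5]; simp)
      ((SW O).mul_mem (swap_mem_SW (iff_of_true hx hy)) h3) fun S h6 h8 => In.sub_of_cycle hd hs (fun z hz => ?_) h8 (by omega)
    exact swap_apply_of_ne_of_ne (fun h => hz (h ▸ hx)) fun h => hz (h ▸ hy)

end Cfsg.Agent.N2.Alt
end

-- part: N2/Alt/Imp
section
/-!
# N2 (S3519), box Imp: the stabiliser of a partition (helper42)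

The element acts as a long cycle on the union of all blocks but one.
-/

set_option autoImplicit false
set_option linter.unusedSectionVars false

namespace Cfsg.Agent.N2.Alt

open Equiv Equiv.Perm MulAction Subgroup Cfsg.Agent.FP3 Cfsg.Agent.TH.Alt

namespace Im

variable {B G ι : Type} [Fintype B] [DecidableEq B] [CommGroup G] [Fintype G] [DecidableEq G]

/-- `c` on `B` and the multiplication by `γ` on `G` -/
def el (c : Perm B) (γ : G) : Perm (B ⊕ G) := Perm.sumCongr c (Equiv.mulLeft γ)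

theorem el_pow_inl (c : Perm B) (γ : G) (n : ℕ) (x : B) : (el c γ ^ n) (Sum.inl x) = Sum.inl ((c ^ n) x) := by
  induction n with
  | zero => rfl
  | succ n ih => rw [pow_succ', pow_succ', mul_apply, ih]; rfl

theorem el_pow_inr (c : Perm B) (γ : G) (n : ℕ) (v : G) : (el c γ ^ n) (Sum.inr v) = Sum.inr (γ ^ n * v) := by
  induction n with
  | zero => simp
  | succ n ih => rw [pow_succ', pow_succ', mul_apply, ih, mul_assoc]; rfl

/-- the invariant partition is unique -/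
theorem uniq {γ : G} (hγ : ∀ x, x ∈ Submonoid.powers γ) {c : Perm B} {x0 : B} {j k : ℕ} (hj : (c ^ j) x0 = x0)
    (hB : Nat.card B = k) (hk : k ≤ orderOf (γ ^ j)) (hG : k ∣ Nat.card G) {h : B ⊕ G → ι}
    (hc : ∀ x, Nat.card {y // h y = h x} = k) (hi : el c γ ∈ Par h) :
    (∀ x, h (Sum.inl x) = h (Sum.inl x0)) ∧ (∀ v, h (Sum.inr v) ≠ h (Sum.inl x0)) ∧
      ∀ u v, h (Sum.inr u) = h (Sum.inr v) ↔ (u⁻¹ * v) ^ k = 1 := by
  have hp : ∀ n x y, h ((el c γ ^ n) x) = h ((el c γ ^ n) y) ↔ h x = h y := fun n => (Par h).pow_mem hi n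
  have h1 : ∀ v, h (Sum.inr v) ≠ h (Sum.inl x0) := fun v hv => by
    have h2 : ∀ w ∈ zpowers (γ ^ j), h (Sum.inr (w * v)) = h (Sum.inl x0) := fun w hw => by
      obtain ⟨i, rfl⟩ := (mem_powers_iff_mem_zpowers.2 hw)
      have h3 := (hp (j * i) _ _).2 hv
      rwa [el_pow_inr, el_pow_inl, pow_mul, pow_mul, pow_apply_eq_self_of_apply_eq_self hj] at h3
    have h3 := Nat.card_le_card_of_injective (α := Option (zpowers (γ ^ j))) (β := {y // h y = h (Sum.inl x0)})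
      (fun o => o.elim ⟨_, rfl⟩ fun w => ⟨_, h2 w.1 w.2⟩) (by
        rintro (_ | a) (_ | b) e
        · rfl
        · simp at e
        · simp at e
        · simpa using e)
    rw [hc, Finite.card_option, Nat.card_zpowers] at h3
    omega
  have h2 : ∀ x, h (Sum.inl x) = h (Sum.inl x0) := by
    have h3 : Function.Bijective fun y : {x // h (Sum.inl x) = h (Sum.inl x0)} =>
        (⟨Sum.inl y.1, y.2⟩ : {y // h y = h (Sum.inl x0)}) := by
      refine ⟨fun a b e => Subtype.ext (by simpa using e), ?_⟩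
      rintro ⟨x | v, hx⟩
      · exact ⟨⟨x, hx⟩, rfl⟩
      · exact absurd hx (h1 v)
    have h4 := (Nat.bijective_iff_injective_and_card (Subtype.val : {x // h (Sum.inl x) = h (Sum.inl x0)} → B)).2
      ⟨Subtype.val_injective, by rw [Nat.card_eq_of_bijective _ h3, hc, hB]⟩
    intro x
    obtain ⟨y, rfl⟩ := h4.2 x
    exact y.2
  have h3 : ∀ w u v, h (Sum.inr (w * u)) = h (Sum.inr (w * v)) ↔ h (Sum.inr u) = h (Sum.inr v) := fun w u v => by
    obtain ⟨n, rfl⟩ := hγ w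
    rw [← hp n (Sum.inr u), el_pow_inr, el_pow_inr]
  let K : Subgroup G :=
    { carrier := {w | h (Sum.inr w) = h (Sum.inr 1)}
      mul_mem' := fun {a b} ha hb => ((h3 a b 1).2 hb).trans (by rw [mul_one]; exact ha)
      one_mem' := rfl
      inv_mem' := fun {a} ha => by
        have := (h3 a⁻¹ a 1).2 ha
        rw [inv_mul_cancel, mul_one] at this
        exact this.symm }
  have h4 : Nat.card K = k := by
    rw [← hc (Sum.inr 1)]
    refine Nat.card_eq_of_bijective (fun w => ⟨Sum.inr w.1, w.2⟩) ⟨fun a b e => Subtype.ext (by simpa using e), ?_⟩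
    rintro ⟨x | v, hx⟩
    · exact absurd (hx.symm.trans (h2 x)) (h1 1)
    · exact ⟨⟨v, hx⟩, rfl⟩
  have : IsCyclic G := ⟨⟨γ, fun x => mem_powers_iff_mem_zpowers.1 (hγ x)⟩⟩
  have h5 : K = (powMonoidHom k : G →* G).ker := eq_of_le_of_card_ge (fun w hw => by
    have := pow_card_eq_one' (x := (⟨w, hw⟩ : K))
    rw [h4] at this
    exact congrArg Subtype.val this) (by rw [IsCyclic.card_powMonoidHom_ker, h4]; exact Nat.gcd_le_right _ (h4 ▸ Nat.card_pos))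
  refine ⟨h2, h1, fun u v => ?_⟩
  rw [← h3 u⁻¹, inv_mul_cancel, eq_comm]
  exact (SetLike.ext_iff.1 h5 (u⁻¹ * v))

theorem uniq' {γ : G} (hγ : ∀ x, x ∈ Submonoid.powers γ) {c : Perm B} {x0 : B} {j k : ℕ} (hj : (c ^ j) x0 = x0)
    (hB : Nat.card B = k) (hk : k ≤ orderOf (γ ^ j)) (hG : k ∣ Nat.card G) {h h' : B ⊕ G → ι}
    (hc : ∀ x, Nat.card {y // h y = h x} = k) (hi : el c γ ∈ Par h)
    (hc' : ∀ x, Nat.card {y // h' y = h' x} = k) (hi' : el c γ ∈ Par h') (x y : B ⊕ G) : h x = h y ↔ h' x = h' y := by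
  obtain ⟨h1, h2, h3⟩ := uniq hγ hj hB hk hG hc hi
  obtain ⟨h4, h5, h6⟩ := uniq hγ hj hB hk hG hc' hi'
  rcases x with x | u <;> rcases y with y | v
  · exact iff_of_true ((h1 x).trans (h1 y).symm) ((h4 x).trans (h4 y).symm)
  · rw [h1, h4]
    exact iff_of_false (h2 v).symm (h5 v).symm
  · rw [h1, h4]
    exact iff_of_false (h2 u) (h5 u)
  · rw [h3, h6]

/-- the model of the partition -/
def col (K : Subgroup G) : B ⊕ G → Option (G ⧸ K) := Sum.elim (fun _ => none) fun v => some v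

theorem el_mem (K : Subgroup G) (c : Perm B) (γ : G) : el c γ ∈ Par (col (B := B) K) := by
  rintro (x | u) (y | v)
  · exact Iff.rfl
  · exact iff_of_false (fun h => by cases h) fun h => by cases h
  · exact iff_of_false (fun h => by cases h) fun h => by cases h
  · change some ((γ * u : G) : G ⧸ K) = some ((γ * v : G) : G ⧸ K) ↔ some (u : G ⧸ K) = some (v : G ⧸ K)
    rw [Option.some_inj, Option.some_inj, QuotientGroup.eq, QuotientGroup.eq]
    simp [mul_assoc]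

theorem card_col (K : Subgroup G) (h : Nat.card B = Nat.card K) (i : Option (G ⧸ K)) :
    Nat.card {y : B ⊕ G // col K y = i} = Nat.card K := by
  rcases i with _ | q
  · rw [← h]
    refine (Nat.card_eq_of_bijective (fun x => ⟨Sum.inl x, rfl⟩) ⟨fun a b e => Sum.inl.inj (congrArg Subtype.val e), ?_⟩).symm
    rintro ⟨x | v, hx⟩
    · exact ⟨x, rfl⟩
    · cases hx
  · have h1 := card_pre K fun x => x = q
    rw [Nat.card_unique (α := {x // x = q}), one_mul] at h1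
    rw [← h1]
    refine (Nat.card_eq_of_bijective (fun x => ⟨Sum.inr x.1, congrArg some x.2⟩)
      ⟨fun a b e => Subtype.ext (Sum.inr.inj (congrArg Subtype.val e)), ?_⟩).symm
    rintro ⟨x | v, hx⟩
    · cases hx
    · exact ⟨⟨v, Option.some.inj hx⟩, rfl⟩

variable {Ω : Type} [Fintype Ω] [DecidableEq Ω]

theorem good {f : Ω → ι} {k : ℕ} (hf : ∀ i, Nat.card {a // f a = i} = k) (e : Ω ≃ B ⊕ G) {γ : G} (hγ : ∀ x, x ∈ Submonoid.powers γ)
    {c : Perm B} {x0 : B} {j : ℕ} (hj : (c ^ j) x0 = x0) (hB : Nat.card B = k) (hk : k ≤ orderOf (γ ^ j))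
    (hG : k ∣ Nat.card G) (hs : sign (el c γ) = 1) (hi : el c γ ∈ Par (f ∘ e.symm)) : Good (al (Par f)) := by
  have hc : ∀ (t : Perm Ω) (x : B ⊕ G), Nat.card {y // (f ∘ t ∘ e.symm) y = (f ∘ t ∘ e.symm) x} = k := fun t x => by
    rw [← hf ((f ∘ t ∘ e.symm) x)]
    exact Nat.card_congr ((e.symm.trans t).subtypeEquiv fun y => Iff.rfl)
  refine good_of_one (a := ⟨e.symm.permCongr (el c γ), by rw [mem_alternatingGroup, sign_permCongr, hs]⟩)
    (fun x y => by simpa using hi (e x) (e y)) (fx_le_one fun t ht => ?_)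
  have h1 := uniq' hγ hj hB hk hG (hc t.1⁻¹) (fun x y => by
    have := ht (t.1⁻¹ (e.symm x)) (t.1⁻¹ (e.symm y))
    simpa only [_root_.Equiv.Perm.coe_inv, _root_.Function.comp_apply, _root_.Subgroup.subtype_apply, _root_.Subgroup.coe_mul, _root_.InvMemClass.coe_inv, _root_.Equiv.Perm.coe_mul, _root_.Equiv.apply_symm_apply, _root_.Equiv.permCongr_apply, _root_.Equiv.symm_symm] using this) (hc 1) hi
  refine (Par f).inv_mem_iff.1 fun x y => ?_
  simpa only [_root_.Subgroup.subtype_apply, _root_.Equiv.Perm.coe_inv, _root_.Function.comp_apply, _root_.Equiv.symm_apply_apply, _root_.Equiv.Perm.coe_one, _root_.CompTriple.comp_eq] using h1 (e x) (e y)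

end Im

theorem boxImp : BoxImp := by
  intro Ω _ _ b k f h7 hb hk hf
  obtain ⟨c, rfl⟩ : ∃ c, b = c + 1 := ⟨b - 1, by omega⟩
  have hn := card_fib f k hf
  rw [Nat.card_eq_fintype_card, Nat.card_eq_fintype_card, Fintype.card_fin] at hn
  have hpos : 0 < k * c := Nat.mul_pos (by omega) (by omega)
  have : NeZero (k * c) := ⟨hpos.ne'⟩
  let G := Multiplicative (ZMod (k * c))
  have hG : Nat.card G = k * c := by simp [G]
  obtain ⟨γ, hγ⟩ := IsCyclic.exists_monoid_generator (α := G)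
  have ho : orderOf γ = k * c := (orderOf_eq_card_of_forall_mem_powers hγ).trans hG
  let K := (powMonoidHom k : G →* G).ker
  have hK : Nat.card K = k := by rw [IsCyclic.card_powMonoidHom_ker, hG, Nat.gcd_mul_right_left]
  have hQ : Nat.card (Option (G ⧸ K)) = c + 1 := by
    have h1 := K.index_mul_card
    rw [hK, hG, mul_comm] at h1
    rw [Finite.card_option, ← index_eq_card, Nat.eq_of_mul_eq_mul_left (by omega) h1]
  let ε := Finite.equivFinOfCardEq hQ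
  have hB : Nat.card (Fin k) = k := by simp only [_root_.Nat.card_eq_fintype_card, _root_.Fintype.card_fin]
  have h1 : ∀ i, Nonempty ({a // f a = i} ≃ {y : Fin k ⊕ G // (ε ∘ Im.col K) y = i}) := fun i => by
    rw [← Finite.card_eq, hf]
    exact (hK.symm.trans (Im.card_col (B := Fin k) K (hB.trans hK.symm) (ε.symm i)).symm).trans
      (Nat.card_congr (Equiv.subtypeEquivRight fun y => ε.eq_symm_apply))
  let e := Equiv.ofFiberEquiv fun i => (h1 i).some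
  have h2 : f ∘ e.symm = ε ∘ Im.col K := funext fun y => by
    have := Equiv.ofFiberEquiv_map (fun i => (h1 i).some) (e.symm y)
    rw [Function.comp_apply, ← this]
    exact congrArg _ (e.apply_symm_apply y)
  have h3 : ∀ s : Perm (Fin k), Im.el s γ ∈ Par (f ∘ e.symm) := fun s x y => by
    rw [h2]
    simpa using Im.el_mem K s γ x y
  have h4 : ∀ x0 x y : Fin k, ∀ j, x ≠ y → (swap x y ^ j) x0 = x0 → k ≤ orderOf (γ ^ j) → Good (al (Par f)) := by
    intro x0 x y j h5 h6 h8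
    rcases Int.units_eq_one_or (sign (Equiv.mulLeft γ)) with h9 | h9
    · exact Im.good hf e hγ (c := 1) (x0 := x0) (by simp) hB h8 (hG ▸ dvd_mul_right k c)
        (by rw [Im.el, sign_sumCongr, h9]; simp) (h3 _)
    · exact Im.good hf e hγ h6 hB h8 (hG ▸ dvd_mul_right k c) (by rw [Im.el, sign_sumCongr, h9, sign_swap h5]; simp) (h3 _)
  rcases hk.eq_or_lt with rfl | h5
  · refine h4 0 0 1 2 (by decide) (by decide) ?_
    rw [orderOf_pow' _ two_ne_zero, ho, Nat.gcd_mul_right_left, Nat.mul_div_cancel_left _ two_pos]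
    omega
  · refine h4 ⟨0, by omega⟩ ⟨1, by omega⟩ ⟨2, h5⟩ 1 (by simp) (by
      rw [pow_one]
      exact swap_apply_of_ne_of_ne (by simp) (by simp)) ?_
    rw [pow_one, ho]
    exact Nat.le_mul_of_pos_right _ (by omega)

end Cfsg.Agent.N2.Alt
end

-- part: N2/Alt/Aff
section
/-!
# N2 (S3519), alternating groups: the affine groups (helper60)
-/

set_option autoImplicit false
set_option linter.unusedSectionVars false

namespace Cfsg.Agent.N2.Alt

open Equiv Equiv.Perm MulAction Subgroup Cfsg.Agent.FP3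

namespace Aff

variable {Ω : Type} [Fintype Ω] [DecidableEq Ω] {V : Subgroup (Perm Ω)}

/-- `V` is the group of translations in the coordinates `e` -/
def Co {K : Type} [AddCommGroup K] (e : K ≃ Ω) (V : Subgroup (Perm Ω)) : Prop :=
  ∀ σ, σ ∈ V ↔ ∃ k, ∀ x, σ (e x) = e (k + x)

theorem bij (hc : ∀ v ∈ V, ∀ w ∈ V, v * w = w * v) (htr : IsPretransitive V Ω) (ω : Ω) :
    Function.Bijective fun v : V => v.1 ω := by
  refine ⟨fun v w h => Subtype.ext (Equiv.ext fun x => ?_), fun x => htr.exists_smul_eq ω x⟩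
  obtain ⟨u, rfl⟩ := htr.exists_smul_eq ω x
  change (v.1 * u.1) ω = (w.1 * u.1) ω
  rw [hc _ v.2 _ u.2, hc _ w.2 _ u.2]
  exact congrArg u.1 h

theorem exists_addEquiv {p : ℕ} [hp : Fact p.Prime] (M : Type) [AddCommGroup M] [Finite M] (h : ∀ x : M, p • x = 0) :
    ∃ d, Nat.card M = p ^ d ∧ ∀ (K : Type) [AddCommGroup K] [Module (ZMod p) K] [Finite K], Nat.card K = p ^ d →
      Nonempty (K ≃+ M) := by
  have key : ∀ (K : Type) [AddCommGroup K] [Module (ZMod p) K] [Finite K],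
      Nat.card K = p ^ Module.finrank (ZMod p) K := fun K _ _ _ => by
    rw [Module.natCard_eq_pow_finrank (K := ZMod p), Nat.card_zmod]
  have key' : ∀ (K L : Type) [AddCommGroup K] [Module (ZMod p) K] [Finite K] [AddCommGroup L] [Module (ZMod p) L]
      [Finite L], Nat.card K = Nat.card L → Nonempty (K ≃+ L) := fun K L _ _ _ _ _ _ hK => by
    rw [key K, key L] at hK
    exact ⟨(LinearEquiv.ofFinrankEq K L (Nat.pow_right_injective hp.out.two_le hK)).toAddEquiv⟩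
  let _ : Module (ZMod p) M := AddCommGroup.zmodModule h
  exact ⟨_, key M, fun K _ _ _ hK => key' K M (hK.trans (key M).symm)⟩

theorem exists_coord {p : ℕ} (hp : p.Prime) (h1 : ∀ v ∈ V, v ^ p = 1) (hc : ∀ v ∈ V, ∀ w ∈ V, v * w = w * v)
    (htr : IsPretransitive V Ω) (ω : Ω) : ∃ d, Nat.card V = p ^ d ∧ ∀ (K : Type) [AddCommGroup K] [Module (ZMod p) K]
      [Finite K], Nat.card K = p ^ d → ∃ e : K ≃ Ω, Co e V := by
  have : Fact p.Prime := ⟨hp⟩
  let _ : CommGroup V := { (inferInstance : Group V) with mul_comm := fun a b => Subtype.ext (hc _ a.2 _ b.2) }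
  obtain ⟨d, h2, h3⟩ := exists_addEquiv (p := p) (Additive V) fun x => Subtype.ext (h1 _ x.toMul.2)
  refine ⟨d, h2, fun K _ _ _ hK => ?_⟩
  obtain ⟨θ⟩ := h3 K hK
  refine ⟨θ.toEquiv.trans (Equiv.ofBijective _ (bij hc htr ω)),
    fun σ => ⟨fun hσ => ⟨θ.symm (.ofMul ⟨σ, hσ⟩), fun x => ?_⟩, ?_⟩⟩
  · change _ = (θ (_ + x)).toMul.1 ω
    rw [map_add, θ.apply_symm_apply]
    rfl
  · rintro ⟨k, hk⟩
    have h3 : σ = (θ k).toMul.1 := Equiv.ext fun y => by
      obtain ⟨x, rfl⟩ := (θ.toEquiv.trans (Equiv.ofBijective _ (bij hc htr ω))).surjective y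
      rw [hk]
      change (θ (k + x)).toMul.1 ω = _
      rw [map_add]
      rfl
    exact h3 ▸ (θ k).toMul.2

section lin

variable {K : Type} [AddCommGroup K] {e : K ≃ Ω}

theorem ext_e {σ τ : Perm Ω} (h : ∀ x, σ (e x) = τ (e x)) : σ = τ := Equiv.ext fun y => by
  obtain ⟨x, rfl⟩ := e.surjective y
  exact h x

theorem exists_lin (h : Co e V) (φ : K ≃+ K) : ∃ σ ∈ normalizer (V : Set (Perm Ω)), ∀ x, σ (e x) = e (φ x) := by
  have h1 : ∀ x, e.permCongr φ.toEquiv (e x) = e (φ x) := fun x => by simp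
  refine ⟨_, mem_normalizer_fintype fun n hn => ?_, h1⟩
  obtain ⟨k, hk⟩ := (h n).1 hn
  refine (h _).2 ⟨φ k, fun x => ?_⟩
  obtain ⟨y, rfl⟩ := φ.surjective x
  rw [mul_apply, mul_apply, ← h1, H427.piis, hk, h1, map_add]

/-- the fixed points of an affine map fixing the origin form a subgroup -/
theorem fix_add (h : Co e V) {σ : Perm Ω} (hσ : σ ∈ normalizer (V : Set (Perm Ω))) (h0 : σ (e 0) = e 0) {k x : K}
    (hk : σ (e k) = e k) (hx : σ (e x) = e x) : σ (e (k + x)) = e (k + x) := by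
  have h1 : ∀ y, e.permCongr (Equiv.addLeft k) (e y) = e (k + y) := fun y => by simp only [_root_.Equiv.permCongr_apply, _root_.Equiv.symm_apply_apply, _root_.Equiv.coe_addLeft]
  obtain ⟨k', hk'⟩ := (h _).1 ((mem_normalizer_iff.1 hσ _).1 ((h _).2 ⟨k, h1⟩))
  have h2 := hk' 0
  rw [← h0, mul_apply, mul_apply, H427.piis, h1, add_zero, add_zero, hk, e.apply_eq_iff_eq] at h2
  have h3 := hk' x
  rwa [← hx, mul_apply, mul_apply, H427.piis, h1, ← h2] at h3

end lin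

theorem card_al_le (H : Subgroup (Perm Ω)) : Nat.card (al H) ≤ Nat.card H :=
  Nat.card_le_card_of_injective (fun a => ⟨a.1.1, a.2⟩) fun _ _ h =>
    Subtype.ext (Subtype.ext (congrArg (fun x : H => x.1) h))

theorem card_alt (h : 7 ≤ Fintype.card Ω) : 2 * Nat.card (alternatingGroup Ω) = (Fintype.card Ω).factorial := by
  have : Nontrivial Ω := Fintype.one_lt_card_iff_nontrivial.1 (by omega)
  rw [two_mul_nat_card_alternatingGroup, Nat.card_perm, Nat.card_eq_fintype_card]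

theorem fin_le {H : Subgroup (Perm Ω)} (hP : Pr H) {c : ℕ} (hc : 2 * c ≤ ((Fintype.card Ω + 1) / 2).factorial) :
    c * Nat.card (al H) ≤ Nat.card (alternatingGroup Ω) := by
  have h1 := H427.bochert H hP.prim hP.nle
  rw [← card_alt hP.card] at h1
  have h2 := Nat.mul_le_mul (card_al_le H) hc
  linarith only [h1, h2]

theorem sq_mem (σ : Perm Ω) : σ * σ ∈ alternatingGroup Ω := by
  rw [mem_alternatingGroup, Perm.sign_mul, Int.units_mul_self]

/-! ### prime degree -/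

theorem good_prime {p : ℕ} (hp : p.Prime) (h1 : Nat.card V = p) (h2 : Fintype.card Ω = p)
    (he : V ≤ alternatingGroup Ω) : Good (al (normalizer (V : Set (Perm Ω)))) := by
  have : Fact p.Prime := ⟨hp⟩
  have hV : IsPGroup p V := IsPGroup.of_card (n := 1) (by rw [h1, pow_one])
  have hi : ¬ p ∣ V.index := fun h => by
    have h3 := V.card_mul_index
    rw [h1, Nat.card_perm, Nat.card_eq_fintype_card, h2, ← Nat.mul_factorial_pred hp.ne_zero,
      Nat.mul_right_inj hp.ne_zero] at h3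
    rw [h3, hp.dvd_factorial] at h
    have := hp.pos
    omega
  have : Nontrivial V := Finite.one_lt_card_iff_nontrivial.1 (h1 ▸ hp.one_lt)
  obtain ⟨a, ha⟩ := exists_ne (1 : V)
  refine good_of_one (a := ⟨a.1, he a.2⟩) (le_normalizer a.2) (fx_le_one fun t ht => ?_)
  have h3 : zpowers a = ⊤ := zpowers_eq_top_of_prime_card h1 ha
  have h4 : IsPGroup p (zpowers (t.1⁻¹ * a.1 * t.1)) := by
    rintro ⟨_, k, rfl⟩
    obtain ⟨j, hj⟩ := hV (a ^ k)
    refine ⟨j, Subtype.ext ?_⟩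
    have h5 := congrArg (fun x : V => MulAut.conj t.1⁻¹ x.1) hj
    simpa only [SubgroupClass.coe_pow, SubgroupClass.coe_zpow, map_pow, map_zpow, OneMemClass.coe_one, map_one,
      MulAut.conj_apply, inv_inv] using h5
  have h5 : t.1⁻¹ * a.1 * t.1 ∈ V :=
    ((h4.inf_normalizer_sylow (hV.toSylow hi)).le ⟨mem_zpowers _, ht⟩).2
  refine inv_mem_iff.1 (mem_normalizer_fintype (S := (V : Set (Perm Ω))) fun n hn => ?_)
  obtain ⟨k, hk⟩ := h3.ge (mem_top (⟨n, hn⟩ : V))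
  have h6 : n = a.1 ^ k := (congrArg Subtype.val hk).symm
  have h7 := zpow_mem h5 k
  rw [← inv_inv t.1, inv_inv t.1⁻¹, conj_zpow, ← h6] at h7
  exact h7

/-! ### Singer cycles -/

section sing

variable {K : Type} [Field K] [Finite K] {e : K ≃ Ω}

theorem exists_sing (h : Co e V) (g : Kˣ) : ∃ a ∈ al (normalizer (V : Set (Perm Ω))),
    ∀ x, a.1 (e x) = e ((g : K) ^ 2 * x) := by
  obtain ⟨σ, h1, h2⟩ := exists_lin h (DistribMulAction.toAddEquiv K g)
  refine ⟨⟨σ * σ, sq_mem σ⟩, mul_mem h1 h1, fun x => ?_⟩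
  change σ (σ (e x)) = _
  rw [h2, h2, pow_two, mul_assoc]
  rfl

variable {a : alternatingGroup Ω} {u : K} (ha : ∀ x, a.1 (e x) = e (u * x))
include ha

theorem cen_mul (c : centralizer ({a} : Set (alternatingGroup Ω))) (x : K) : c.1.1 (e (u * x)) = a.1 (c.1.1 (e x)) := by
  rw [← ha]
  exact (congrArg (fun s : alternatingGroup Ω => s.1 (e x)) (c.2 a rfl)).symm

theorem cen_zero (hu : u ≠ 1) (c : centralizer ({a} : Set (alternatingGroup Ω))) : c.1.1 (e 0) = e 0 := by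
  obtain ⟨y, hy⟩ := e.surjective (c.1.1 (e 0))
  have h1 := cen_mul ha c 0
  rw [mul_zero, ← hy, ha, e.apply_eq_iff_eq] at h1
  have h2 : (u - 1) * y = 0 := by linear_combination -h1
  rw [← hy, (mul_eq_zero.1 h2).resolve_left (sub_ne_zero.2 hu)]

theorem cen_pow {c c' : centralizer ({a} : Set (alternatingGroup Ω))} {x : K} (h : c.1.1 (e x) = c'.1.1 (e x)) (i : ℕ) :
    c.1.1 (e (u ^ i * x)) = c'.1.1 (e (u ^ i * x)) := by
  induction i with
  | zero => rwa [pow_zero, one_mul]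
  | succ i ih => rw [pow_succ', mul_assoc, cen_mul ha, cen_mul ha, ih]

theorem cn_two (hu : u ≠ 1) {g : K} (hg : ∀ x : K, x ≠ 0 → ∃ i, x = u ^ i * 1 ∨ x = u ^ i * g) :
    cn a ≤ Fintype.card Ω ^ 2 := by
  rw [pow_two, ← Fintype.card_prod, ← Nat.card_eq_fintype_card]
  refine Nat.card_le_card_of_injective (fun c => (c.1.1 (e 1), c.1.1 (e g))) fun c c' h =>
    Subtype.ext (Subtype.ext (ext_e (e := e) fun x => ?_))
  by_cases h0 : x = 0
  · rw [h0, cen_zero ha hu, cen_zero ha hu]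
  obtain ⟨i, rfl | rfl⟩ := hg x h0
  exacts [cen_pow ha (congrArg Prod.fst h) i, cen_pow ha (congrArg Prod.snd h) i]

theorem cn_one (hu : u ≠ 1) (hg : ∀ x : K, x ≠ 0 → ∃ i, x = u ^ i * 1) : cn a ≤ Fintype.card Ω - 1 := by
  rw [← Fintype.card_subtype_eq (e 0), ← Fintype.card_subtype_compl, ← Nat.card_eq_fintype_card]
  refine Nat.card_le_card_of_injective (fun c => ⟨c.1.1 (e 1), fun h => ?_⟩) fun c c' h =>
    Subtype.ext (Subtype.ext (ext_e (e := e) fun x => ?_))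
  · rw [← cen_zero ha hu c, c.1.1.apply_eq_iff_eq, e.apply_eq_iff_eq] at h
    exact one_ne_zero h
  by_cases h0 : x = 0
  · rw [h0, cen_zero ha hu, cen_zero ha hu]
  obtain ⟨i, rfl⟩ := hg x h0
  exact cen_pow ha (congrArg Subtype.val h) i

omit ha in
theorem exists_gen (h : 4 ≤ Nat.card K) : ∃ g : Kˣ, (g : K) ^ 2 ≠ 1 ∧ ∀ x : K, x ≠ 0 → ∃ i, x = (g : K) ^ i := by
  obtain ⟨g, hg⟩ := IsCyclic.exists_monoid_generator (α := Kˣ)
  refine ⟨g, fun h1 => ?_, fun x hx => ?_⟩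
  · have h2 := orderOf_dvd_of_pow_eq_one (Units.ext h1 : g ^ 2 = 1)
    rw [orderOf_eq_card_of_forall_mem_powers hg, Nat.card_units] at h2
    have := Nat.le_of_dvd two_pos h2
    omega
  · obtain ⟨i, hi⟩ := hg (Units.mk0 x hx)
    exact ⟨i, (congrArg Units.val hi).symm⟩

omit ha in
theorem num6 (m : ℕ) (h : 13 ≤ m) : 2 * ((2 * m) ^ 2) ^ 3 ≤ m.factorial := by
  induction m, h using Nat.le_induction with
  | base => decide
  | succ m hm ih =>
    rw [Nat.factorial_succ]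
    have h1 : (2 * (m + 1)) ^ 2 ≤ 2 * (2 * m) ^ 2 := by nlinarith
    have h2 := Nat.pow_le_pow_left h1 3
    rw [mul_pow 2 ((2 * m) ^ 2)] at h2
    nlinarith

omit ha in
theorem num3 (m : ℕ) (h : 8 ≤ m) : 2 * (2 * m) ^ 3 ≤ m.factorial := by
  induction m, h using Nat.le_induction with
  | base => decide
  | succ m hm ih =>
    rw [Nat.factorial_succ]
    have h2 := Nat.pow_le_pow_left (show 2 * (m + 1) ≤ 2 * (2 * m) by omega) 3
    rw [mul_pow 2 (2 * m)] at h2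
    nlinarith

omit ha in
theorem good_big (h : Co e V) (hP : Pr (normalizer (V : Set (Perm Ω)))) (h25 : 25 ≤ Fintype.card Ω) :
    Good (al (normalizer (V : Set (Perm Ω)))) := by
  obtain ⟨g, h1, h2⟩ := exists_gen (K := K) (by rw [Nat.card_congr e, Nat.card_eq_fintype_card]; omega)
  obtain ⟨a, ha, ha'⟩ := exists_sing h g
  refine good_of_cn ha (cn_two ha' h1 (g := g) fun x hx => ?_) (fin_le hP (le_trans ?_ (num6 _ (by omega))))
  · obtain ⟨i, rfl⟩ := h2 x hx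
    obtain ⟨j, rfl | rfl⟩ := Nat.even_or_odd' i
    exacts [⟨j, Or.inl (by ring)⟩, ⟨j, Or.inr (by ring)⟩]
  · exact Nat.mul_le_mul_left 2 (Nat.pow_le_pow_left (Nat.pow_le_pow_left (by omega) 2) 3)

omit ha in
theorem exists_two [CharP K 2] (h : Co e V) (h4 : 4 ≤ Fintype.card Ω) : ∃ u : K, u ≠ 0 ∧ u ≠ 1 ∧
    ∃ a ∈ al (normalizer (V : Set (Perm Ω))), (∀ x, a.1 (e x) = e (u * x)) ∧ cn a ≤ Fintype.card Ω - 1 := by
  obtain ⟨g, h1, h2⟩ := exists_gen (K := K) (by rwa [Nat.card_congr e, Nat.card_eq_fintype_card])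
  obtain ⟨a, ha, ha'⟩ := exists_sing h g
  refine ⟨_, pow_ne_zero 2 g.ne_zero, h1, a, ha, ha', cn_one ha' h1 fun x hx => ?_⟩
  obtain ⟨y, rfl⟩ := FiniteField.isSquare_of_char_two (ringChar.eq K 2) x
  obtain ⟨i, rfl⟩ := h2 y (left_ne_zero_of_mul hx)
  exact ⟨i, by ring⟩

omit ha in
theorem good_eight [CharP K 2] (h : Co e V) (hP : Pr (normalizer (V : Set (Perm Ω)))) (h8 : Fintype.card Ω = 8) :
    Good (al (normalizer (V : Set (Perm Ω)))) := by
  have : Fact (Nat.Prime 7) := ⟨by norm_num⟩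
  have : Fact (Nat.Prime 3) := ⟨by norm_num⟩
  have := Fintype.ofFinite K
  have hK : ∀ x : K, x ^ 8 = x := fun x => by rw [← h8, ← Fintype.card_congr e, FiniteField.pow_card]
  obtain ⟨u, h0, h1, a, ha, ha', hc⟩ := exists_two h (by omega)
  have hT : Nat.card (alternatingGroup Ω) = 20160 := by
    have h2 := card_alt hP.card
    rw [h8, show Nat.factorial 8 = 40320 from rfl] at h2
    omega
  have hu : u ^ 7 = 1 := mul_right_cancel₀ h0 (by rw [← pow_succ, hK, one_mul])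
  have o7 : orderOf a = 7 := orderOf_eq_prime (Subtype.ext (ext_e (e := e) fun x => by
      simp only [pow_succ, pow_zero, one_mul, Subgroup.coe_mul, mul_apply, ha', OneMemClass.coe_one, one_apply]
      congr 1
      linear_combination x * hu))
    fun h2 => h1 (by simpa only [h2, _root_.mul_one, _root_.OneMemClass.coe_one, _root_.Equiv.Perm.coe_one, _root_.id_eq, _root_.EmbeddingLike.apply_eq_iff_eq] using (ha' 1).symm)
  obtain ⟨σ, s1, s2⟩ := exists_lin h (frobeniusEquiv K 2).toAddEquiv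
  have s3 : ∀ x, σ (e x) = e (x ^ 2) := s2
  let f : alternatingGroup Ω := ⟨σ * σ, sq_mem σ⟩
  have hf : ∀ x, f.1 (e x) = e (x ^ 4) := fun x => by
    change σ (σ (e x)) = _
    rw [s3, s3, ← pow_mul]
  have o3 : orderOf f = 3 := orderOf_eq_prime (Subtype.ext (ext_e (e := e) fun x => by
      simp only [pow_succ f, pow_zero, one_mul, Subgroup.coe_mul, mul_apply, hf, OneMemClass.coe_one, one_apply]
      rw [← pow_mul, ← pow_mul, show 4 * (4 * 4) = 8 * 8 from rfl, pow_mul, hK, hK]))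
    fun h2 => h1 (by
      have h3 : u ^ 4 = u := by simpa only [h2, _root_.OneMemClass.coe_one, _root_.Equiv.Perm.coe_one, _root_.id_eq, _root_.EmbeddingLike.apply_eq_iff_eq] using (hf u).symm
      have h4 : u ^ 3 = 1 := mul_right_cancel₀ h0 (by rw [← pow_succ, h3, one_mul])
      linear_combination hu - (u ^ 4 + u) * h4)
  have hfa : f * a * f⁻¹ = a ^ 4 := by
    rw [mul_inv_eq_iff_eq_mul]
    refine Subtype.ext (ext_e (e := e) fun x => ?_)
    simp only [pow_succ a, pow_zero, one_mul, Subgroup.coe_mul, mul_apply, hf, ha']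
    congr 1
    ring
  have hR : Nat.card (zpowers a) = 7 := by rw [Nat.card_zpowers, o7]
  refine good_of_sylow ha le_rfl (p := 7) (by norm_num) (IsPGroup.of_card (n := 1) (by rw [hR, pow_one])) (fun h2 => ?_)
    (c := 2) ?_ (fin_le hP (by rw [h8]; decide))
  · have h3 := (zpowers a).relIndex_mul_index (zpowers_le.2 ha)
    have h4 := (zpowers a).card_mul_index
    rw [hR, hT, ← h3] at h4
    obtain ⟨k, hk⟩ := h2
    rw [hk, mul_assoc] at h4
    omega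
  have h2 : Nat.card (normalizer (zpowers a : Set (alternatingGroup Ω))) ≤ 6 * 7 := by
    let N := normalizer (zpowers a : Set (alternatingGroup Ω))
    let φ : N → {y : zpowers a // ¬ y = 1} := fun t => ⟨⟨t.1 * a * t.1⁻¹, (mem_normalizer_iff.1 t.2 a).1 (mem_zpowers a)⟩,
      fun h3 => by
        have h4 : t.1 * a * t.1⁻¹ = 1 := congrArg Subtype.val h3
        rw [conj_eq_one_iff] at h4
        rw [h4, orderOf_one] at o7
        omega⟩
    have h3 : Nat.card {y : zpowers a // ¬ y = 1} = 6 := by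
      classical
      have := Fintype.ofFinite (zpowers a)
      rw [Nat.card_eq_fintype_card, Fintype.card_subtype_compl, Fintype.card_subtype_eq, ← Nat.card_eq_fintype_card, hR]
    rw [h8] at hc
    refine le_trans ?_ (Nat.mul_le_mul h3.le hc)
    rw [cn, ← Nat.card_prod]
    refine Nat.card_le_card_of_injective (fun t : N => (φ t, ⟨(Function.invFun φ (φ t)).1⁻¹ * t.1, ?_⟩)) fun t t' h4 => ?_
    · have h4 : (Function.invFun φ (φ t)).1 * a * (Function.invFun φ (φ t)).1⁻¹ = t.1 * a * t.1⁻¹ :=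
        congrArg (·.1.1) (Function.invFun_eq (f := φ) ⟨t, rfl⟩)
      rw [mem_centralizer_singleton_iff]
      calc _ = (Function.invFun φ (φ t)).1⁻¹ * (t.1 * a * t.1⁻¹) * t.1 := by group
        _ = _ := by rw [← h4]; group
    · have h5 : φ t = φ t' := congrArg Prod.fst h4
      have h6 : (Function.invFun φ (φ t)).1⁻¹ * t.1 = (Function.invFun φ (φ t')).1⁻¹ * t'.1 := congrArg (·.2.1) h4
      rw [h5] at h6
      exact Subtype.ext (mul_left_cancel h6)
  have h3 : 21 ∣ Nat.card ↥(normalizer (zpowers a : Set (alternatingGroup Ω)) ⊓ al (normalizer (V : Set (Perm Ω)))) := by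
    refine Nat.Coprime.mul_dvd_of_dvd_of_dvd (m := 7) (n := 3) (by norm_num) ?_ ?_
    · rw [← o7]
      exact orderOf_dvd_natCard _ ⟨le_normalizer (mem_zpowers a), ha⟩
    · rw [← o3]
      refine orderOf_dvd_natCard _ ⟨mem_normalizer_fintype ?_, mul_mem s1 s1⟩
      rintro _ ⟨k, rfl⟩
      rw [← conj_zpow, hfa]
      exact zpow_mem (pow_mem (mem_zpowers a) 4) k
  have := Nat.le_of_dvd Nat.card_pos h3
  omega

end sing

/-! ### degree nine -/

/-- minus a transvection -/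
def φ₁ : ZMod 3 × ZMod 3 ≃+ ZMod 3 × ZMod 3 where
  toFun x := (x.1 + 2 * x.2, x.2)
  invFun x := (x.1 + x.2, x.2)
  left_inv := by decide
  right_inv := by decide
  map_add' := by decide +kernel

/-- a square root of minus one -/
def φ₂ : ZMod 3 × ZMod 3 ≃+ ZMod 3 × ZMod 3 where
  toFun x := (-x.2, x.1)
  invFun x := (x.2, -x.1)
  left_inv := by decide
  right_inv := by decide
  map_add' := by decide +kernel

/-- the element of order six -/
def ψ (x : ZMod 3 × ZMod 3) : ZMod 3 × ZMod 3 := (-x.1 - x.2, -x.2)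

theorem nine_cen (D : Perm (ZMod 3 × ZMod 3)) (h1 : ∀ x, D (ψ x) = ψ (D x)) (h2 : D (0, 1) = (0, 1)) :
    D = 1 ∨ D = swap (1, 0) (2, 0) := by
  have a1 : D (2, 2) = (2, 2) := (h1 (0, 1)).trans (congrArg ψ h2)
  have a2 : D (2, 1) = (2, 1) := (h1 (2, 2)).trans (congrArg ψ a1)
  have a3 : D (0, 2) = (0, 2) := (h1 (2, 1)).trans (congrArg ψ a2)
  have a4 : D (1, 1) = (1, 1) := (h1 (0, 2)).trans (congrArg ψ a3)
  have a5 : D (1, 2) = (1, 2) := (h1 (1, 1)).trans (congrArg ψ a4)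
  have a6 : D (0, 0) = (0, 0) := (by decide : ∀ z, z = ψ z → z = (0, 0)) _ (h1 (0, 0))
  have a7 : D (2, 0) = ψ (D (1, 0)) := h1 (1, 0)
  have a8 : D (1, 0) = ψ (D (2, 0)) := h1 (2, 0)
  have a9 : D (1, 0) ≠ (0, 0) := fun h => absurd (D.injective (h.trans a6.symm)) (by decide)
  have b : ∀ x : ZMod 3 × ZMod 3, x = (0, 0) ∨ x = (1, 0) ∨ x = (2, 0) ∨ x = (0, 1) ∨ x = (1, 1) ∨ x = (2, 1) ∨
    x = (0, 2) ∨ x = (1, 2) ∨ x = (2, 2) := by decide
  rw [a7] at a8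
  rcases (by decide : ∀ z, z = ψ (ψ z) → z ≠ (0, 0) → z = (1, 0) ∨ z = (2, 0)) _ a8 a9 with h | h <;> rw [h] at a7
  · refine Or.inl (Equiv.ext fun x => ?_)
    rcases b x with rfl | rfl | rfl | rfl | rfl | rfl | rfl | rfl | rfl <;> assumption
  · refine Or.inr (Equiv.ext fun x => ?_)
    rcases b x with rfl | rfl | rfl | rfl | rfl | rfl | rfl | rfl | rfl <;> assumption

theorem good_nine {e : ZMod 3 × ZMod 3 ≃ Ω} (h : Co e V) : Good (al (normalizer (V : Set (Perm Ω)))) := by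
  have h9 : Fintype.card Ω = 9 := by rw [← Fintype.card_congr e]; rfl
  obtain ⟨σ, s1, s2⟩ := exists_lin h φ₁
  obtain ⟨τ, t1, t2⟩ := exists_lin h φ₂
  let a : alternatingGroup Ω := ⟨τ * τ * (σ * σ), mul_mem (sq_mem τ) (sq_mem σ)⟩
  have ha : ∀ x, a.1 (e x) = e (ψ x) := fun x => by
    change τ (τ (σ (σ (e x)))) = _
    rw [s2, s2, t2, t2]
    exact congrArg e ((by decide : ∀ x, φ₂ (φ₂ (φ₁ (φ₁ x))) = ψ x) x)
  have hc : ∀ c : centralizer ({a} : Set (alternatingGroup Ω)), ∀ x,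
      e.symm.permCongr c.1.1 (ψ x) = ψ (e.symm.permCongr c.1.1 x) := fun c x => by
    apply e.injective
    rw [← ha, permCongr_apply, permCongr_apply, symm_symm, e.apply_symm_apply, e.apply_symm_apply, ← ha]
    exact (congrArg (fun s : alternatingGroup Ω => s.1 (e x)) (c.2 a rfl)).symm
  refine good_of_cn (a := a) (mul_mem (mul_mem t1 t1) (mul_mem s1 s1)) (c := 6) ?_ ?_
  · rw [show 6 = Nat.card {x : ZMod 3 × ZMod 3 // ψ (ψ x) ≠ x} by rw [Nat.card_eq_fintype_card]; rfl]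
    refine Nat.card_le_card_of_injective (fun c => ⟨e.symm.permCongr c.1.1 (0, 1), fun h1 => ?_⟩) fun c c' h1 => ?_
    · rw [← hc, ← hc, Equiv.apply_eq_iff_eq] at h1
      exact absurd h1 (by decide)
    · have h2 : c.1.1 (e (0, 1)) = c'.1.1 (e (0, 1)) := e.symm.injective (congrArg Subtype.val h1)
      rw [← inv_mul_eq_one]
      rcases nine_cen _ (hc (c⁻¹ * c')) (by
        change e.symm (c.1.1⁻¹ (c'.1.1 (e (0, 1)))) = _
        rw [← h2, H427.piis, e.symm_apply_apply]) with h3 | h3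
      · exact Subtype.ext (Subtype.ext (e.symm.permCongr.injective (h3.trans (by ext1 x; simp only [_root_.Equiv.Perm.coe_one, _root_.id_eq, _root_.OneMemClass.coe_one, _root_.Equiv.permCongr_apply, _root_.Equiv.symm_symm, _root_.Equiv.symm_apply_apply]))))
      · have h4 := sign_permCongr e.symm (c⁻¹ * c').1.1
        rw [h3, sign_swap (by decide), mem_alternatingGroup.1 (c⁻¹ * c').1.2] at h4
        exact absurd h4 (by decide)
  · have h1 : Nat.card (normalizer (V : Set (Perm Ω))) ≤ Nat.card (Ω × Ω × Ω) := by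
      refine Nat.card_le_card_of_injective (fun c => (c.1 (e 0), c.1 (e (1, 0)), c.1 (e (0, 1)))) fun c c' h1 => ?_
      rw [← inv_mul_eq_one]
      have key : ∀ x, c.1 (e x) = c'.1 (e x) → (c⁻¹ * c').1 (e x) = e x := fun x hx => by
        change c.1⁻¹ (c'.1 (e x)) = _
        rw [← hx, H427.piis]
      have a0 := key _ (congrArg (·.1) h1)
      have a1 := key _ (congrArg (·.2.1) h1)
      have a2 := key _ (congrArg (·.2.2) h1)
      have f := fun k x => fix_add h (c⁻¹ * c').2 a0 (k := k) (x := x)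
      have a3 := f _ _ a1 a1
      have a4 := f _ _ a2 a2
      refine Subtype.ext (ext_e (e := e) fun x => ?_)
      rcases (by decide : ∀ x : ZMod 3 × ZMod 3, x = 0 ∨ x = (1, 0) ∨ x = (0, 1) ∨ x = (1, 0) + (1, 0) ∨
        x = (0, 1) + (0, 1) ∨ x = (1, 0) + (0, 1) ∨ x = (1, 0) + ((0, 1) + (0, 1)) ∨ x = (1, 0) + (1, 0) + (0, 1) ∨
        x = (1, 0) + (1, 0) + ((0, 1) + (0, 1))) x with rfl | rfl | rfl | rfl | rfl | rfl | rfl | rfl | rfl
      exacts [a0, a1, a2, a3, a4, f _ _ a1 a2, f _ _ a1 a4, f _ _ a3 a2, f _ _ a3 a4]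
    have h2 := card_alt (Ω := Ω) (by omega)
    have h3 := card_al_le (normalizer (V : Set (Perm Ω)))
    rw [Nat.card_prod, Nat.card_prod, Nat.card_eq_fintype_card (α := Ω), h9] at h1
    rw [h9, show Nat.factorial 9 = 362880 from rfl] at h2
    omega

end Aff

open Aff in
/-- **[Aff]** -/
theorem boxAff : BoxAff := by
  intro Ω _ _ V p hp h1 hc hN
  have : Fact p.Prime := ⟨hp⟩
  have h7 := hN.card
  obtain ⟨ω⟩ : Nonempty Ω := Fintype.card_pos_iff.1 (by omega)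
  obtain ⟨d, hd, hK⟩ := exists_coord hp h1 hc hN.tr ω
  have hn : Fintype.card Ω = p ^ d := by
    rw [← hd, ← Nat.card_eq_fintype_card]
    exact (Nat.card_eq_of_bijective _ (bij hc hN.tr ω)).symm
  obtain rfl | rfl | h2 : d = 0 ∨ d = 1 ∨ 2 ≤ d := by omega
  · rw [pow_zero] at hn
    omega
  · exact good_prime hp (by rw [hd, pow_one]) (by rw [hn, pow_one]) hN.even
  obtain ⟨e, he⟩ := hK (GaloisField p d) (GaloisField.card p d (by omega))
  by_cases h25 : 25 ≤ Fintype.card Ω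
  · exact good_big he hN.toPr h25
  have h5 : p < 5 := by
    by_contra h5
    exact h25 (hn ▸ (Nat.pow_le_pow_left (not_lt.1 h5) 2).trans (Nat.pow_le_pow_right hp.pos h2))
  obtain rfl | rfl : p = 2 ∨ p = 3 := by
    have := hp.two_le
    have : p ≠ 4 := fun h => absurd (h ▸ hp) (by decide)
    omega
  · by_cases h3 : d ≤ 3
    · refine good_eight he hN.toPr ?_
      obtain rfl | rfl : d = 2 ∨ d = 3 := by omega
      · omega
      · exact hn
    · have h16 : 16 ≤ Fintype.card Ω := hn ▸ Nat.pow_le_pow_right (n := 2) (i := 4) two_pos (by omega)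
      obtain ⟨u, -, -, a, ha, -, h4⟩ := exists_two he (by omega)
      exact good_of_cn ha h4 (fin_le hN.toPr (le_trans
        (Nat.mul_le_mul_left 2 (Nat.pow_le_pow_left (by omega) 3)) (num3 _ (by omega))))
  · obtain rfl : d = 2 := by
      by_contra h3
      exact h25 (hn ▸ le_trans (by norm_num) (Nat.pow_le_pow_right (n := 3) (i := 3) (by norm_num) (by omega)))
    obtain ⟨e', he'⟩ := hK (ZMod 3 × ZMod 3) (by rw [Nat.card_prod, Nat.card_zmod]; rfl)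
    exact good_nine he'

end Cfsg.Agent.N2.Alt
end

-- part: N2/Alt/Frame
section
/-!
# N2 (S3519): the row of the alternating groups from the box `NA` (helper42)
-/

set_option autoImplicit false
set_option linter.unusedSectionVars false

namespace Cfsg.Agent.N2.Alt

open Equiv Equiv.Perm MulAction Subgroup Cfsg.Agent.FP3 Cfsg.Agent.TH.Alt
open scoped Pointwise

namespace Fr

variable {Ω ι : Type} [Fintype Ω] [DecidableEq Ω]

theorem not_le_Par (h4 : 4 ≤ Fintype.card Ω) {f : Ω → ι} {x x' y : Ω} (h1 : x' ≠ x) (h2 : f x' = f x) (h3 : f y ≠ f x) :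
    ¬ alternatingGroup Ω ≤ Par f := by
  obtain ⟨w, hw⟩ : ∃ w, w ∉ ({x, x', y} : Finset Ω) := by
    by_contra h
    push Not at h
    have h5 := Finset.card_le_card (fun w _ => h w : Finset.univ ⊆ ({x, x', y} : Finset Ω))
    have h6 := Finset.card_le_three (a := x) (b := x') (c := y)
    rw [Finset.card_univ] at h5
    omega
  simp only [Finset.mem_insert, Finset.mem_singleton, not_or] at hw
  have hy : y ≠ x' := fun h => h3 (h ▸ h2)
  have hy' : y ≠ x := fun h => h3 (h ▸ rfl)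
  intro h
  have h5 := (h (x := swap x' w * swap x' y) (by
    rw [mem_alternatingGroup, map_mul, sign_swap (Ne.symm hw.2.1), sign_swap hy.symm]
    simp) x' x).2 h2
  rw [mul_apply, mul_apply, swap_apply_left, swap_apply_of_ne_of_ne hy (Ne.symm hw.2.2), swap_apply_of_ne_of_ne h1.symm hy'.symm,
    swap_apply_of_ne_of_ne h1.symm (Ne.symm hw.1)] at h5
  exact h3 h5

theorem not_le_fib (h4 : 4 ≤ Fintype.card Ω) {b k : ℕ} {f : Ω → Fin b} (hb : 2 ≤ b) (hk : 2 ≤ k)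
    (hf : ∀ i, Nat.card {a // f a = i} = k) : ¬ alternatingGroup Ω ≤ Par f := by
  obtain ⟨x, x', h1⟩ := (Finite.one_lt_card_iff_nontrivial.1 (hf ⟨0, by omega⟩ ▸ hk)).exists_pair_ne
  obtain ⟨y⟩ := (Nat.card_pos_iff.1 (hf ⟨1, hb⟩ ▸ (by omega : 0 < k))).1
  exact not_le_Par h4 (x := x'.1) (x' := x.1) (y := y.1) (fun h => h1 (Subtype.ext h)) (x.2.trans x'.2.symm)
    (by rw [y.2, x'.2]; simp)

/-- a transitive imprimitive group preserves a partition -/
theorem exists_Par {H : Subgroup (Perm Ω)} [IsPretransitive H Ω] (h : ¬ IsPreprimitive H Ω) :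
    ∃ (b k : ℕ) (f : Ω → Fin b), 2 ≤ b ∧ 2 ≤ k ∧ (∀ i, Nat.card {a // f a = i} = k) ∧ H ≤ Par f := by
  obtain ⟨B, hB, h3⟩ : ∃ B : Set Ω, IsBlock H B ∧ ¬ IsTrivialBlock B := by
    by_contra h3
    push Not at h3
    exact h ⟨fun hB => h3 _ hB⟩
  rw [IsTrivialBlock, not_or, Set.not_subsingleton_iff] at h3
  have h0 := h3.1.nonempty
  have h1 := (hB.isBlockSystem h0).1.2
  choose g hg hg' using h1
  let g' : Ω → orbit H B := fun x => ⟨g x, (hg x).1⟩
  have h2 : ∀ (x : Ω) (C : orbit H B), g' x = C ↔ x ∈ C.1 := fun x C =>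
    ⟨fun h => h ▸ (hg x).2, fun h => Subtype.ext (hg' x C.1 ⟨C.2, h⟩).symm⟩
  let ε := Finite.equivFin (orbit H B)
  have h4 := hB.ncard_block_mul_ncard_orbit_eq h0
  have h5 : B.ncard < Nat.card Ω := by
    rw [← Set.ncard_univ]
    exact Set.ncard_lt_ncard (Set.ssubset_univ_iff.2 h3.2)
  refine ⟨_, B.ncard, ε ∘ g', ?_, Set.one_lt_ncard_iff_nontrivial.2 h3.1, fun i => ?_, fun σ hσ x y => ?_⟩
  · rw [Nat.card_coe_set_eq]
    by_contra h6
    have := Nat.mul_le_mul_left B.ncard (by omega : (orbit H B).ncard ≤ 1)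
    omega
  · obtain ⟨t, ht⟩ := (ε.symm i).2
    rw [← Set.ncard_smul_set t B, ← Nat.card_coe_set_eq]
    refine Nat.card_congr (Equiv.subtypeEquivRight fun x => ?_)
    rw [Function.comp_apply, ← ε.eq_symm_apply, h2, ← ht]
  · have h6 : ∀ z, g' (σ z) = (⟨σ, hσ⟩ : H) • g' z := fun z =>
      (h2 _ _).2 ((Set.smul_mem_smul_set (a := (⟨σ, hσ⟩ : H)) (hg z).2 :))
    simp only [Function.comp_apply, ε.apply_eq_iff_eq, h6, smul_left_cancel_iff]

theorem exists_min {G : Type*} [Group G] [Finite G] (C : Subgroup G) [C.Normal] (hC : C ≠ ⊥) :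
    ∃ M : Subgroup G, M.Normal ∧ M ≤ C ∧ M ≠ ⊥ ∧ ∀ M' : Subgroup G, M'.Normal → M' ≤ M → M' = ⊥ ∨ M' = M := by
  have hfin : {M : Subgroup G | M.Normal ∧ M ≤ C ∧ M ≠ ⊥}.Finite := Set.toFinite _
  obtain ⟨M, ⟨h1, h2, h3⟩, h4⟩ := hfin.exists_minimal ⟨C, inferInstance, le_rfl, hC⟩
  refine ⟨M, h1, h2, h3, fun M' hM' hle => ?_⟩
  by_cases h : M' = ⊥
  · exact Or.inl h
  · exact Or.inr (le_antisymm hle (h4 ⟨hM', hle.trans h2, h⟩ hle))

/-- an abelian minimal normal subgroup is elementary abelian -/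
theorem exists_exp {G : Type*} [Group G] [Finite G] {N : Subgroup G} [hN : N.Normal] (h0 : N ≠ ⊥)
    (hm : ∀ M : Subgroup G, M.Normal → M ≤ N → M = ⊥ ∨ M = N) (hc : ∀ x ∈ N, ∀ y ∈ N, Commute x y) :
    ∃ p : ℕ, p.Prime ∧ ∀ x ∈ N, x ^ p = 1 := by
  obtain ⟨p, hp, h1⟩ := Nat.exists_prime_and_dvd (fun h => h0 (card_eq_one.1 h))
  have : Fact p.Prime := ⟨hp⟩
  obtain ⟨z, hz⟩ := exists_prime_orderOf_dvd_card' p h1
  let M : Subgroup G :=
    { carrier := {x | x ∈ N ∧ x ^ p = 1}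
      mul_mem' := fun {a b} ha hb => ⟨N.mul_mem ha.1 hb.1, by rw [(hc a ha.1 b hb.1).mul_pow, ha.2, hb.2, one_mul]⟩
      one_mem' := ⟨N.one_mem, one_pow p⟩
      inv_mem' := fun {a} ha => ⟨N.inv_mem ha.1, by rw [inv_pow, ha.2, inv_one]⟩ }
  rcases hm M ⟨fun a ha g => ⟨hN.conj_mem a ha.1 g, by rw [conj_pow, ha.2]; simp⟩⟩ (fun a ha => ha.1) with h | h
  · have h2 : z.1 ∈ M := ⟨z.2, by rw [← hz, ← Subgroup.coe_pow, pow_orderOf_eq_one]; rfl⟩
    rw [h, mem_bot, OneMemClass.coe_eq_one] at h2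
    exact absurd (by rw [← hz, h2, orderOf_one]) hp.ne_one
  · exact ⟨p, hp, fun x hx => (h.ge hx).2⟩

theorem prim_mono {H K : Subgroup (Perm Ω)} (h : H ≤ K) (hp : IsPreprimitive H Ω) : IsPreprimitive K Ω :=
  IsPreprimitive.of_surjective (M := H) (N := K) (φ := inclusion h) (f := ⟨id, fun _ _ => rfl⟩) Function.surjective_id

/-- the maximal subgroups of the symmetric and the alternating group -/
theorem good_of_max (hNA : BoxNA) (h7 : 7 ≤ Fintype.card Ω) {H : Subgroup (Perm Ω)} (hA : ¬ alternatingGroup Ω ≤ H)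
    (h0 : al H ≠ ⊥) (hmax : ∀ K, H ≤ K → ¬ alternatingGroup Ω ≤ K → al K = al H) : Good (al H) := by
  have imp : ∀ (b k : ℕ) (f : Ω → Fin b), 2 ≤ b → 2 ≤ k → (∀ i, Nat.card {a // f a = i} = k) → H ≤ Par f → Good (al H) :=
    fun b k f h1 h2 h3 h4 => hmax _ h4 (not_le_fib (by omega) h1 h2 h3) ▸ boxImp Ω b k f h7 h1 h2 h3
  by_cases h1 : IsPretransitive H Ω
  swap
  · obtain ⟨O, h2, h3, h4⟩ := TH.Sim.Al.exists_SW h1
    have hc := Finset.card_add_card_compl O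
    rcases h3.eq_or_lt with h5 | h5
    · refine imp 2 O.card (fun a => if a ∈ O then 0 else 1) le_rfl (by omega) (fun i => ?_) fun σ hσ x y => ?_
      · have h6 : ∀ S : Finset Ω, S.card = Nat.card S := fun S => by simp only [_root_.Nat.card_eq_fintype_card, _root_.Fintype.card_coe]
        obtain rfl | rfl : i = 0 ∨ i = 1 := by omega
        · rw [h6]
          exact Nat.card_congr (Equiv.subtypeEquivRight fun x => by simp)
        · rw [show O.card = Oᶜ.card by omega, h6]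
          exact Nat.card_congr (Equiv.subtypeEquivRight fun x => by simp)
      · simp only [h4 hσ x, h4 hσ y]
    · refine hmax _ h4 (fun h6 => ?_) ▸ boxIntr Ω O h7 h2 h5
      have h8 := index_SW (Γ := alternatingGroup Ω) le_rfl (by omega) O
      rw [subgroupOf_eq_top.2 h6, index_top, eq_comm, Nat.choose_eq_one_iff] at h8
      omega
  by_cases h2 : IsPreprimitive H Ω
  swap
  · obtain ⟨b, k, f, h3, h4, h5, h6⟩ := exists_Par h2
    exact imp b k f h3 h4 h5 h6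
  obtain ⟨N, hN, h3, h4, h5⟩ := exists_min ((alternatingGroup Ω).subgroupOf H) fun h => h0 (by
    rw [eq_bot_iff] at h ⊢
    intro a ha
    have h3 : (⟨a.1, ha⟩ : H) = 1 := mem_bot.1 (h (x := ⟨a.1, ha⟩) a.2)
    exact mem_bot.2 (Subtype.ext (congrArg (fun z : H => z.1) h3)))
  have h6 : IsPretransitive N Ω := IsQuasiPreprimitive.isPretransitive_of_normal (G := H) fun h => h4 (by
    rw [eq_bot_iff]
    intro a ha
    exact mem_bot.2 (Subtype.ext (Equiv.ext fun x => (h.ge (Set.mem_univ x)) ⟨a, ha⟩)))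
  have h8 : NF H (N.map H.subtype) :=
    { card := h7
      prim := h2
      nle := hA
      le := map_subtype_le N
      even := by
        rintro _ ⟨a, ha, rfl⟩
        exact h3 ha
      tr := ⟨fun x y => by
        obtain ⟨g, hg⟩ := _root_.MulAction.exists_smul_eq N x y
        exact ⟨⟨g.1.1, g.1, g.2, rfl⟩, hg⟩⟩ }
  by_cases h9 : ∀ x ∈ N, ∀ y ∈ N, Commute x y
  swap
  · exact hNA Ω H N h8 h5 h9
  obtain ⟨p, hp, h10⟩ := exists_exp h4 h5 h9
  have h11 : H ≤ normalizer (N.map H.subtype : Set (Perm Ω)) := by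
    have := le_normalizer_map (H := N) H.subtype
    rwa [normalizer_eq_top, ← MonoidHom.range_eq_map, range_subtype] at this
  have h12 : ∀ v ∈ N.map H.subtype, ∀ w ∈ N.map H.subtype, v * w = w * v := by
    rintro _ ⟨a, ha, rfl⟩ _ ⟨b, hb, rfl⟩
    exact congrArg Subtype.val (h9 a ha b hb).eq
  have h13 : ¬ alternatingGroup Ω ≤ normalizer (N.map H.subtype : Set (Perm Ω)) := fun h => by
    have hs : IsSimpleGroup (alternatingGroup Ω) := alternatingGroup.isSimpleGroup (by simp only [_root_.Nat.card_eq_fintype_card]; omega)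
    rcases ((normal_subgroupOf_iff_le_normalizer h8.even).2 h).eq_bot_or_eq_top with h14 | h14
    · rw [subgroupOf_eq_bot, disjoint_iff, inf_eq_left.2 h8.even, map_eq_bot_iff_of_injective _ H.subtype_injective] at h14
      exact h4 h14
    · exact hA ((subgroupOf_eq_top.1 h14).trans h8.le)
  refine hmax _ h11 h13 ▸ boxAff Ω _ p hp ?_ h12
    { card := h7
      prim := prim_mono h11 h2
      nle := h13
      le := le_normalizer
      even := h8.even
      tr := h8.tr }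
  rintro _ ⟨a, ha, rfl⟩
  exact congrArg Subtype.val (h10 a ha)

theorem as_big (hNA : BoxNA) {n : ℕ} (h7 : 7 ≤ n) : ASRow (alternatingGroup (Fin n)) := by
  intro A Γ h
  have hb := S2119.result n (by omega) (by omega)
  let H : Subgroup (Perm (Fin n)) := Γ.comap MulAut.conjNormal
  have h1 : al H = A := by
    ext a
    rw [← h.conj a]
    exact iff_of_eq (congrArg (· ∈ Γ) (MulAut.conjNormal_val (h := a)))
  rw [← h1]
  refine good_of_max hNA (by simpa only [_root_.Fintype.card_fin] using h7) (fun h2 => h.ne_top (h1 ▸ subgroupOf_eq_top.2 h2)) (h1 ▸ h.ne_bot)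
    fun K h2 h3 => ?_
  rcases h.max (al K) (h1 ▸ fun a ha => h2 ha) (fun σ hσ b hb' => by
    obtain ⟨t, rfl⟩ := hb.2 σ
    exact K.mul_mem (K.mul_mem (h2 hσ) hb') (K.inv_mem (h2 hσ))) with h4 | h4
  · exact h4.trans h1.symm
  · exact absurd (subgroupOf_eq_top.1 h4) h3

end Fr

/-- **the row of the alternating groups** from the box `NA` -/
theorem as_alt_of (hNA : BoxNA) {T : Type*} [Group T] (h : IsAlternating T) : ASRow T := by
  obtain ⟨n, hn, ⟨e⟩⟩ := h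
  refine asRow_congr e.symm ?_
  obtain rfl | rfl | h7 : n = 5 ∨ n = 6 ∨ 7 ≤ n := by omega
  · have : Fact (Nat.Prime 5) := ⟨by norm_num⟩
    obtain ⟨f⟩ := S0253.result (F := ZMod 5) (by simp)
    exact asRow_congr f (as_psl2 _ (by simp))
  · have : Fact (Nat.Prime 3) := ⟨by norm_num⟩
    have := Fintype.ofFinite (GaloisField 3 2)
    have h9 : Fintype.card (GaloisField 3 2) = 9 := by
      rw [← Nat.card_eq_fintype_card, GaloisField.card 3 2 (by norm_num)]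
      norm_num
    obtain ⟨f⟩ := S0254.result h9
    exact asRow_congr f (as_psl2 _ (by omega))
  · exact Fr.as_big hNA h7

end Cfsg.Agent.N2.Alt
end

private theorem dce_88dfc0842245 : _root_.True := by
  try have : _root_.True := by simp only [_root_.Cfsg.Agent.N2.cn.eq_1]
  try have : _root_.True := by simp only [_root_.Cfsg.Agent.N2.Alt.Im.el.eq_1]
  exact _root_.True.intro
end

-- part: N2/Sp1/Fin
section
set_option linter.all false
open scoped Cfsg.Agent.FastGrp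

-- part: N2/Sp1/Grp
section
/-!
# N2 (S3519), sporadic groups: the groups of order 60, 360, 960 with elements of prime power order (helper45)
-/

set_option autoImplicit false

namespace Cfsg.Agent.N2.Sp1

open Cfsg Subgroup Cfsg.Agent.N2.Sp2 Cfsg.Agent.N2.Tg

/-- the number of the solutions of `x ^ d = 1` -/
noncomputable def nq (G : Type*) [Group G] (d : ℕ) : ℕ := Nat.card {x : G // orderOf x ∣ d}

variable {G : Type*} [Group G] [Finite G]

theorem nq_le (K : Subgroup G) [K.Normal] {d : ℕ} (h : K.index.Coprime d) : nq G d ≤ Nat.card K :=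
  Nat.card_le_card_of_injective (β := K) (fun x => ⟨x.1, by
    obtain ⟨m, hm⟩ := exists_pow_eq_self_of_coprime (h.coprime_dvd_right x.2)
    exact hm ▸ K.pow_mem (K.pow_index_mem x.1) m⟩) fun _ _ e => Subtype.ext (congrArg Subtype.val e :)

theorem normal_of_nq (P : Subgroup G) (h : nq G (Nat.card P) ≤ Nat.card P) : P.Normal := by
  have h1 := Function.Injective.bijective_of_nat_card_le (β := {x : G // orderOf x ∣ Nat.card P})
    (f := fun x : P => ⟨x.1, P.orderOf_dvd_natCard x.2⟩) (fun _ _ e => Subtype.ext (congrArg Subtype.val e :)) h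
  refine ⟨fun x hx g => ?_⟩
  obtain ⟨y, hy⟩ := h1.2 ⟨g * x * g⁻¹, by rw [ord_conj]; exact P.orderOf_dvd_natCard hx⟩
  have h3 : y.1 = g * x * g⁻¹ := congrArg Subtype.val hy
  exact h3 ▸ y.2

theorem simple_of [Nontrivial G] (hn : Nat.card G ∣ 2880) (hc : ∀ r, r.Prime → pCore r G = ⊥)
    (h5 : Nat.card G < 3 * nq G 5) (h15 : Nat.card G < 2 * nq G 15) : IsSimpleGroup G := by
  refine ⟨fun K hK => or_iff_not_imp_left.2 fun h0 => ?_⟩
  have h1 := K.card_mul_index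
  have h2 : 0 < Nat.card K := Nat.card_pos
  by_cases h3 : 5 ∣ Nat.card K
  · have h4 := nq_le K ((Nat.prime_five.coprime_iff_not_dvd.2 fun e =>
      absurd ((Nat.mul_dvd_mul h3 e).trans (h1 ▸ hn)) (by decide)).symm)
    have h6 : K.index < 3 := Nat.lt_of_mul_lt_mul_left (a := Nat.card K) (by omega)
    have h7 : K.index ≠ 0 := index_ne_zero_of_finite
    have h8 := nq_le K (d := 15) (by revert h7; interval_cases K.index <;> decide)
    have h9 : K.index < 2 := Nat.lt_of_mul_lt_mul_left (a := Nat.card K) (by omega)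
    exact index_eq_one.1 (by omega)
  · have := (nontrivial_iff_ne_bot K).2 h0
    obtain ⟨r, h4, -, h6⟩ := exists_core (G := K) Nat.prime_two Nat.prime_three (a := 6) (b := 2)
      ((Nat.prime_five.coprime_iff_not_dvd.2 h3).symm.dvd_of_dvd_mul_left (K.card_subgroup_dvd_card.trans hn))
    have := Lib.Cores.pCore_characteristic (G := K) r
    have h7 := Lib.Cores.le_pCore (N := (pCore r K).map K.subtype) inferInstance
      ((Lib.Cores.pCore_isPGroup r).map _)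
    rw [hc r h4, le_bot_iff, map_eq_bot_iff_of_injective _ K.subtype_injective] at h7
    exact absurd h7 h6

theorem core16 (hE : Ep G) (h1 : 60 ∣ Nat.card G) (hn : Nat.card G ∣ 2880) {r : ℕ} (hr : r.Prime) (h0 : pCore r G ≠ ⊥) :
    Nat.card (pCore r G) = 16 := by
  have := Fact.mk hr
  have := Lib.Cores.pCore_characteristic (G := G) r
  have hQ := Lib.Cores.pCore_isPGroup (G := G) r
  obtain ⟨j, hj⟩ := IsPGroup.iff_card.1 hQ
  have h2 : j ≠ 0 := fun e => h0 (card_eq_one.1 (by rw [hj, e, pow_zero]))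
  have h3 : r ^ j ∣ 2880 := hj ▸ (card_subgroup_dvd_card _).trans hn
  have h4 : ∀ m, m ∣ 60 → ¬ r ∣ m → m ∣ r ^ j - 1 := fun m k1 k2 => hj ▸ hE.dvd_loc hQ (k1.trans h1) k2
  have h5 : j < 12 := (Nat.pow_lt_pow_iff_right one_lt_two).1
    ((Nat.pow_le_pow_left hr.two_le j).trans_lt ((Nat.le_of_dvd (by decide) h3).trans_lt (by decide)))
  have h6 : r ∣ 2 ^ 6 * 3 ^ 2 * 5 := (dvd_pow_self r h2).trans h3
  rw [hj]
  rcases hr.dvd_mul.1 h6 with h7 | h7
  · rcases hr.dvd_mul.1 h7 with h7 | h7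
    · obtain rfl := (Nat.prime_dvd_prime_iff_eq hr Nat.prime_two).1 (hr.dvd_of_dvd_pow h7)
      have h8 := h4 15 (by decide) (by decide)
      revert h2 h3 h8
      interval_cases j <;> decide
    · obtain rfl := (Nat.prime_dvd_prime_iff_eq hr Nat.prime_three).1 (hr.dvd_of_dvd_pow h7)
      have h8 := h4 20 (by decide) (by decide)
      revert h2 h3 h8
      interval_cases j <;> decide
  · obtain rfl := (Nat.prime_dvd_prime_iff_eq hr Nat.prime_five).1 h7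
    have h8 := h4 12 (by decide) (by decide)
    revert h2 h3 h8
    interval_cases j <;> decide

/-- a generating pair with exact orders -/
def Tp (G : Type*) [Group G] (b : ℕ) : Prop :=
  ∃ x y : G, orderOf x = b ∧ orderOf y = 2 ∧ orderOf (x * y) = 5 ∧ closure ({x, y} : Set G) = ⊤

theorem tp_of [IsSimpleGroup G] (h5 : Nat.card G ≠ 5) {b : ℕ} (hb : b = 3 ∨ b = 4) (h : Tri G 2 b 5) : Tp G b := by
  obtain ⟨y, x, h1, h2, h3, h4⟩ := h
  have h6 : orderOf (x * y) = 5 := by rw [← h3, ← ord_conj (y * x) x, mul_assoc, mul_assoc, mul_inv_cancel, mul_one]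
  have h7 : y ≠ 1 := fun e => by
    rw [e, one_mul] at h3
    have := h3 ▸ orderOf_dvd_of_pow_eq_one h2
    omega
  have h8 : ¬ x ^ 2 = 1 := fun e => by
    have k1 : x⁻¹ = x := inv_eq_of_mul_eq_one_left (by rw [← pow_two, e])
    have k2 : y⁻¹ = y := inv_eq_of_mul_eq_one_left (by rw [← pow_two, h1])
    have k3 : (zpowers (x * y)).Normal := by
      rw [← normalizer_eq_top_iff, eq_top_iff, ← h4, closure_le]
      have k4 : ∀ g : G, g * (x * y) * g⁻¹ = (x * y)⁻¹ → g ∈ normalizer (zpowers (x * y) : Set G) := fun g hg =>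
        mem_normalizer_fintype fun _ ⟨k, hk⟩ => by
          rw [← hk, ← conj_zpow, hg]
          exact zpow_mem (inv_mem (mem_zpowers _)) k
      rintro _ (rfl | rfl)
      · exact k4 _ (by rw [mul_inv_rev, k1, mul_assoc, mul_assoc, mul_inv_cancel, mul_one, k2])
      · exact k4 _ (by rw [mul_inv_rev, ← mul_assoc, ← k2, ← k1, inv_inv, inv_inv, ← k1, inv_inv, ← pow_two, e, one_mul, k1, k2])
    rcases k3.eq_bot_or_eq_top with k4 | k4
    · rw [zpowers_eq_bot.1 k4, orderOf_one] at h6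
      omega
    · exact h5 (by rw [← card_top, ← k4, Nat.card_zpowers, h6])
  refine ⟨x, y, ?_, orderOf_eq_prime h1 h7, h6, by rw [Set.pair_comm, h4]⟩
  rcases hb with rfl | rfl
  · exact orderOf_eq_prime h2 fun e => h8 (by rw [e, one_pow])
  · exact orderOf_eq_prime_pow (p := 2) (n := 1) h8 h2

/-- **the three orders** -/
theorem three (hE : Ep G) (hn : Nat.card G ∈ [60, 360, 960]) (h5 : Nat.card G < 3 * nq G 5)
    (h15 : Nat.card G < 2 * nq G 15) :
    (center G = ⊥ ∧ Nat.card G ≠ 960 ∧ Tp G (if Nat.card G = 60 then 3 else 4)) ∨ (Nat.card G = 960 ∧ ∃ B : Subgroup G, Nat.card B = 80) := by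
  simp only [List.mem_cons, List.not_mem_nil, or_false] at hn
  have h1 : 60 ∣ Nat.card G ∧ Nat.card G ∣ 2880 := by rcases hn with e | e | e <;> rw [e] <;> decide
  by_cases hc : ∀ r, r.Prime → pCore r G = ⊥
  · have : Nontrivial G := Finite.one_lt_card_iff_nontrivial.1 (by omega)
    have := simple_of h1.2 hc h5 h15
    have h2 : ¬ IsMulCommutative G := Classification.SimpleIndex.not_comm_of_not_prime fun e => by
      have := e.eq_one_or_self_of_dvd 2 (Nat.dvd_trans (by decide) h1.1)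
      omega
    refine .inl ⟨(inferInstance : (center G).Normal).eq_bot_or_eq_top.resolve_right fun e =>
      h2 ⟨⟨fun a b => mem_center_iff.1 (e.ge (mem_top b)) a⟩⟩, ?_⟩
    rcases hn with e | e | e
    · obtain ⟨f⟩ := S0494.result e
      rw [if_pos e]
      exact ⟨by omega, tp_of (by omega) (.inl rfl) (N2C.RAlt.tri_5_2_3_5.congr f.symm)⟩
    · obtain ⟨f⟩ := S0497.result e
      rw [if_neg (by omega : ¬ Nat.card G = 60)]
      exact ⟨by omega, tp_of (by omega) (.inr rfl) (N2C.RAlt.tri_6_2_4_5.congr f.symm)⟩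
    · have := S0496.result h2 (by omega)
      omega
  · push Not at hc
    obtain ⟨r, hr, h0⟩ := hc
    have h2 := core16 hE h1.1 h1.2 hr h0
    have h3 := (pCore r G).card_mul_index
    rw [h2] at h3
    have h4 : Nat.card G = 960 := by omega
    have := Lib.Cores.pCore_characteristic (G := G) r
    have := Fact.mk Nat.prime_five
    obtain ⟨g, hg⟩ := exists_prime_orderOf_dvd_card' (G := G ⧸ pCore r G) 5 (by rw [← index_eq_card]; omega)
    exact .inr ⟨h4, _, by rw [Lib.SolvableNormalP.card_comap_mk _ (zpowers g), Nat.card_zpowers, hg, h2]⟩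

end Cfsg.Agent.N2.Sp1
end

-- part: N2/Sp1/Fin
section
/-!
# N2 (S3519), sporadic groups: the end game for the vectors of the exact sieve (helper45)

* `no_tri` : a pair with trivial centraliser needs a large structure constant;
* `fin_spec` : the check `fin` fails for the vector of a maximal invariant subgroup which is not good.
-/

set_option autoImplicit false
set_option linter.unusedSectionVars false

namespace Cfsg.Agent.N2.Sp1

open Cfsg Cfsg.Agent.FP3 Cfsg.Agent.TAB Cfsg.Agent.TAB.Eng Cfsg.Agent.TAB.Use Cfsg.Agent.SB.SporL Cfsg.Agent.TH.Spor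
open Cfsg.Agent.N2.Sp Cfsg.Agent.N2.Sp2 Cfsg.Agent.TwoF.SpO
open Subgroup

variable {K : Type} [Group K] [Finite K] {D : Dat} {T : TD K D} {R : Rows} {ν v : List ℕ} {A : Subgroup K}

/-! ### structure constants -/

theorem one_inv (hm : T.Mass) (hU : Unif T) {y : K} (hy : orderOf y = 2) : One T (T.ty y) := by
  refine ⟨y, rfl, ?_⟩
  rw [← hm.2 _ (T.lt y), ← card_class y]
  refine Nat.mul_le_mul_right _ (Nat.card_le_card_of_injective (β := {g // IsConj y g}) (fun g => ⟨g.1, ?_⟩)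
    fun _ _ e => Subtype.ext (congrArg Subtype.val e :))
  obtain ⟨k, hk⟩ := hU y g (hy ▸ Nat.prime_two) g.2.symm
  rw [← pow_mod_orderOf, hy] at hk
  rcases Nat.mod_two_eq_zero_or_one k with e | e <;> rw [e] at hk
  · have h1 := T.ord g
    rw [g.2, ← T.ord, hy, isConj_one_right.1 (pow_zero y ▸ hk :), orderOf_one] at h1
    omega
  · rwa [pow_one] at hk

theorem le_cnt (hm : T.Mass) (x : K) : D.N ≤ D.cnt (T.ty x) * Nat.card (centralizer ({x} : Set K)) := by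
  rw [← hm.1, ← hm.2 _ (T.lt x), ← card_class x]
  exact Nat.mul_le_mul_right _ (Nat.card_le_card_of_injective (β := {g // T.ty g = T.ty x})
    (fun g => ⟨g.1, TD.ty_isConj g.2⟩) fun _ _ e => Subtype.ext (congrArg Subtype.val e :))

/-- the structure constant of the types is less than one -/
noncomputable def okTri (D : Dat) (W W' : List (List ℤ)) (a b s : ℕ) : Bool :=
  frcLZ (SpK.cz D W W' [] (1, [(1, s)])) fun z => frcLZ (accP z (W ++ W') (List.replicate D.n 0)) fun V =>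
    allL (fun u => decide (0 ≤ nth V u)) (List.range D.n) &&
      decide (sumP a b z (W ++ W') * (D.cnt a * D.cnt b : ℕ) < nth V s * D.N)

theorem no_tri (hm : T.Mass) (hR : Tab T R) (hU : Unif T) (hT : SpK.okT D R = true) {x y : K} (hy : orderOf y = 2)
    (hc : ∀ g, g ∈ centralizer ({x} : Set K) → g ∈ centralizer ({y} : Set K) → g = 1) :
    okTri D (irows R) (SpK.prows R) (T.ty x) (T.ty y) (T.ty (x * y)) ≠ true := by
  classical
  intro h
  have := Fintype.ofFinite K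
  rw [okTri, frcLZ_eq, frcLZ_eq, Bool.and_eq_true, decide_eq_true_eq] at h
  have H := SpK.rw_of hm hR hT
  generalize SpK.cz D (irows R) (SpK.prows R) [] (1, [(1, T.ty (x * y))]) = z at h
  have h3 := SpK.sum_accP' x y z _ (List.replicate D.n 0) (List.forall_mem_append.2 ⟨H.a y, H.b y (one_inv hm hU hy)⟩)
    List.length_replicate
  have h5 : ∑ a, nth (List.replicate D.n 0) (T.ty (a * x * a⁻¹ * y)) = 0 :=
    Finset.sum_eq_zero fun a _ => by
      rw [nth_eq, List.getD_eq_getElem _ _ (by rw [List.length_replicate]; exact T.lt _), List.getElem_replicate]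
  generalize accP z (irows R ++ SpK.prows R) (List.replicate D.n 0) = V at h h3
  generalize sumP (T.ty x) (T.ty y) z (irows R ++ SpK.prows R) = σ at h h3
  have h0 : ∀ g, 0 ≤ nth V (T.ty g) := fun g => of_decide_eq_true (allL_spec h.1 _ (List.mem_range.2 (T.lt g)))
  let f : centralizer ({y} : Set K) × centralizer ({x} : Set K) → K := fun p => p.1 * p.2
  have h6 : Function.Injective f := by
    rintro ⟨d, c⟩ ⟨d', c'⟩ (e : (d : K) * c = d' * c')
    have h7 : (d' : K)⁻¹ * d = c' * (c : K)⁻¹ := by rw [eq_mul_inv_iff_mul_eq, mul_assoc, e, inv_mul_cancel_left]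
    have h8 := hc _ (h7 ▸ mul_mem c'.2 (inv_mem c.2)) (mul_mem (inv_mem d'.2) d.2)
    exact Prod.ext (Subtype.ext (inv_mul_eq_one.1 h8).symm) (Subtype.ext (mul_inv_eq_one.1 (h7 ▸ h8)).symm)
  have h7 : ∑ a ∈ Finset.univ.image f, nth V (T.ty (a * x * a⁻¹ * y)) ≤ ∑ a, nth V (T.ty (a * x * a⁻¹ * y)) :=
    Finset.sum_le_sum_of_subset_of_nonneg (Finset.subset_univ _) fun a _ _ => h0 _
  rw [Finset.sum_image fun a _ b _ e => h6 e, Finset.sum_congr rfl (g := fun _ => nth V (T.ty (x * y))) fun p _ => by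
    rw [← T.conj (x * y) p.1]
    congr 2
    show (p.1 : K) * p.2 * x * ((p.1 : K) * p.2)⁻¹ * y = _
    rw [mul_assoc _ _ x, mem_centralizer_singleton_iff.1 p.2.2, mul_inv_rev, mul_assoc, mul_assoc, mul_assoc, mul_assoc,
      mul_inv_cancel_left, mem_centralizer_singleton_iff.1 (inv_mem p.1.2), mul_assoc, mul_assoc],
    Finset.sum_const, Finset.card_univ, ← Nat.card_eq_fintype_card, Nat.card_prod, h3, h5, zero_add, hm.1,
    nsmul_eq_mul] at h7
  have h8 : ((D.N * D.N : ℕ) : ℤ) ≤ _ := Int.ofNat_le.2 (Nat.mul_le_mul (le_cnt hm x) (le_cnt hm y))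
  have h9 : (0 : ℤ) < D.N := Int.natCast_pos.2 (hm.1 ▸ Nat.card_pos)
  have h10 := mul_le_mul_of_nonneg_left h8 (h0 (x * y))
  have h11 := mul_le_mul_of_nonneg_left h7 (Int.natCast_nonneg (D.cnt (T.ty x) * D.cnt (T.ty y)))
  have h12 := mul_lt_mul_of_pos_left h.2 h9
  push_cast at h10 h11 h12
  linarith

/-! ### the numbers read off the vector -/

/-- the number of the solutions of `x ^ d = 1` -/
noncomputable def cv (D : Dat) (v : List ℕ) (d : ℕ) : ℕ :=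
  ((List.range D.n).map fun t => if D.ord t ∣ d then ntd v 0 t else 0).sum

/-- the types which occur -/
noncomputable def supp (D : Dat) (v : List ℕ) : List ℕ := (List.range D.n).filter fun t => t != 0 && ntd v 0 t != 0

theorem Vec.nq (h : Vec T A v) (d : ℕ) : nq A d = cv D v d := by
  rw [cv, ← List.sum_toFinset _ List.nodup_range, List.toFinset_range,
    ← Finset.sum_congr rfl fun t ht => if_congr Iff.rfl (h t (Finset.mem_range.1 ht)) rfl, sum_ite A fun t => D.ord t ∣ d]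
  exact Nat.card_congr (Equiv.subtypeEquivRight fun x => by rw [← T.ord, orderOf_coe])

theorem Vec.card (h : Vec T A v) : Nat.card A = cv D v 0 :=
  (Nat.card_congr (Equiv.subtypeUnivEquiv fun _ => dvd_zero _).symm).trans (h.nq 0)

theorem Vec.sup (h : Vec T A v) : Sup T A (supp D v) := fun a ha => or_iff_not_imp_left.2 fun e =>
  List.mem_filter.2 ⟨List.mem_range.2 (T.lt a), by simp [e, ← h _ (T.lt a), (num_pos ha).ne']⟩

theorem two_dvd_num (A : Subgroup K) {t : ℕ} (h : 2 < D.ord t) : 2 ∣ num T A t := by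
  classical
  have h1 : ∀ g, T.ty g⁻¹ = T.ty g := fun g => by
    have h2 : g⁻¹ = g ^ (orderOf g - 1) := (eq_inv_of_mul_eq_one_left (by
      rw [← pow_succ, Nat.sub_add_cancel (orderOf_pos g), pow_orderOf_eq_one])).symm
    refine Eq.trans ?_ (congrArg T.ty (pow_one g))
    rw [h2, T.pow, T.pow, Dat.pwf, Dat.pwf, ← T.ord, Nat.gcd_one_left,
      (Nat.coprime_self_sub_left (orderOf_pos g)).2 (Nat.coprime_one_left _)]
  have := Fintype.ofFinite {s : A // T.ty s = t}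
  have := Fact.mk Nat.prime_two
  let f : Function.End {s : A // T.ty s = t} := fun s => ⟨s.1⁻¹, (h1 _).trans s.2⟩
  have h2 := Equiv.Perm.card_fixedPoints_modEq (f := f) (p := 2) (n := 1) (funext fun s => Subtype.ext (inv_inv s.1))
  rw [Fintype.card_eq_zero_iff (α := f.fixedPoints).2 ⟨fun s => ?_⟩, ← Nat.card_eq_fintype_card] at h2
  · exact (Nat.modEq_zero_iff_dvd).1 h2
  · have h3 : s.1.1⁻¹ = s.1.1 := congrArg Subtype.val s.2
    have h4 := Nat.le_of_dvd two_pos (orderOf_dvd_of_pow_eq_one (x := s.1.1) (by rw [pow_two, mul_eq_one_iff_eq_inv, h3]))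
    rw [← orderOf_coe, T.ord, s.1.2] at h4
    omega

/-! ### the check -/

/-- the list of the primes -/
def okPL (D : Dat) (PL : List (ℕ × ℕ)) : Bool :=
  PL.all (fun y => decide y.1.Prime && D.N % y.1 ^ y.2 == 0 && D.N / y.1 ^ y.2 % y.1 != 0) &&
    decide (PL.map Prod.fst).Nodup

/-- the orders 60, 360, 960 -/
noncomputable def res (D : Dat) (R : Rows) (c : List ℕ × List ℕ × List (List (ℕ × ℕ))) (v S : List ℕ) (n : ℕ) : Bool :=
  [60, 360, 960].contains n && Nat.blt n (3 * cv D v 5) && Nat.blt n (2 * cv D v 15) &&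
    (n != 960 || (S.all (fun t => 80 % D.ord t != 0 || c.1.contains t) && chkS D R [] 80 c.1 c.2.1 c.2.2)) &&
    SpK.okT D R && Glue.frcM (irows R) fun W => Glue.frcM (SpK.prows R) fun W' =>
      S.all fun a => D.ord a != (if n = 60 then 3 else 4) || S.all fun b => D.ord b != 2 || S.all fun s =>
        D.ord s != 5 || n == 960 || okTri D W W' a b s

/-- the check for one vector -/
noncomputable def fin (D : Dat) (R : Rows) (ν : List ℕ) (PL : List (ℕ × ℕ)) (c : List ℕ × List ℕ × List (List (ℕ × ℕ)))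
    (v : List ℕ) : Bool :=
  frc (cv D v 0) fun n => frcL (supp D v) fun S =>
    (PL.any fun y => frc (Nat.gcd n (y.1 ^ y.2)) fun q =>
      q != 1 && q != y.1 ^ y.2 && n / q % y.1 != 0 && Nat.ble (cv D v q) q) ||
    (S.any fun t => Nat.blt 2 (D.ord t) && ntd v 0 t % 2 != 0) ||
    (S.all (fun t => Nat.blt 0 (ntd ν 0 t) && PL.any fun y => y.1 ^ y.2 % D.ord t == 0) &&
      mkD n PL fun L => kill D ν S n L || res D R c v S n)

variable [IsSimpleGroup K] {Γ : Subgroup (MulAut K)} {c : List ℕ × List ℕ × List (List (ℕ × ℕ))}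

theorem res_spec (C : Cx T R ν A Γ (supp D v)) (hv : Vec T A v) : res D R c v (supp D v) (Nat.card A) ≠ true := by
  intro h
  simp only [res, Glue.frcM_eq, Bool.and_eq_true, Bool.or_eq_true, List.contains_iff_mem, Nat.blt_eq, List.all_eq_true,
    bne_iff_ne, beq_iff_eq, ← hv.nq] at h
  obtain ⟨⟨⟨⟨⟨h1, h2⟩, h3⟩, h4⟩, h5⟩, h6⟩ := h
  rcases three C.ep h1 h2 h3 with ⟨h7, k0, x, y, k1, k2, k3, k4⟩ | ⟨h7, B, hB⟩
  · have h8 : ∀ z : A, orderOf z ≠ 1 → T.ty z ∈ supp D v := fun z hz =>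
      C.mem z.2 fun e => hz (by rw [← orderOf_coe, e, orderOf_one])
    have h9 : ∀ z : A, D.ord (T.ty z) = orderOf z := fun z => by rw [← T.ord, orderOf_coe]
    have h10 := ((((h6 _ (h8 x (by rw [k1]; split_ifs <;> decide))).resolve_left fun e => e ((h9 x).trans k1)) _
      (h8 y (by omega))).resolve_left fun e => e ((h9 y).trans k2)) _ (h8 (x * y) (by omega))
    refine no_tri C.hy.mass C.hy.tab C.unif h5 ((orderOf_coe y).trans k2) (x := x) (fun g g1 g2 => ?_)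
      (h10.resolve_left fun e => e.elim (fun e => e ((h9 _).trans k3)) k0)
    have h11 : ∀ z : A, z ∈ (centralizer {g}).comap A.subtype := fun z => (k4.ge.trans ((closure_le _).2 (by
      rintro _ (rfl | rfl)
      exacts [mem_centralizer_singleton_iff.2 (mem_centralizer_singleton_iff.1 g1).symm,
        mem_centralizer_singleton_iff.2 (mem_centralizer_singleton_iff.1 g2).symm]))) (mem_top z)
    have h12 : g ∈ A := (mi_self C.mi).le (centralizer_le_normalizer _ (mem_centralizer_iff.2 fun z hz =>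
      mem_centralizer_singleton_iff.1 (h11 ⟨z, hz⟩)))
    exact congrArg Subtype.val (mem_bot.1 (h7.le (mem_center_iff.2 fun z =>
      Subtype.ext (mem_centralizer_singleton_iff.1 (h11 z)) : (⟨g, h12⟩ : A) ∈ center A)))
  · have h8 := (h4.resolve_left fun e => e h7)
    obtain ⟨w, hw, -⟩ := sub (A := B.map A.subtype) C.hy (fun a ha => (C.sup a (map_subtype_le B ha)).imp id fun e =>
      (h8.1 _ e).resolve_left fun k => k (by
        rw [← T.ord, ← hB, ← card_map_of_injective A.subtype_injective]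
        exact Nat.mod_eq_zero_of_dvd (orderOf_dvd_natCard _ ha)))
      ((card_map_of_injective A.subtype_injective).trans hB) h8.2
    cases hw

/-- **the end game** -/
theorem fin_spec (H : Sp.Hy T R ν) (hU : Unif T) (hn : ¬ IsMulCommutative K) (ho : (Inn K).index ≤ 2) (hm : MI A Γ)
    (hb : ¬ Good A) (hv : Vec T A v) {PL : List (ℕ × ℕ)} (hP : okPL D PL = true) : fin D R ν PL c v ≠ true := by
  intro h
  simp only [okPL, Bool.and_eq_true, beq_iff_eq, bne_iff_ne, List.all_eq_true, decide_eq_true_eq] at hP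
  have h1 : ∀ y ∈ PL, y.1.Prime ∧ ∃ u, D.N = y.1 ^ y.2 * u ∧ ¬ y.1 ∣ u := fun y hy => ⟨(hP.1 y hy).1.1, _,
    (Nat.mul_div_cancel' (Nat.dvd_of_mod_eq_zero (hP.1 y hy).1.2)).symm, fun k => (hP.1 y hy).2 (Nat.mod_eq_zero_of_dvd k)⟩
  simp only [fin, frc_eq, frcL_eq, ← hv.card, ← hv.nq, Bool.or_eq_true, Bool.and_eq_true, List.any_eq_true,
    List.all_eq_true, beq_iff_eq, bne_iff_ne, Nat.blt_eq, Nat.ble_eq] at h
  rcases h with (⟨y, h2, ⟨⟨h3, h4⟩, h5⟩, h6⟩ | ⟨t, h2, h3, h4⟩) | ⟨h2, h3⟩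
  · obtain ⟨h7, u, h8, h9⟩ := h1 y h2
    have := Fact.mk h7
    obtain ⟨a, -, e⟩ := (Nat.dvd_prime_pow h7).1 (Nat.gcd_dvd_right (Nat.card A) (y.1 ^ y.2))
    have h10 := (Nat.mul_div_cancel' (Nat.gcd_dvd_left (Nat.card A) (y.1 ^ y.2))).symm
    have h11 : ¬ _ ∣ _ := fun k => h5 (Nat.mod_eq_zero_of_dvd k)
    rw [e] at h3 h4 h6 h10 h11
    obtain ⟨P⟩ : Nonempty (Sylow y.1 A) := inferInstance
    obtain ⟨Q⟩ : Nonempty (Sylow y.1 K) := inferInstance
    have := normal_of_nq (P : Subgroup A) (by rwa [card_syl P h10 h11])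
    have h12 := not_dvd_of_norm P (norm_of_normal hm P (h10 ▸ (dvd_pow_self _ fun k => h3 (by rw [k, pow_zero])).mul_right _))
    exact h4 ((card_syl Q (by rw [← A.card_mul_index, ← mul_assoc, ← h10]) fun k => (h7.dvd_mul.1 k).elim h11 h12).symm.trans
      (card_syl Q (H.mass.1.trans h8) h9))
  · exact h4 (hv t (List.mem_range.1 (List.mem_filter.1 h2).1) ▸ Nat.mod_eq_zero_of_dvd (two_dvd_num A h3))
  · obtain ⟨L, h4, h5, h6⟩ := mkD_spec (D := D) PL h1 h3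
    have C : Cx T R ν A Γ (supp D v) := ⟨H, hU, hn, ho, hm, hb, fun a p q hp hq k1 k2 => by
      rw [← orderOf_coe] at k1 k2
      obtain ⟨y, k3, k4⟩ := (h2 _ ((hv.sup a a.2).resolve_left fun k => ne_one_of hp k1 ((H.zero a).1 k))).2
      have k5 := T.ord a ▸ Nat.dvd_of_mod_eq_zero k4
      rw [(Nat.prime_dvd_prime_iff_eq hp (h1 y k3).1).1 (hp.dvd_of_dvd_pow (k1.trans k5)),
        (Nat.prime_dvd_prime_iff_eq hq (h1 y k3).1).1 (hq.dvd_of_dvd_pow (k2.trans k5))], hv.sup, fun t ht => (h2 t ht).1⟩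
    rcases Bool.or_eq_true _ _ ▸ h4 with h7 | h7
    · refine C.kill h5 ?_ h7
      have h8 := hP.2
      rwa [← h6, List.map_map] at h8
    · exact res_spec C hv h7

/-- **the assembly** -/
theorem row_of {M PL : List (ℕ × ℕ)} {SOL : List (List ℕ)} (hn : ¬ IsMulCommutative K) (ho : (Inn K).index ≤ 2)
    (h : SpK.InK K D R M) (hz : Sp.okZ D = true) (hk : okK D M ν = true)
    (hr : ∀ {T : TD K D} {A : Subgroup K}, Sp.Hy T R ν → ¬ Good A → A ≠ ⊤ → A ≠ ⊥ → ∃ v ∈ SOL, Vec T A v)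
    (hP : okPL D PL = true) (hc : allL (fin D R ν PL c) SOL = true) : ASRow K := fun _ _ hm => by_contra fun hb => by
  obtain ⟨T, H, hU, -⟩ := hy_of h hz hk
  obtain ⟨v, h1, h2⟩ := hr H hb hm.ne_top hm.ne_bot
  exact fin_spec H hU hn ho hm hb h2 hP (allL_spec hc v h1)

end Cfsg.Agent.N2.Sp1
end

private theorem dce_911d104feb89 : _root_.True := by
  try have : _root_.True := by simp only [_root_.Cfsg.Agent.N2.Sp1.cv.eq_1]
  try have : _root_.True := by simp only [_root_.Cfsg.Agent.N2.Sp1.okPL.eq_1]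
  try have : _root_.True := by simp only [_root_.Cfsg.Agent.N2.Sp1.okTri.eq_1]
  try have : _root_.True := by simp only [_root_.Cfsg.Agent.N2.Sp1.fin.eq_1]
  try have : _root_.True := by simp only [_root_.Cfsg.Agent.N2.Sp1.res.eq_1]
  exact _root_.True.intro
end

-- part: N2/Alt/Tab
section
prune_inst 0xd5300d005c0000000000000490002000600001000020000041000c0000082100800080000c002400104822000005002010000040c000000004000000000405219028120000100004020007801080400000000000000000000000000000000000200000000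
set_option linter.all false
open scoped Cfsg.Agent.FastGrp

-- part: N2/Alt/Num
section
/-!
# N2 (S3519), alternating groups: the numerical inequalities (helper51)
-/

set_option autoImplicit false

namespace Cfsg.Agent.N2.Alt

open Nat

/-- the inequality for groups of order at most `B ^ n` -/
def Q (B p f j : ℕ) : Prop := 2 * cb p f j ^ 3 * B ^ (f + p * j) ≤ (f + p * j)!

theorem Q_step {B p f j : ℕ} (a : ℕ) (h : Q B p f j)
    (h1 : (f + a) ^ (3 * a) * (p * (j + 1)) ^ 3 * B ^ (a + p) ≤ (f + p * j + 1) ^ (a + p)) : Q B p (f + a) (j + 1) := by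
  unfold Q cb at *
  have h2 : (f + a)! ≤ f ! * (f + a) ^ a := by
    rw [← factorial_mul_ascFactorial]
    exact Nat.mul_le_mul_left _ (ascFactorial_le_pow_add f a)
  have e : f + a + p * (j + 1) = f + p * j + (a + p) := by ring
  rw [e]
  calc 2 * ((f + a)! * p ^ (j + 1) * (j + 1)!) ^ 3 * B ^ (f + p * j + (a + p))
      ≤ 2 * (f ! * (f + a) ^ a * p ^ (j + 1) * (j + 1)!) ^ 3 * B ^ (f + p * j + (a + p)) := by gcongr
    _ = 2 * (f ! * p ^ j * j !) ^ 3 * B ^ (f + p * j) * ((f + a) ^ (3 * a) * (p * (j + 1)) ^ 3 * B ^ (a + p)) := by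
        rw [factorial_succ]; ring
    _ ≤ (f + p * j)! * (f + p * j + 1) ^ (a + p) := Nat.mul_le_mul h h1
    _ ≤ _ := factorial_mul_pow_le_factorial

theorem Q_ind {B p c j0 : ℕ} (h0 : 1 ≤ j0) (hb : ∀ f ≤ c * j0, Q B p f j0)
    (s0 : ∀ j, j0 ≤ j → 8 * B ^ p ≤ (p * j + 1) ^ (p - 3)) (hp : 3 ≤ p)
    (sc : ∀ j f, j0 ≤ j → c * j < f + c → f ≤ c * j →
      (c * (j + 1)) ^ (3 * c) * (p * (j + 1)) ^ 3 * B ^ (c + p) ≤ (f + p * j + 1) ^ (c + p))
    (j : ℕ) (hj : j0 ≤ j) : ∀ f ≤ c * j, Q B p f j := by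
  induction j, hj using Nat.le_induction with
  | base => exact hb
  | succ j hj ih =>
    intro f hf
    rcases le_or_gt f (c * j) with h | h
    · refine Q_step 0 (ih f h) ?_
      have h1 : p * (j + 1) ≤ 2 * (p * j + 1) := by nlinarith only [h0, hj]
      obtain ⟨q, rfl⟩ : ∃ q, p = q + 3 := ⟨p - 3, by omega⟩
      have h2 := s0 j hj
      rw [Nat.add_sub_cancel] at h2
      calc _ = ((q + 3) * (j + 1)) ^ 3 * B ^ (q + 3) := by simp
        _ ≤ (2 * ((q + 3) * j + 1)) ^ 3 * B ^ (q + 3) := by gcongr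
        _ = ((q + 3) * j + 1) ^ 3 * (8 * B ^ (q + 3)) := by ring
        _ ≤ ((q + 3) * j + 1) ^ 3 * ((q + 3) * j + 1) ^ q := Nat.mul_le_mul_left _ h2
        _ = ((q + 3) * j + 1) ^ (0 + (q + 3)) := by ring
        _ ≤ _ := Nat.pow_le_pow_left (by omega) _
    · have h1 : c ≤ c * j := Nat.le_mul_of_pos_right c (by omega)
      obtain ⟨g, rfl⟩ : ∃ g, f = g + c := ⟨f - c, by omega⟩
      have h2 : g ≤ c * j := by rw [mul_add, mul_one] at hf; omega
      refine Q_step c (ih g h2) (le_trans ?_ (sc j g hj h h2))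
      gcongr

instance decQ (B p f j : ℕ) : Decidable (Q B p f j) := by unfold Q; infer_instance

theorem aux_pow {x y u v k d : ℕ} (h : u * x ≤ v * y) (hv : 0 < v) (h1 : d * v ^ k ≤ u ^ k) : d * x ^ k ≤ y ^ k := by
  refine Nat.le_of_mul_le_mul_left ?_ (pow_pos hv k)
  calc v ^ k * (d * x ^ k) = d * v ^ k * x ^ k := by ring
    _ ≤ u ^ k * x ^ k := Nat.mul_le_mul_right _ h1
    _ = (u * x) ^ k := (mul_pow _ _ _).symm
    _ ≤ (v * y) ^ k := Nat.pow_le_pow_left h k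
    _ = _ := mul_pow _ _ _

theorem Q_five (f j : ℕ) (hj : 5 ≤ j) (hf : f ≤ 1 * j) : Q 2 5 f j := by
  refine Q_ind (j0 := 5) (by norm_num) (by decide +kernel) (fun j hj => ?_) (by norm_num) (fun j f hj h1 h2 => ?_) j hj f hf
  · exact le_trans (by norm_num) (Nat.pow_le_pow_left (show 16 ≤ 5 * j + 1 by omega) _)
  · refine le_trans (le_of_eq ?_) (aux_pow (x := j + 1) (u := 9) (v := 2) (d := 8000) (by omega) (by norm_num) (by norm_num))
    ring

theorem Q_seven (f j : ℕ) (hj : 3 ≤ j) (hf : f ≤ 2 * j) : Q 2 7 f j := by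
  refine Q_ind (j0 := 3) (by norm_num) (by decide +kernel) (fun j hj => ?_) (by norm_num) (fun j f hj h1 h2 => ?_) j hj f hf
  · exact le_trans (by norm_num) (Nat.pow_le_pow_left (show 16 ≤ 7 * j + 1 by omega) _)
  · refine le_trans (le_of_eq ?_) (aux_pow (x := j + 1) (u := 13) (v := 2) (d := 11239424) (by omega) (by norm_num)
      (by norm_num))
    ring

theorem Q_eleven (f j : ℕ) (hj : 2 ≤ j) (hf : f ≤ 4 * j) : Q 2 11 f j := by
  rcases hj.eq_or_lt with rfl | hj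
  · revert f
    decide +kernel
  refine Q_ind (j0 := 3) (by norm_num) (by decide +kernel) (fun j hj => ?_) (by norm_num) (fun j f hj h1 h2 => ?_) j hj f hf
  · exact le_trans (by norm_num) (Nat.pow_le_pow_left (show 16 ≤ 11 * j + 1 by omega) _)
  · refine le_trans (le_of_eq ?_) (aux_pow (x := j + 1) (u := 10) (v := 1) (d := 4 ^ 12 * 11 ^ 3 * 2 ^ 15) (by omega)
      (by norm_num) (by norm_num))
    ring

theorem Q_thirteen (f j : ℕ) (hj : 2 ≤ j) (hf : f ≤ 5 * j) : Q 2 13 f j := by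
  rcases hj.eq_or_lt with rfl | hj
  · revert f
    decide +kernel
  refine Q_ind (j0 := 3) (by norm_num) (by decide +kernel) (fun j hj => ?_) (by norm_num) (fun j f hj h1 h2 => ?_) j hj f hf
  · exact le_trans (by norm_num) (Nat.pow_le_pow_left (show 16 ≤ 13 * j + 1 by omega) _)
  · refine le_trans (le_of_eq ?_) (aux_pow (x := j + 1) (u := 12) (v := 1) (d := 5 ^ 15 * 13 ^ 3 * 2 ^ 18) (by omega)
      (by norm_num) (by norm_num))
    ring

theorem Q4_seven (f j : ℕ) (hj : 7 ≤ j) (hf : f ≤ 1 * j) : Q 4 7 f j := by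
  refine Q_ind (j0 := 7) (by norm_num) (by decide +kernel) (fun j hj => ?_) (by norm_num) (fun j f hj h1 h2 => ?_) j hj f hf
  · exact le_trans (by norm_num) (Nat.pow_le_pow_left (show 50 ≤ 7 * j + 1 by omega) _)
  · have h3 : 7 * (j + 1) ≤ f + 7 * j + 1 := by omega
    have h4 : 57 ≤ f + 7 * j + 1 := by omega
    calc _ = 22478848 * (j + 1) ^ 6 := by ring
      _ ≤ 57 ^ 2 * 7 ^ 6 * (j + 1) ^ 6 := Nat.mul_le_mul_right _ (by norm_num)
      _ = 57 ^ 2 * (7 * (j + 1)) ^ 6 := by ring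
      _ ≤ (f + 7 * j + 1) ^ 2 * (f + 7 * j + 1) ^ 6 := by gcongr
      _ = _ := by ring

theorem big_s0 (q : ℕ) : 8 * 4 ^ (q + 11) ≤ 12 ^ (q + 8) := by
  calc 8 * 4 ^ (q + 11) = 8 * 4 ^ 11 * 4 ^ q := by ring
    _ ≤ 12 ^ 8 * 12 ^ q := Nat.mul_le_mul (by norm_num) (Nat.pow_le_pow_left (by norm_num) q)
    _ = _ := by ring

theorem Q4_ind {p j0 : ℕ} (hp : 11 ≤ p) (h0 : 1 ≤ j0) (hb : ∀ f ≤ 1 * j0, Q 4 p f j0) (j : ℕ) (hj : j0 ≤ j) :
    ∀ f ≤ 1 * j, Q 4 p f j := by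
  obtain ⟨q, rfl⟩ : ∃ q, p = q + 11 := ⟨p - 11, by omega⟩
  refine Q_ind h0 hb (fun j hj => ?_) (by omega) (fun j f hj h1 h2 => ?_) j hj
  · exact (big_s0 q).trans (Nat.pow_le_pow_left (by nlinarith only [h0, hj]) _)
  · obtain rfl : f = j := by omega
    have h3 : (q + 12) * (f + 1) ≤ 2 * (f + (q + 11) * f + 1) := by nlinarith only [h0, hj]
    have h4 : 13 ≤ f + (q + 11) * f + 1 := by nlinarith only [h0, hj]
    have h5 : 64 * 4 ^ (q + 12) ≤ 12 ^ 3 * 13 ^ (q + 6) := by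
      calc 64 * 4 ^ (q + 12) = 64 * 4 ^ 12 * 4 ^ q := by ring
        _ ≤ 12 ^ 3 * 13 ^ 6 * 13 ^ q := Nat.mul_le_mul (by norm_num) (Nat.pow_le_pow_left (by norm_num) q)
        _ = _ := by ring
    generalize f + (q + 11) * f + 1 = X at h3 h4 ⊢
    refine Nat.le_of_mul_le_mul_left ?_ (show 0 < 64 by norm_num)
    calc _ = (f + 1) ^ 6 * (q + 11) ^ 3 * (64 * 4 ^ (q + 12)) := by ring
      _ ≤ (f + 1) ^ 6 * (q + 12) ^ 3 * ((q + 12) ^ 3 * X ^ (q + 6)) := by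
          refine Nat.mul_le_mul (by gcongr; omega) (h5.trans ?_)
          gcongr
          omega
      _ = ((q + 12) * (f + 1)) ^ 6 * X ^ (q + 6) := by ring
      _ ≤ (2 * X) ^ 6 * X ^ (q + 6) := by gcongr
      _ = _ := by ring

theorem big_base (p : ℕ) (hp : 17 ≤ p) : 2 * p ^ 3 * 4 ^ p ≤ p ! := by
  induction p, hp using Nat.le_induction with
  | base => decide +kernel
  | succ p hp ih =>
    have h1 : 4 * (p + 1) ^ 2 ≤ p ^ 3 := by nlinarith
    calc 2 * (p + 1) ^ 3 * 4 ^ (p + 1) = (p + 1) * (2 * (4 * (p + 1) ^ 2) * 4 ^ p) := by ring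
      _ ≤ (p + 1) * (2 * p ^ 3 * 4 ^ p) := by gcongr
      _ ≤ (p + 1) * p ! := Nat.mul_le_mul_left _ ih
      _ = _ := (factorial_succ p).symm

theorem Q4_big {p : ℕ} (hp : p.Prime) (h11 : 11 ≤ p) (f j : ℕ) (hj : 1 ≤ j) (h : 17 ≤ p ∨ 2 ≤ j) (hf : f ≤ j) : Q 4 p f j := by
  rcases le_or_gt 17 p with h1 | h1
  · refine Q4_ind h11 le_rfl (fun f hf => ?_) j hj f (by omega)
    have h2 := big_base p h1
    unfold Q cb
    rcases (show f = 0 ∨ f = 1 by omega) with rfl | rfl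
    · simpa using h2
    · rw [mul_one, add_comm 1 p, factorial_succ]
      calc _ = 4 * (2 * p ^ 3 * 4 ^ p) := by simp; ring
        _ ≤ _ := Nat.mul_le_mul (by omega) h2
  · have h2 : p = 11 ∨ p = 13 := by
      interval_cases p <;> simp_all (config := { decide := true }) only [_root_.false_or]
    rcases h2 with rfl | rfl
    · exact Q4_ind (j0 := 2) h11 (by norm_num) (by decide +kernel) j (by omega) f (by omega)
    · exact Q4_ind (j0 := 2) h11 (by norm_num) (by decide +kernel) j (by omega) f (by omega)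

theorem Q.le {B p f j n a : ℕ} (h : Q B p f j) (hn : n = f + p * j) (ha : a ≤ B ^ n) : 2 * cb p f j ^ 3 * a ≤ n ! := by
  subst hn
  exact (Nat.mul_le_mul_left _ ha).trans h

theorem le_of_bochert {c n a : ℕ} (h : c ≤ ((n + 1) / 2)!) (ha : a * ((n + 1) / 2)! ≤ n !) : c * a ≤ n ! :=
  le_trans (by rw [mul_comm]; exact Nat.mul_le_mul_left _ h) ha

end Cfsg.Agent.N2.Alt
end

-- part: N2/Alt/Cen
section
/-!
# N2 (S3519), alternating groups: centralisers and normalisers of `p`-elements (helper51)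
-/

set_option autoImplicit false
set_option linter.unusedSectionVars false

namespace Cfsg.Agent.N2.Alt

open Equiv Equiv.Perm MulAction Subgroup Cfsg.Agent.FP3 Nat

section syl

variable {T : Type*} [Group T] [Finite T] {p : ℕ}

/-- the order of the normaliser of `⟨a⟩` -/
noncomputable def nn (a : T) : ℕ := Nat.card (normalizer (zpowers a : Set T))

/-- the order of the normaliser of `⟨a⟩` in `A` -/
noncomputable def nA (A : Subgroup T) (a : T) : ℕ := Nat.card ↥(normalizer (zpowers a : Set T) ⊓ A)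

theorem nn_pos (a : T) : 0 < nn a := Nat.card_pos

theorem nA_pos (A : Subgroup T) (a : T) : 0 < nA A a := Nat.card_pos

theorem nn_dvd {a : T} (hp : p.Prime) (ho : orderOf a = p) : nn a ∣ (p - 1) * cn a := by
  have h1 := (zpowers a).normalizerMonoidHom.ker.index_mul_card
  have h2 : (zpowers a).normalizerMonoidHom.ker.index ∣ p - 1 := by
    rw [index_ker, ← Nat.totient_prime hp, ← ho, ← Nat.card_zpowers, ← IsCyclic.card_mulAut]
    exact card_subgroup_dvd_card _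
  have h3 : Nat.card (zpowers a).normalizerMonoidHom.ker = cn a := by
    rw [normalizerMonoidHom_ker, Nat.card_congr (subgroupOfEquivOfLe (centralizer_le_normalizer _)).toEquiv, cn,
      zpowers_eq_closure, centralizer_closure]
  rw [nn, ← h1, h3]
  exact Nat.mul_dvd_mul_right h2 _

theorem fx_eq_fs (A : Subgroup T) (a : T) : fx A a = fs A (zpowers a) :=
  le_antisymm (fx_le_fs A le_rfl) (Nat.card_le_card_of_injective (fun x => (⟨x.1, x.2 a (mem_zpowers a)⟩ : fixedBy (T ⧸ A) a))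
    fun _ _ e => Subtype.ext (Subtype.mk.inj e))

theorem not_dvd_relIndex {A : Subgroup T} {a : T} (ha : a ∈ A) (ho : orderOf a = p) (h2 : ¬ p ^ 2 ∣ Nat.card A) :
    ¬ p ∣ (zpowers a).relIndex A := fun h => h2 (by
  rw [← ((zpowers a).subgroupOf A).index_mul_card, Nat.card_congr (subgroupOfEquivOfLe (zpowers_le.2 ha)).toEquiv,
    Nat.card_zpowers, ho, pow_two]
  exact Nat.mul_dvd_mul_right h p)

theorem isP {a : T} (ho : orderOf a = p) : IsPGroup p (zpowers a) :=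
  IsPGroup.of_card (n := 1) (by rw [Nat.card_zpowers, ho, pow_one])

/-- **the Sylow formula** -/
theorem syl {A : Subgroup T} {a : T} (ha : a ∈ A) (hp : p.Prime) (ho : orderOf a = p) (h2 : ¬ p ^ 2 ∣ Nat.card A) :
    fx A a * nA A a = nn a := by
  rw [fx_eq_fs]
  exact fs_sylow hp (zpowers_le.2 ha) (isP ho) (not_dvd_relIndex ha ho h2)

theorem dvd_nA {A : Subgroup T} {a : T} (ha : a ∈ A) (ho : orderOf a = p) : p ∣ nA A a := by
  rw [← ho, ← Nat.card_zpowers]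
  exact card_dvd_of_le (le_inf le_normalizer (zpowers_le.2 ha))

theorem nA_dvd (A : Subgroup T) (a : T) : nA A a ∣ Nat.card A := card_dvd_of_le inf_le_right

theorem nn_dvd_card (a : T) : nn a ∣ Nat.card T := card_subgroup_dvd_card _

theorem nA_hom {G : Type*} [Group G] [Finite G] (ι : G →* T) (hι : Function.Injective ι) {A : Subgroup T}
    (h : ∀ g, ι g ∈ A) (x : G) : nn x ∣ nA A (ι x) := by
  rw [nn, ← card_map_of_injective hι]
  refine card_dvd_of_le (le_inf ?_ ?_)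
  · rw [← MonoidHom.map_zpowers]
    exact le_normalizer_map ι
  · rintro _ ⟨g, -, rfl⟩
    exact h g

theorem nn_mod {a : T} (hp : p.Prime) (ho : orderOf a = p) (h2 : ¬ p ^ 2 ∣ Nat.card T) : Nat.card T / nn a % p = 1 := by
  have : Fact p.Prime := ⟨hp⟩
  have h1 := not_dvd_relIndex (mem_top a) ho (by rwa [card_top])
  rw [relIndex_top_right] at h1
  have h3 := Sylow.card_eq_index_normalizer ((isP ho).toSylow h1)
  have h4 := card_sylow_modEq_one p T
  rw [h3] at h4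
  have h5 : Nat.card T / nn a = (normalizer (zpowers a : Set T)).index := by
    rw [← (normalizer (zpowers a : Set T)).index_mul_card]
    exact Nat.mul_div_cancel _ (nn_pos a)
  rw [h5]
  exact Eq.trans h4 (Nat.mod_eq_of_lt hp.one_lt)

theorem nA_eq {A : Subgroup T} (a : A) : nA A a = nn a := by
  refine le_antisymm ?_ (Nat.le_of_dvd (nA_pos _ _) (nA_hom A.subtype A.subtype_injective (fun g => g.2) a))
  refine Nat.card_le_card_of_injective (fun x => ⟨⟨x.1, x.2.2⟩, mem_normalizer_iff.2 fun y => ?_⟩) fun _ _ e =>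
    Subtype.ext (congrArg (fun z => z.1.1) e)
  have k : ∀ z : A, z ∈ zpowers a ↔ (z : T) ∈ zpowers (a : T) := fun z =>
    ⟨fun ⟨k, hk⟩ => ⟨k, congrArg Subtype.val hk⟩, fun ⟨k, hk⟩ => ⟨k, Subtype.ext hk⟩⟩
  rw [k, k]
  exact mem_normalizer_iff.1 x.2.1 y

theorem nA_mod {A : Subgroup T} {a : T} (ha : a ∈ A) (hp : p.Prime) (ho : orderOf a = p) (h2 : ¬ p ^ 2 ∣ Nat.card A) :
    Nat.card A / nA A a % p = 1 := by
  rw [nA_eq (⟨a, ha⟩ : A)]
  exact nn_mod hp (by rw [← ho, ← orderOf_coe]) h2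

variable {Ω : Type*} [MulAction T Ω] [IsPretransitive T Ω]

theorem card_fixedBy_eq (ω : Ω) (x : T) : Nat.card (fixedBy Ω x) = fx (stabilizer T ω) x := by
  symm
  refine Nat.card_congr ((Equiv.ofBijective (ofQuotientStabilizer T ω) ⟨injective_ofQuotientStabilizer T ω, fun y => ?_⟩).subtypeEquiv
    fun q => ?_)
  · obtain ⟨g, rfl⟩ := _root_.MulAction.exists_smul_eq T ω y
    exact ⟨g, rfl⟩
  · show x • q = q ↔ x • ofQuotientStabilizer T ω q = ofQuotientStabilizer T ω q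
    rw [← ofQuotientStabilizer_smul, (injective_ofQuotientStabilizer T ω).eq_iff]

/-- the number of fixed points of a generator of a Sylow subgroup of prime order -/
theorem fix_syl {x : T} (hp : p.Prime) (ho : orderOf x = p) (h2 : ¬ p ^ 2 ∣ Nat.card T) :
    Nat.card (fixedBy Ω x) = 0 ∨ ∃ e, p ∣ e ∧ Nat.card (fixedBy Ω x) * e = nn x := by
  rcases isEmpty_or_nonempty (fixedBy Ω x) with h | ⟨⟨ω, hω⟩⟩
  · exact Or.inl Nat.card_of_isEmpty
  · refine Or.inr ⟨nA (stabilizer T ω) x, dvd_nA hω ho, ?_⟩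
    rw [card_fixedBy_eq ω]
    exact syl hω hp ho fun h => h2 (h.trans (card_subgroup_dvd_card _))

end syl

section perm

variable {Ω : Type} [Fintype Ω] [DecidableEq Ω] {H : Subgroup (Perm Ω)} {x : Perm Ω} {p i f j : ℕ}

theorem nf_add (x : Perm Ω) : nf x + x.cycleType.sum = Fintype.card Ω := by
  have h1 : nf x = Fintype.card (Function.fixedPoints x) := by
    rw [← Nat.card_eq_fintype_card]
    rfl
  have := x.sum_cycleType_le
  rw [h1, card_fixedPoints]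
  omega

theorem nf_coe {N : Subgroup (Perm Ω)} (x : N) : Nat.card (fixedBy Ω x) = nf (x : Perm Ω) := rfl

theorem dvd_of_mem (hp : p.Prime) (ho : orderOf x = p ^ i) {l : ℕ} (hl : l ∈ x.cycleType) : p ∣ l ∧ 1 ≤ l := by
  have h1 := two_le_of_mem_cycleType hl
  obtain ⟨k, -, rfl⟩ := (Nat.dvd_prime_pow hp).1 (ho ▸ dvd_of_mem_cycleType hl)
  refine ⟨dvd_pow_self p ?_, by omega⟩
  rintro rfl
  simp at h1

theorem exists_j (hp : p.Prime) (ho : orderOf x = p ^ i) : ∃ j, Fintype.card Ω = nf x + p * j := by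
  obtain ⟨j, hj⟩ : p ∣ x.cycleType.sum := Multiset.dvd_sum fun l hl => (dvd_of_mem hp ho hl).1
  exact ⟨j, by rw [← hj, nf_add]⟩

theorem prod_le (hp : 2 ≤ p) (M : Multiset ℕ) (h : ∀ l ∈ M, p ∣ l ∧ 1 ≤ l) :
    ∀ j, M.sum = p * j → M.prod ≤ p ^ j ∧ M.card ≤ j := by
  induction M using Multiset.induction_on with
  | empty => exact fun j _ => ⟨Nat.one_le_pow _ _ (by omega), Nat.zero_le _⟩
  | cons l M ih =>
    intro j hj
    obtain ⟨⟨t, rfl⟩, h1⟩ := h l (Multiset.mem_cons_self _ _)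
    have h2 : ∀ l ∈ M, p ∣ l ∧ 1 ≤ l := fun l hl => h l (Multiset.mem_cons_of_mem hl)
    obtain ⟨k, hk⟩ : p ∣ M.sum := Multiset.dvd_sum fun l hl => (h2 l hl).1
    obtain ⟨h3, h4⟩ := ih h2 k hk
    rw [Multiset.sum_cons, hk, ← mul_add] at hj
    obtain rfl := Nat.eq_of_mul_eq_mul_left (by omega) hj
    obtain ⟨t, rfl⟩ : ∃ s, t = s + 1 := ⟨t - 1, by rcases t with _ | t <;> simp_all only [_root_.and_self, _root_.implies_true, _root_.mul_eq_mul_left_iff, _root_.forall_const, _root_.MulZeroClass.mul_zero, _root_.Multiset.mem_cons, _root_.or_true, _root_.true_or, _root_.forall_eq_or_imp, _root_.dvd_zero, _root_.nonpos_iff_eq_zero, _root_.one_ne_zero, _root_.and_false, _root_.false_and, _root_.dvd_mul_right, _root_.true_and, _root_.add_tsub_cancel_right, _root_.Nat.add_left_cancel_iff]⟩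
    rw [Multiset.prod_cons, Multiset.card_cons, pow_add]
    refine ⟨Nat.mul_le_mul ?_ h3, by omega⟩
    rw [pow_succ']
    exact Nat.mul_le_mul_left _ (Nat.lt_pow_self (by omega))

/-- **the centraliser of a `p`-element** -/
theorem cen_le (hp : p.Prime) (ho : orderOf x = p ^ i) (hn : Fintype.card Ω = nf x + p * j) :
    Nat.card (centralizer ({x} : Set (Perm Ω))) ≤ cb p (nf x) j := by
  have h1 := nf_add x
  obtain ⟨h2, h3⟩ := prod_le hp.two_le x.cycleType (fun l hl => dvd_of_mem hp ho hl) j (by omega)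
  rw [nat_card_centralizer, cb, show Fintype.card Ω - x.cycleType.sum = nf x by omega]
  refine Nat.mul_le_mul (Nat.mul_le_mul_left _ h2) (le_trans (Nat.le_of_dvd (factorial_pos _)
    (Nat.prod_factorial_dvd_factorial_sum _ _)) (factorial_le ?_))
  rwa [Multiset.toFinset_sum_count_eq]

theorem cycleType_eq_rep (hp : p.Prime) (ho : orderOf x = p) (hn : Fintype.card Ω = nf x + p * j) :
    x.cycleType = Multiset.replicate j p ∧ 1 ≤ j := by
  obtain ⟨k, hk⟩ := cycleType_prime_order (ho ▸ hp)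
  have h1 := nf_add x
  rw [ho] at hk
  rw [hk, Multiset.sum_replicate, smul_eq_mul, hn, mul_comm] at h1
  have h2 := Nat.eq_of_mul_eq_mul_left hp.pos (Nat.add_left_cancel h1)
  exact ⟨h2 ▸ hk, by omega⟩

theorem cen_eq (hp : p.Prime) (ho : orderOf x = p) (hn : Fintype.card Ω = nf x + p * j) :
    Nat.card (centralizer ({x} : Set (Perm Ω))) = cb p (nf x) j := by
  obtain ⟨h1, h2⟩ := cycleType_eq_rep hp ho hn
  have h3 := nf_add x
  rw [nat_card_centralizer, cb, show Fintype.card Ω - x.cycleType.sum = nf x by omega, h1, Multiset.prod_replicate,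
    Multiset.toFinset_replicate, if_neg (by omega), Finset.prod_singleton, Multiset.count_replicate_self]

theorem cn_mul (hx : x ∈ alternatingGroup Ω) : cn (⟨x, hx⟩ : alternatingGroup Ω) *
    (alternatingGroup Ω).relIndex (centralizer {x}) = Nat.card (centralizer ({x} : Set (Perm Ω))) := by
  rw [← TH.Alt.card_subgroupOf_mul _ (alternatingGroup Ω), cn]
  congr 3
  ext y
  rw [mem_subgroupOf, mem_centralizer_singleton_iff, mem_centralizer_singleton_iff, Subtype.ext_iff]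
  rfl

theorem cn_le (hx : x ∈ alternatingGroup Ω) :
    cn (⟨x, hx⟩ : alternatingGroup Ω) ≤ Nat.card (centralizer ({x} : Set (Perm Ω))) :=
  Nat.le_of_dvd Nat.card_pos (Dvd.intro _ (cn_mul hx))

theorem cn_half (hx : x ∈ alternatingGroup Ω) (h : ¬ centralizer {x} ≤ alternatingGroup Ω) :
    cn (⟨x, hx⟩ : alternatingGroup Ω) * 2 = Nat.card (centralizer ({x} : Set (Perm Ω))) := by
  obtain ⟨τ, h1, h2⟩ := SetLike.not_le_iff_exists.1 h
  rw [← cn_mul hx, TH.Alt.relIndex_alt_eq h1 (TH.Alt.sign_eq_neg h2)]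

/-- the centraliser in the alternating group of an element of prime order -/
theorem cn_prime (hx : x ∈ alternatingGroup Ω) (hp : p.Prime) (ho : orderOf x = p) (hn : Fintype.card Ω = nf x + p * j)
    (h : 2 ≤ nf x ∨ 2 ≤ j) : cn (⟨x, hx⟩ : alternatingGroup Ω) * 2 = cb p (nf x) j := by
  rw [← cen_eq hp ho hn]
  refine cn_half hx fun k => ?_
  obtain ⟨-, h1, h2⟩ := centralizer_le_alternating_iff.1 k
  have h3 := nf_add x
  have h4 := h2 p
  rw [(cycleType_eq_rep hp ho hn).1, Multiset.count_replicate_self] at h4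
  omega

theorem two_mul_card (h : 2 ≤ Fintype.card Ω) : 2 * Nat.card (alternatingGroup Ω) = (Fintype.card Ω)! := by
  have := Fintype.one_lt_card_iff_nontrivial.1 h
  rw [two_mul_nat_card_alternatingGroup, Nat.card_perm, Nat.card_eq_fintype_card]

theorem good_fx (h2 : 2 ≤ Fintype.card Ω) (hx : x ∈ H) (he : x ∈ alternatingGroup Ω) {c : ℕ}
    (h : fx (al H) ⟨x, he⟩ ≤ c) (hc : 2 * c ^ 3 * Nat.card (al H) ≤ (Fintype.card Ω)!) : Good (al H) := by
  refine good_of_le (a := ⟨x, he⟩) hx h (Nat.le_of_mul_le_mul_left ?_ two_pos)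
  rwa [two_mul_card h2, ← mul_assoc]

theorem good_cen (h2 : 2 ≤ Fintype.card Ω) (hx : x ∈ H) (he : x ∈ alternatingGroup Ω) {c : ℕ}
    (h : Nat.card (centralizer ({x} : Set (Perm Ω))) ≤ c) (hc : 2 * c ^ 3 * Nat.card (al H) ≤ (Fintype.card Ω)!) :
    Good (al H) := good_fx h2 hx he ((fx_le_cn _ _).trans ((cn_le he).trans h)) hc

theorem even_of_odd (hp : p.Prime) (h2 : p ≠ 2) (ho : orderOf x = p ^ i) : x ∈ alternatingGroup Ω := by
  have h1 : sign x ^ p ^ i = 1 := by rw [← map_pow, ← ho, pow_orderOf_eq_one, map_one]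
  rcases Int.units_eq_one_or (sign x) with h | h
  · exact h
  · rw [h, (hp.odd_of_ne_two h2).pow.neg_one_pow] at h1
    exact absurd h1 (by decide)

/-- **criterion**: a `p`-element with a small centraliser -/
theorem good_cb (h2 : 2 ≤ Fintype.card Ω) (hx : x ∈ H) (hp : p.Prime) (hp2 : p ≠ 2) (ho : orderOf x = p ^ i)
    (hn : Fintype.card Ω = nf x + p * j) (hc : 2 * cb p (nf x) j ^ 3 * Nat.card (al H) ≤ (Fintype.card Ω)!) : Good (al H) :=
  good_cen h2 hx (even_of_odd hp hp2 ho) (cen_le hp ho hn) hc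

theorem card_al_dvd (H : Subgroup (Perm Ω)) : Nat.card (al H) ∣ Nat.card H :=
  Dvd.intro _ (TH.Alt.card_subgroupOf_mul H _)

theorem card_al_le (H : Subgroup (Perm Ω)) : Nat.card (al H) ≤ Nat.card H := Nat.le_of_dvd Nat.card_pos (card_al_dvd H)

theorem Pr.four (h : Pr H) : Nat.card (al H) ≤ 4 ^ Fintype.card Ω := (card_al_le H).trans (S0725.result H h.prim h.nle)

theorem Pr.boch (h : Pr H) : Nat.card (al H) * ((Fintype.card Ω + 1) / 2)! ≤ (Fintype.card Ω)! :=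
  (Nat.mul_le_mul_right _ (card_al_le H)).trans (H427.bochert H h.prim h.nle)

theorem NF.card_dvd {N : Subgroup (Perm Ω)} (h : NF H N) : Nat.card N ∣ Nat.card (al H) := by
  rw [← Nat.card_congr (subgroupOfEquivOfLe h.even).toEquiv]
  exact card_dvd_of_le fun x hx => h.le hx

theorem NF.deg_dvd {N : Subgroup (Perm Ω)} (h : NF H N) : Fintype.card Ω ∣ Nat.card N := by
  have := h.tr
  obtain ⟨ω⟩ : Nonempty Ω := Fintype.card_pos_iff.1 (by have := h.card; omega)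
  rw [← Nat.card_eq_fintype_card, ← index_stabilizer_of_transitive N ω]
  exact index_dvd_card _

theorem orderOf_eq (ho : orderOf x = p ^ i) (h1 : nf x < Fintype.card Ω) {G : Subgroup (Perm Ω)}
    (hx : x ∈ G) (h2 : ¬ p ^ 2 ∣ Nat.card G) : orderOf x = p := by
  have h3 : orderOf x ∣ Nat.card G := by
    rw [← Nat.card_zpowers]
    exact card_dvd_of_le (zpowers_le.2 hx)
  rcases i with _ | _ | i
  · have h4 := nf_add x
    rw [pow_zero, orderOf_eq_one_iff] at ho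
    rw [ho, cycleType_one, Multiset.sum_zero] at h4
    rw [ho] at h1
    omega
  · simpa using ho
  · exact absurd ((pow_dvd_pow p (by omega)).trans (ho ▸ h3)) h2

theorem good_seven (h : Pr H) (hx : x ∈ H) (ho : orderOf x = 7 ^ i) (hf : 8 * nf x ≤ Fintype.card Ω)
    (hn : 49 ≤ Fintype.card Ω) : Good (al H) := by
  obtain ⟨j, hj⟩ := exists_j (by norm_num) ho
  exact good_cb (by omega) hx (by norm_num) (by norm_num) ho hj ((Q4_seven _ j (by omega) (by omega)).le hj h.four)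

theorem good_two {c : ℕ} (hc : c = 1 ∨ c = 2 ∨ c = 4 ∨ c = 5) (hx : x ∈ H) (ho : orderOf x = (2 * c + 3) ^ i)
    (hf : (3 * c + 3) * nf x ≤ c * Fintype.card Ω) (hn : 25 ≤ Fintype.card Ω)
    (hA : Nat.card (al H) ≤ 2 ^ Fintype.card Ω) : Good (al H) := by
  have hp : (2 * c + 3).Prime := by rcases hc with rfl | rfl | rfl | rfl <;> norm_num
  obtain ⟨j, hj⟩ := exists_j hp ho
  refine good_cb (by omega) hx hp (by omega) ho hj (Q.le ?_ hj hA)
  rcases hc with rfl | rfl | rfl | rfl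
  · exact Q_five _ j (by omega) (by omega)
  · exact Q_seven _ j (by omega) (by omega)
  · exact Q_eleven _ j (by omega) (by omega)
  · exact Q_thirteen _ j (by omega) (by omega)

theorem good_big (h : Pr H) (hx : x ∈ H) (hp : p.Prime) (h11 : 11 ≤ p) (ho : orderOf x = p ^ i)
    (hf : (p + 1) * nf x ≤ Fintype.card Ω) : Good (al H) := by
  obtain ⟨j, hj⟩ := exists_j hp ho
  have h7 := h.card
  have h1 : nf x ≤ j := Nat.le_of_mul_le_mul_left (by rw [hj, add_mul] at hf; omega) hp.pos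
  have h2 : 1 ≤ j := by
    rcases j with _ | j
    · omega
    · omega
  by_cases h3 : 17 ≤ p ∨ 2 ≤ j
  · exact good_cb (by omega) hx hp (by omega) ho hj ((Q4_big hp h11 _ j h2 h3 h1).le hj h.four)
  obtain rfl : j = 1 := by omega
  have h4 : p = 11 ∨ p = 13 := by
    have : p < 17 := by omega
    interval_cases p <;> simp_all (config := { decide := true }) only [_root_.mul_one, _root_.le_add_iff_nonneg_left, _root_.zero_le, _root_.Nat.reduceAdd]
  have h5 : nf x = 0 ∨ nf x = 1 := by omega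
  rcases h4 with rfl | rfl
  swap
  · refine good_cb (by omega) hx hp (by omega) ho hj (le_of_bochert ?_ h.boch)
    rcases h5 with h5 | h5 <;> rw [hj, h5] <;> decide +kernel
  have he := even_of_odd hp (by norm_num) ho
  have h6 := two_mul_card (Ω := Ω) (by omega)
  have h8 : Nat.card (alternatingGroup Ω) = 19958400 ∨ Nat.card (alternatingGroup Ω) = 239500800 := by
    have e1 : (0 + 11 * 1)! = 39916800 := by decide +kernel
    have e2 : (1 + 11 * 1)! = 479001600 := by decide +kernel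
    rcases h5 with h5 | h5 <;> rw [hj, h5] at h6 <;> omega
  have h9 : ¬ 11 ^ 2 ∣ Nat.card (alternatingGroup Ω) := by rcases h8 with h8 | h8 <;> rw [h8] <;> norm_num
  have ho' := orderOf_eq ho (by omega) he h9
  have ho2 : orderOf (⟨x, he⟩ : alternatingGroup Ω) = 11 := by rw [← ho', ← orderOf_coe]
  have k1 := syl (A := al H) (a := ⟨x, he⟩) hx hp ho2 fun k => h9 (k.trans (card_subgroup_dvd_card _))
  have k2 := Nat.le_of_dvd (nA_pos _ _) (dvd_nA (A := al H) (a := ⟨x, he⟩) hx ho2)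
  have k3 := nn_mod hp ho2 h9
  have k4 : cn (⟨x, he⟩ : alternatingGroup Ω) ∣ 11 := by
    refine (Dvd.intro _ (cn_mul he)).trans ?_
    rw [cen_eq hp ho' hj]
    rcases h5 with h5 | h5 <;> rw [h5] <;> decide
  have k5 : nn (⟨x, he⟩ : alternatingGroup Ω) ∣ 110 := (nn_dvd hp ho2).trans (Nat.mul_dvd_mul_left 10 k4)
  have k6 : nn (⟨x, he⟩ : alternatingGroup Ω) ≠ 110 := fun k => by
    rw [k] at k3
    omega
  have k7 : nn (⟨x, he⟩ : alternatingGroup Ω) ≤ 55 := by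
    obtain ⟨d, hd⟩ := k5
    rcases d with _ | _ | d
    · omega
    · omega
    · nlinarith only [hd]
  refine good_fx (c := 5) (by omega) hx he (by nlinarith only [k1, k2, k7]) (le_of_bochert ?_ h.boch)
  rcases h5 with h5 | h5 <;> rw [hj, h5] <;> decide +kernel

end perm

end Cfsg.Agent.N2.Alt
end

-- part: N2/Alt/Pel
section
/-!
# N2 (S3519), alternating groups: `p`-elements of simple groups with few fixed points (helper51)
-/

set_option autoImplicit false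
set_option linter.unusedSectionVars false

namespace Cfsg.Agent.N2.Alt

open Equiv Equiv.Perm MulAction Subgroup Cfsg.Agent.FP3 Nat

variable {S : Type*} [Group S] [Finite S] [IsSimpleGroup S] {p : ℕ}

theorem gen_p (hp : p.Prime) (hd : p ∣ Nat.card S) : _root_.Subgroup.closure {g : S | ∃ k : ℕ, orderOf g = p ^ k} = ⊤ := by
  have : Fact p.Prime := ⟨hp⟩
  have hn : (_root_.Subgroup.closure {g : S | ∃ k : ℕ, orderOf g = p ^ k}).Normal := by
    refine ⟨fun x hx g => ?_⟩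
    induction hx using closure_induction with
    | mem x hx =>
      obtain ⟨k, hk⟩ := hx
      exact subset_closure ⟨k, by rw [← hk]; exact (MulAut.conj g).orderOf_eq x⟩
    | one => simp
    | mul x y _ _ h1 h2 => simpa only [mul_assoc, _root_.inv_mul_cancel_left] using mul_mem h1 h2
    | inv x _ h => simpa only [mul_assoc, _root_.mul_inv_rev, _root_.inv_inv] using inv_mem h
  refine hn.eq_bot_or_eq_top.resolve_left fun h => ?_
  obtain ⟨x, hx⟩ := exists_prime_orderOf_dvd_card' p hd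
  have h1 : x ∈ _root_.Subgroup.closure {g : S | ∃ k : ℕ, orderOf g = p ^ k} := subset_closure ⟨1, by rw [hx, pow_one]⟩
  rw [h, mem_bot] at h1
  rw [h1, orderOf_one] at hx
  exact hp.one_lt.ne hx

theorem not_quot {X : Type*} [Group X] [Nontrivial X] (h : ¬ Nonempty (S ≃* X)) (N : Subgroup S) [hN : N.Normal] :
    ¬ Nonempty (S ⧸ N ≃* X) := by
  rintro ⟨e⟩
  rcases hN.eq_bot_or_eq_top with rfl | rfl
  · exact h ⟨QuotientGroup.quotientBot.symm.trans e⟩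
  · have : Subsingleton (S ⧸ (⊤ : Subgroup S)) := QuotientGroup.subsingleton_quotient_top
    exact not_subsingleton X e.symm.injective.subsingleton

/-- the prime `p` is not exceptional for `S` -/
def NE (p : ℕ) (S : Type*) [Group S] : Prop :=
  (∀ m, p + 1 < m → m < p ^ 2 - p → ¬ Nonempty (S ≃* alternatingGroup (Fin m))) ∧
    ∀ k, p + 1 = 2 ^ k → ¬ Nonempty (S ≃* Matrix.SpecialLinearGroup (Fin 2) (GaloisField 2 k))

theorem nontrivial_sl (F : Type*) [Field F] : Nontrivial (Matrix.SpecialLinearGroup (Fin 2) F) :=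
  ⟨⟨⟨!![1, 1; 0, 1], by simp [Matrix.det_fin_two]⟩, 1, fun h => by
    simpa using congrFun (congrFun (congrArg Subtype.val h) 0) 1⟩⟩

section

variable {Ω : Type*} [Finite Ω] [MulAction S Ω] [FaithfulSMul S Ω]

/-- **S3578** for a simple group -/
theorem pel_act (htr : IsPretransitive S Ω) (hp : p.Prime) (hd : p ∣ Nat.card S) (h : NE p S) :
    ∃ x : S, (∃ k, orderOf x = p ^ k) ∧ (p + 1) * Nat.card (fixedBy Ω x) ≤ Nat.card Ω := by
  have : Fact p.Prime := ⟨hp⟩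
  refine S3578.result htr p hd (gen_p hp hd) (fun N _ m h1 h2 => ?_) fun N _ k h1 => ?_
  · have : Nontrivial (alternatingGroup (Fin m)) :=
      alternatingGroup.nontrivial_of_three_le_card (by have := hp.two_le; simp only [Nat.card_eq_fintype_card, Fintype.card_fin]; omega)
    exact not_quot (h.1 m h1 h2) N
  · have := nontrivial_sl (GaloisField 2 k)
    exact not_quot (h.2 k h1) N

/-- **S3569** for a simple group -/
theorem hel_act (htr : IsPretransitive S Ω) (hp : p.Prime) (hd : p ∣ Nat.card S) :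
    ∃ x : S, (∃ k, orderOf x = p ^ k) ∧ (2 * p - 1) * Nat.card (fixedBy Ω x) ≤ (p - 1) * Nat.card Ω := by
  have : Fact p.Prime := ⟨hp⟩
  exact S3569.result htr p hd (gen_p hp hd)

end

theorem faithful_quot {K : Subgroup S} (hK : K ≠ ⊤) : FaithfulSMul S (S ⧸ K) := by
  have h1 : (toPermHom S (S ⧸ K)).ker = ⊥ := by
    rw [← normalCore_eq_ker]
    exact (inferInstance : K.normalCore.Normal).eq_bot_or_eq_top.resolve_right fun h => hK (eq_top_iff.2 (h ▸ normalCore_le K))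
  exact ⟨fun h => (MonoidHom.ker_eq_bot_iff _).1 h1 (Equiv.ext h)⟩

theorem pel {K : Subgroup S} (hK : K ≠ ⊤) (hp : p.Prime) (hd : p ∣ Nat.card S) (h : NE p S) :
    ∃ x : S, (∃ k, orderOf x = p ^ k) ∧ (p + 1) * fx K x ≤ K.index := by
  have := faithful_quot hK
  exact pel_act (Ω := S ⧸ K) inferInstance hp hd h

theorem hel {K : Subgroup S} (hK : K ≠ ⊤) (hp : p.Prime) (hd : p ∣ Nat.card S) :
    ∃ x : S, (∃ k, orderOf x = p ^ k) ∧ (2 * p - 1) * fx K x ≤ (p - 1) * K.index := by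
  have := faithful_quot hK
  exact hel_act (Ω := S ⧸ K) inferInstance hp hd

section

variable {Ω : Type} [Fintype Ω] [DecidableEq Ω] {H N : Subgroup (Perm Ω)} [IsSimpleGroup N]

theorem NF.pel (h : NF H N) (hp : p.Prime) (hd : p ∣ Nat.card N) (hE : NE p N) :
    ∃ x ∈ N, (∃ k, orderOf x = p ^ k) ∧ (p + 1) * nf x ≤ Fintype.card Ω := by
  obtain ⟨x, ⟨k, h1⟩, h2⟩ := pel_act h.tr hp hd hE
  exact ⟨x, x.2, ⟨k, by rw [orderOf_coe, h1]⟩, by rwa [Nat.card_eq_fintype_card (α := Ω)] at h2⟩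

theorem NF.hel (h : NF H N) (hp : p.Prime) (hd : p ∣ Nat.card N) :
    ∃ x ∈ N, (∃ k, orderOf x = p ^ k) ∧ (2 * p - 1) * nf x ≤ (p - 1) * Fintype.card Ω := by
  obtain ⟨x, ⟨k, h1⟩, h2⟩ := hel_act h.tr hp hd
  exact ⟨x, x.2, ⟨k, by rw [orderOf_coe, h1]⟩, by rwa [Nat.card_eq_fintype_card (α := Ω)] at h2⟩

end

end Cfsg.Agent.N2.Alt
end

-- part: N2/Alt/Tab
section
/-!
# N2 (S3519), alternating groups: the three kinds of simple groups (helper51)
-/

set_option autoImplicit false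
set_option maxRecDepth 100000
set_option linter.unusedSectionVars false

namespace Cfsg.Agent.N2.Alt

open Cfsg.Agent.OrdDiv Cfsg.Agent.H436 Nat

/-- the simple `{2, 3, 5, 7}`-groups: name, order, a multiple of `|Out|` -/
def L7 : List (Grp × ℕ × ℕ) :=
  [(.alt 5, 60, 2), (.alt 6, 360, 4), (.alt 7, 2520, 2), (.alt 8, 20160, 2), (.alt 9, 181440, 2), (.alt 10, 1814400, 2),
    (.psl 2 4, 60, 2), (.psl 2 5, 60, 2), (.psl 2 7, 168, 2), (.psl 2 8, 504, 3), (.psl 2 9, 360, 4),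
    (.psl 2 49, 58800, 4), (.psl 3 2, 168, 2), (.psl 3 4, 20160, 12), (.psl 4 2, 20160, 2), (.psp 2 3, 25920, 2),
    (.psp 2 7, 138297600, 2), (.psp 3 2, 1451520, 1), (.psu 3 3, 6048, 2), (.psu 3 5, 126000, 6), (.psu 4 2, 25920, 2),
    (.psu 4 3, 3265920, 8), (.oplus 4 2, 174182400, 6), (.j2, 604800, 2)]

/-- no prime divisor from a list -/
def sm (n : ℕ) : Bool := [11, 13, 17, 19, 31, 41, 43, 73].all fun p => n % p != 0

theorem sm_spec {n : ℕ} (h : ∀ p, p.Prime → p ∣ n → p < 11) : sm n = true := by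
  unfold sm
  rw [List.all_eq_true]
  intro p hp
  rw [bne_iff_ne]
  intro h0
  have h1 := Nat.dvd_of_mod_eq_zero h0
  simp only [List.mem_cons, List.not_mem_nil, or_false] at hp
  rcases hp with rfl | rfl | rfl | rfl | rfl | rfl | rfl | rfl <;> exact absurd (h _ (by norm_num) h1) (by norm_num)

theorem lt_eleven {p : ℕ} (hp : p.Prime) (h : p < 11) : p = 2 ∨ p = 3 ∨ p = 5 ∨ p = 7 := by
  interval_cases p <;> simp_all (config := { decide := true })

theorem psl_sm {q : ℕ} (hq : IsPrimePow q) (h4 : 4 ≤ q) (h : ∀ p, p.Prime → p ∣ q * (q ^ 2 - 1) → p < 11) :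
    q ∈ [4, 5, 7, 8, 9, 49] := by
  have ht := sm_spec h
  obtain ⟨p, f, hp, hf, rfl⟩ := (isPrimePow_nat_iff q).1 hq
  have hpm := lt_eleven hp (h p hp ((dvd_pow_self p (by omega)).mul_right _))
  have hf3 : f ≤ 3 := by
    by_contra hlt
    obtain ⟨r, hr1, hr2, hr3, hr4⟩ := Lib.Zsigmondy.exists_primitive (a := p) (n := 2 * f) hp.two_le
      (by omega) (by omega) (by omega)
    have hrm := lt_eleven hr1 (h r hr1 (Prim.dvd_mq ⟨hr1, hr2, hr4⟩ dvd_rfl))
    have h1 := Nat.le_of_dvd (by have := hr1.two_le; omega) hr3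
    omega
  have hf' : f = 1 ∨ f = 2 ∨ f = 3 := by omega
  rcases hpm with rfl | rfl | rfl | rfl <;> rcases hf' with rfl | rfl | rfl
  all_goals first | decide | exact absurd ht (by decide) | exact absurd h4 (by decide)

theorem L7_kfl : ∀ g ∈ KFL, sm (ordN g) = true → g ∈ L7.map Prod.fst := by decide +kernel

theorem L7_ok : ∀ e ∈ L7, ordN e.1 = e.2.1 ∧ SP.Mon.NL.okN e.1 = true ∧ SP.Mon.NL.outN e.1 = e.2.2 := by decide +kernel

variable {S : Type} [Group S] [Finite S] [IsSimpleGroup S]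

/-- **simple groups without prime divisors `≥ 11`** -/
theorem smooth (hna : ¬ ∀ a b : S, a * b = b * a) (h : ∀ p, p.Prime → p ∣ Nat.card S → p < 11) :
    ∃ e ∈ L7, Real e.1 S ∧ Nat.card S = e.2.1 ∧ Nat.card (MulAut S) ∣ e.2.2 * e.2.1 := by
  have hc : Nat.card S ≠ 0 := Nat.card_pos.ne'
  have hsub : (Nat.card S).primeFactors ⊆ {2, 3, 5, 7} := fun p hp => by
    have := lt_eleven (Nat.prime_of_mem_primeFactors hp) (h p (Nat.prime_of_mem_primeFactors hp)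
      (Nat.dvd_of_mem_primeFactors hp))
    simpa using this
  obtain ⟨g, hg, h1⟩ := k_four_simple (G := S) (fun hc => hna fun a b => hc.is_comm.comm a b)
    ((Finset.card_le_card hsub).trans (by decide))
  have h2 : g ∈ L7.map Prod.fst := by
    rcases h1 with ⟨q, rfl⟩ | ⟨q, rfl⟩ | h1
    · obtain ⟨-, h4, hq⟩ := hg.cond
      have hf := psl_two_factors hq.two_le hg.eq
      have h3 := psl_sm hq (h4 rfl) fun p hp hd => h p hp (Nat.dvd_of_mem_primeFactors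
        (hf ▸ Nat.mem_primeFactors.2 ⟨hp, hd, mq_ne_zero hq.two_le⟩))
      simp only [List.mem_cons, List.not_mem_nil, or_false] at h3
      rcases h3 with rfl | rfl | rfl | rfl | rfl | rfl <;> decide
    · exfalso
      obtain ⟨m, hm, rfl⟩ := hg.cond
      have h2 : 1 * Nat.card S = (2 ^ (2 * m + 1)) ^ 2 * ((2 ^ (2 * m + 1) - 1) * ((2 ^ (2 * m + 1)) ^ 2 + 1)) := hg.eq
      have h4 := Classification.ThreePrimes.four_le_suzuki (n := Nat.card S) hm hc
        ⟨1, by rw [mul_one, ← one_mul (Nat.card S), h2]; ring⟩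
      have h3 : 3 ∣ Nat.card S := Nat.dvd_of_mem_primeFactors (by
        rw [Finset.eq_of_subset_of_card_le hsub (le_trans (by decide) h4)]
        decide)
      rw [one_mul] at h2
      rw [h2] at h3
      have hq : 2 ^ (2 * m + 1) % 3 = 2 := by
        rw [pow_succ, pow_mul, Nat.mul_mod, Nat.pow_mod]
        norm_num
      obtain ⟨k, hk⟩ : ∃ k, 2 ^ (2 * m + 1) = 3 * k + 2 := ⟨2 ^ (2 * m + 1) / 3, by omega⟩
      rcases Nat.prime_three.dvd_mul.1 h3 with h4 | h4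
      · have := (Nat.prime_dvd_prime_iff_eq Nat.prime_three Nat.prime_two).1
          (Nat.prime_three.dvd_of_dvd_pow (Nat.prime_three.dvd_of_dvd_pow h4))
        omega
      · rcases Nat.prime_three.dvd_mul.1 h4 with h5 | h5
        · omega
        · rw [hk, show (3 * k + 2) ^ 2 + 1 = 3 * (3 * k ^ 2 + 4 * k + 1) + 2 by ring] at h5
          (clear * - h5; omega)
    · exact L7_kfl g h1 (hg.ord ▸ sm_spec h)
  obtain ⟨e, he, rfl⟩ := List.mem_map.1 h2
  obtain ⟨k1, k2, k3⟩ := L7_ok e he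
  exact ⟨e, he, hg.real, hg.ord.trans k1, k1 ▸ k3 ▸ SP.Mon.NL.aut_dvd hna k2 hg.real hg.ord⟩

theorem card_sl (k : ℕ) (hk : k ≠ 0) :
    Nat.card (Matrix.SpecialLinearGroup (Fin 2) (GaloisField 2 k)) = 2 ^ k * ((2 ^ k) ^ 2 - 1) := by
  have := Fintype.ofFinite (GaloisField 2 k)
  rw [ClassicalGeometry.PSL2Basic.card_SL2, ← Nat.card_eq_fintype_card, GaloisField.card 2 k hk]

theorem not_NE {p : ℕ} (h : ¬ NE p S) : (∃ m, p + 1 < m ∧ m < p ^ 2 - p ∧ Nonempty (S ≃* alternatingGroup (Fin m))) ∨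
    ∃ k, p + 1 = 2 ^ k ∧ (k ≠ 0 → Nat.card S = 2 ^ k * ((2 ^ k) ^ 2 - 1)) := by
  by_contra k
  refine h ⟨fun m h1 h2 h3 => k (Or.inl ⟨m, h1, h2, h3⟩), fun j h1 ⟨e⟩ => k (Or.inr ⟨j, h1, fun h2 => ?_⟩)⟩
  rw [Nat.card_congr e.toEquiv, card_sl j h2]

theorem sl_mono {a b : ℕ} (h : a < b) : 2 ^ a * ((2 ^ a) ^ 2 - 1) < 2 ^ b * ((2 ^ b) ^ 2 - 1) := by
  have h1 : 2 ^ a < 2 ^ b := Nat.pow_lt_pow_right (by norm_num) h
  have h2 : (2 ^ a) ^ 2 < (2 ^ b) ^ 2 := Nat.pow_lt_pow_left h1 (by norm_num)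
  have h3 : 1 ≤ (2 ^ a) ^ 2 := Nat.one_le_pow _ _ (by positivity)
  exact Nat.mul_lt_mul_of_lt_of_le h1 (by omega) (by omega)

/-- a prime divisor `≥ 11` -/
theorem big {p : ℕ} (hp : p.Prime) (h11 : 11 ≤ p) (hd : p ∣ Nat.card S) :
    (∃ p, p.Prime ∧ 11 ≤ p ∧ p ∣ Nat.card S ∧ NE p S) ∨ ∃ m, 13 ≤ m ∧ Nonempty (S ≃* alternatingGroup (Fin m)) := by
  by_cases h : NE p S
  · exact Or.inl ⟨p, hp, h11, hd, h⟩
  rcases not_NE h with ⟨m, h1, -, h2⟩ | ⟨k, h1, h2⟩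
  · exact Or.inr ⟨m, by omega, h2⟩
  have h3 : 4 ≤ k := by
    by_contra h3
    have : 2 ^ k ≤ 2 ^ 3 := Nat.pow_le_pow_right (by norm_num) (by omega)
    omega
  obtain ⟨r, r1, r2, r3, -⟩ := Lib.Zsigmondy.exists_primitive (a := 2) (n := 2 * k) le_rfl (by omega) (by omega) (by omega)
  have r4 := Nat.le_of_dvd (by have := r1.two_le; omega) r3
  have r5 : 11 ≤ r := by
    by_contra r5
    have := lt_eleven r1 (by omega)
    omega
  have r6 : r ∣ Nat.card S := by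
    rw [h2 (by omega), ← pow_mul, mul_comm k]
    exact ((r2 _).2 dvd_rfl).mul_left _
  by_cases h' : NE r S
  · exact Or.inl ⟨r, r1, r5, r6, h'⟩
  rcases not_NE h' with ⟨m, h4, -, h5⟩ | ⟨j, h4, h5⟩
  · exact Or.inr ⟨m, by omega, h5⟩
  have h6 : j ≠ 0 := by
    rintro rfl
    omega
  have h7 := (h2 (by omega)).symm.trans (h5 h6)
  obtain rfl : k = j := by
    rcases lt_trichotomy k j with h8 | h8 | h8
    · exact absurd h7 (sl_mono h8).ne
    · exact h8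
    · exact absurd h7 (sl_mono h8).ne'
  have h8 := Nat.le_of_dvd (by omega) ((r2 k).1 (by rw [← h4]; simp))
  omega

/-- **the three kinds of non-abelian simple groups** -/
theorem kind (hna : ¬ ∀ a b : S, a * b = b * a) :
    (∃ p, p.Prime ∧ 11 ≤ p ∧ p ∣ Nat.card S ∧ NE p S) ∨ (∃ m, 13 ≤ m ∧ Nonempty (S ≃* alternatingGroup (Fin m))) ∨
      ∃ e ∈ L7, Real e.1 S ∧ Nat.card S = e.2.1 ∧ Nat.card (MulAut S) ∣ e.2.2 * e.2.1 := by
  by_cases h : ∀ p, p.Prime → p ∣ Nat.card S → p < 11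
  · exact Or.inr (Or.inr (smooth hna h))
  push Not at h
  obtain ⟨p, hp, hd, h11⟩ := h
  exact (big hp h11 hd).imp_right Or.inl

/-- a prime is not exceptional, read off the order -/
theorem NE_of_card {T : Type*} [Group T] {p : ℕ} (hp : 1 ≤ p) (h1 : ∀ m < p ^ 2 - p, p + 1 < m → 2 * Nat.card T ≠ m !)
    (h2 : ∀ k ≤ p, p + 1 = 2 ^ k → Nat.card T ≠ 2 ^ k * ((2 ^ k) ^ 2 - 1)) : NE p T := by
  refine ⟨fun m k1 k2 ⟨e⟩ => h1 m k2 k1 ?_, fun k k1 ⟨e⟩ => h2 k ?_ k1 ?_⟩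
  · rw [Nat.card_congr e.toEquiv, two_mul_card (by rw [Fintype.card_fin]; omega), Fintype.card_fin]
  · have := Nat.lt_two_pow_self (n := k)
    omega
  · rw [Nat.card_congr e.toEquiv, card_sl k]
    rintro rfl
    omega

end Cfsg.Agent.N2.Alt
end

private theorem dce_40d6829e8c24 : _root_.True := by
  try have : _root_.True := by simp only [_root_.Cfsg.Agent.N2.Alt.cb.eq_1]
  try have : _root_.True := by simp only [_root_.Cfsg.Agent.N2.cn.eq_1]
  try have : _root_.True := by simp only [_root_.Cfsg.Agent.N2.Alt.nA.eq_1]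
  try have : _root_.True := by simp only [_root_.Cfsg.Agent.N2.Alt.nn.eq_1]
  try have : _root_.True := by simp only [_root_.Cfsg.Agent.N2.Alt.Pr.congr_simp]
  exact _root_.True.intro
end

-- part: N2/Alt/Main
section
prune_inst 0x4d52011000d0010000000000410003c02e0000100002b000141000e000800a100000206000c00250210e8a2800005000000000040000000000400000000000120802a920000100c04020007801084400000000000000000000000000000000000000000000
set_option linter.all false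
open scoped Cfsg.Agent.FastGrp

-- part: N2/Alt/AS1
section
/-!
# N2 (S3519), box AS, part 1: elements of `A_m` with few fixed cosets (helper42)
-/

set_option autoImplicit false
set_option linter.unusedSectionVars false

namespace Cfsg.Agent.N2.Alt.AS

open Equiv Equiv.Perm MulAction Subgroup Cfsg.Agent.FP3 Cfsg.Agent.TH.Alt Cfsg.Agent.TH.Sim.Al
open scoped Pointwise

section general

variable {G X : Type*} [Group G] [MulAction G X]

/-- fixed points in a transitive action and fixed cosets -/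
theorem card_fixedBy_eq [IsPretransitive G X] (ω : X) (g : G) : Nat.card (fixedBy X g) = fx (stabilizer G ω) g := by
  have hb : Function.Bijective (ofQuotientStabilizer G ω) := ⟨injective_ofQuotientStabilizer G ω, fun y => by
    obtain ⟨t, rfl⟩ := _root_.MulAction.exists_smul_eq G ω y
    exact ⟨t, rfl⟩⟩
  refine (Nat.card_congr ((Equiv.ofBijective _ hb).subtypeEquiv fun x => ?_)).symm
  change g • x = x ↔ g • ofQuotientStabilizer G ω x = ofQuotientStabilizer G ω x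
  rw [← ofQuotientStabilizer_smul, hb.1.eq_iff]

theorem fx_comap {G' : Type*} [Group G'] (e : G ≃* G') (U : Subgroup G') (g : G) :
    fx (U.comap e.toMonoidHom) g = fx U (e g) := by
  refine Nat.card_congr ((Quotient.congr e.toEquiv fun a b => ?_).subtypeEquiv fun x => ?_)
  · rw [QuotientGroup.leftRel_apply, QuotientGroup.leftRel_apply, mem_comap]
    simp only [_root_.MulEquiv.toMonoidHom_eq_coe, _root_.MonoidHom.coe_coe, _root_.map_mul, _root_.map_inv, _root_.MulEquiv.toEquiv_eq_coe, _root_.EquivLike.coe_coe]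
  · induction x using QuotientGroup.induction_on with | H t => ?_
    change g • (t : G ⧸ U.comap e.toMonoidHom) = t ↔ e g • ((e t : G') : G' ⧸ U) = (e t : G')
    rw [smul_mk_iff, smul_mk_iff, mem_comap]
    simp only [_root_.MulEquiv.toMonoidHom_eq_coe, _root_.MonoidHom.coe_coe, _root_.map_mul, _root_.map_inv]

variable [Finite G]

/-- the fixed point ratio is monotone -/
theorem fx_ratio {U V : Subgroup G} {y : G} (h : ∀ t, t⁻¹ * y * t ∈ U → t⁻¹ * y * t ∈ V) :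
    fx U y * V.index ≤ fx V y * U.index := by
  have h1 := card_pre U fun x => y • x = x
  have h2 := card_pre V fun x => y • x = x
  have h3 : Nat.card {t : G // y • (t : G ⧸ U) = t} ≤ Nat.card {t : G // y • (t : G ⧸ V) = t} :=
    Nat.card_le_card_of_injective (fun t => ⟨t.1, (smul_mk_iff V y t.1).2 (h _ ((smul_mk_iff U y t.1).1 t.2))⟩)
      fun _ _ e => Subtype.ext (Subtype.mk.inj e)
  rw [h1, h2] at h3
  change fx U y * _ ≤ fx V y * _ at h3
  refine Nat.le_of_mul_le_mul_right ?_ (Nat.mul_pos (Nat.card_pos (α := U)) (Nat.card_pos (α := V)))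
  calc _ = fx U y * Nat.card U * (V.index * Nat.card V) := by ring
    _ ≤ fx V y * Nat.card V * (U.index * Nat.card U) := by
      rw [V.index_mul_card, U.index_mul_card]
      exact Nat.mul_le_mul_right _ h3
    _ = _ := by ring

theorem fx_eq_zero {U : Subgroup G} {y : G} (h : ∀ t, t⁻¹ * y * t ∉ U) : fx U y = 0 := by
  refine Nat.card_eq_zero.2 (Or.inl ⟨fun ⟨x, hx⟩ => ?_⟩)
  induction x using QuotientGroup.induction_on with | H t => ?_
  exact h t ((smul_mk_iff U y t).1 hx)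

theorem fx_eq_zero_of_not_dvd {U : Subgroup G} {y : G} (h : ¬ orderOf y ∣ Nat.card U) : fx U y = 0 :=
  fx_eq_zero fun t ht => h <| by
    have h1 : orderOf (t⁻¹ * y * t) = orderOf y := by
      have := orderOf_injective (MulAut.conj t⁻¹).toMonoidHom (MulAut.conj t⁻¹).injective y
      simpa only [_root_.map_inv, _root_.MulEquiv.toMonoidHom_eq_coe, _root_.MonoidHom.coe_coe, _root_.MulAut.inv_apply, _root_.MulAut.conj_symm_apply] using this
    exact h1 ▸ U.orderOf_dvd_natCard ht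

end general

section perm

variable {α : Type*} [Fintype α] [DecidableEq α]

/-- an element of prime order `p` which stabilises a set with less than `p` points fixes it pointwise -/
theorem fix_of_SW {O : Finset α} {σ : Perm α} {p : ℕ} (hp : p.Prime) (h1 : σ ^ p = 1) (h2 : σ ∈ SW O) (h3 : O.card < p)
    {o : α} (ho : o ∈ O) : σ o = o := by
  have : Fact p.Prime := ⟨hp⟩
  let τ : Perm O := σ.subtypePerm h2
  have h4 : τ ^ p ^ 1 = 1 := by
    have h8 := subtypePerm_pow σ p h2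
    rw [pow_one]
    refine h8.trans ?_
    ext x
    simp only [h1, _root_.Equiv.Perm.subtypePerm_apply, _root_.Equiv.Perm.coe_one, _root_.id_eq, _root_.Subtype.coe_eta]
  have h5 : orderOf τ ∣ p := orderOf_dvd_of_pow_eq_one (by simpa using h4)
  rcases (Nat.dvd_prime hp).1 h5 with h6 | h6
  · exact congrArg (fun f : Perm O => (f ⟨o, ho⟩).1) (orderOf_eq_one_iff.1 h6)
  · have h7 : p ∣ Nat.card (Perm O) := h6 ▸ _root_.orderOf_dvd_natCard τ
    rw [Nat.card_eq_fintype_card, Fintype.card_perm, hp.dvd_factorial, Fintype.card_coe] at h7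
    omega

/-- an element of order `p` moves at least `p` points -/
theorem fix_add_le {σ : Perm α} {p : ℕ} (hp : p.Prime) (h : orderOf σ = p) :
    Nat.card (fixedBy α σ) + p ≤ Fintype.card α := by
  have : Fact p.Prime := ⟨hp⟩
  have h1 : σ ^ p ^ 1 = 1 := by rw [pow_one, ← h, pow_orderOf_eq_one]
  have h2 := card_compl_support_modEq h1
  have h3 : Nat.card (fixedBy α σ) = σ.supportᶜ.card := by
    rw [← Fintype.card_coe, ← Nat.card_eq_fintype_card]
    exact Nat.card_congr (Equiv.subtypeEquivRight fun x => by simp)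
  have h4 : σ.support.card ≠ 0 := fun h5 => hp.ne_one (by rw [← h, card_support_eq_zero.1 h5, orderOf_one])
  have h5 := Finset.card_add_card_compl σ.support
  have h6 := Nat.le_of_dvd (by omega) ((Nat.modEq_iff_dvd' (by omega)).1 h2)
  omega

theorem card_alt (hn : 2 ≤ Fintype.card α) : 2 * Nat.card (alternatingGroup α) = (Fintype.card α).factorial := by
  have : Nontrivial α := Fintype.one_lt_card_iff_nontrivial.1 hn
  rw [Nat.card_eq_fintype_card, two_mul_card_alternatingGroup, Fintype.card_perm]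

/-- the fixed point ratio on the cosets of an intransitive subgroup -/
theorem fx_SW (hn : 3 ≤ Fintype.card α) {U : Subgroup (alternatingGroup α)} {O : Finset α} (h0 : 1 ≤ O.card)
    (hU : U ≤ (SW O).subgroupOf _) {p : ℕ} (hp : p.Prime) (h3 : O.card < p) {y : alternatingGroup α} (hy : y ^ p = 1) :
    fx U y * Fintype.card α ≤ Nat.card (fixedBy α (y : Perm α)) * U.index := by
  obtain ⟨o, ho⟩ := Finset.card_pos.1 h0
  have := alternatingGroup.isPretransitive_of_three_le_card α (by simpa only [_root_.Nat.card_eq_fintype_card] using hn)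
  have h1 := fx_ratio (U := U) (V := stabilizer (alternatingGroup α) o) (y := y) fun t ht => by
    have h4 : (t⁻¹ * y * t) ^ p = 1 := by
      have := conj_pow (a := t⁻¹) (b := y) (i := p)
      rw [inv_inv] at this
      rw [this, hy]
      simp
    exact fix_of_SW hp (σ := ((t⁻¹ * y * t : alternatingGroup α) : Perm α)) (by rw [← Subgroup.coe_pow, h4]; rfl)
      ((hU ht :)) h3 ho
  rw [index_stabilizer_of_transitive, ← card_fixedBy_eq, Nat.card_eq_fintype_card (α := α)] at h1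
  exact h1

/-- the three kinds of proper subgroups, with Bochert's bound -/
theorem tri' (hn : 5 ≤ Fintype.card α) {U : Subgroup (alternatingGroup α)} (hU : U ≠ ⊤) :
    (∃ O : Finset α, 1 ≤ O.card ∧ 2 * O.card ≤ Fintype.card α ∧ U ≤ (SW O).subgroupOf _) ∨
    (∃ a b, 2 ≤ a ∧ a < Fintype.card α ∧ Fintype.card α = a * b ∧ Nat.card U ∣ a.factorial ^ b * b.factorial) ∨
    (Nat.card U * ((Fintype.card α + 1) / 2).factorial ≤ (Fintype.card α).factorial ∧
      ∀ r, r.Prime → r ≠ 2 → r + 3 ≤ Fintype.card α → r ∣ U.index) := by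
  let L := U.map (alternatingGroup α).subtype
  have hL : Nat.card L = Nat.card U := Subgroup.card_map_of_injective (alternatingGroup α).subtype_injective
  by_cases h1 : IsPretransitive L α
  swap
  · obtain ⟨O, h2, h3, h4⟩ := exists_SW h1
    exact Or.inl ⟨O, h2, h3, fun x hx => h4 (TH.Alt.mem_map.2 hx)⟩
  refine Or.inr ?_
  by_cases h2 : IsPreprimitive L α
  · have hA : ¬ alternatingGroup α ≤ L := fun h => hU (eq_top_iff.2 fun y _ => TH.Alt.mem_map.1 (h y.2))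
    refine Or.inr ⟨hL ▸ H427.bochert L h2 hA, fun r hr h3 h4 => ?_⟩
    by_contra h5
    obtain ⟨g, h6, h7, h8⟩ := exists_cycle_mem le_rfl hr h3 (by omega) h5
    have := lib_jordan h2 hA hn g (TH.Alt.mem_map.2 h6) h7 (h8 ▸ hr)
    omega
  obtain ⟨B, hB, h3⟩ : ∃ B : Set α, IsBlock L B ∧ ¬ IsTrivialBlock B := by
    by_contra h3
    push Not at h3
    exact h2 ⟨fun hB => h3 _ hB⟩
  rw [IsTrivialBlock, not_or, Set.not_subsingleton_iff] at h3
  refine Or.inl ⟨B.ncard, (orbit L B).ncard, Set.one_lt_ncard_iff_nontrivial.2 h3.1, ?_, ?_,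
    hL ▸ card_dvd_block L hB h3.1.nonempty⟩
  · rw [← Nat.card_eq_fintype_card, ← Set.ncard_univ]
    exact Set.ncard_lt_ncard (Set.ssubset_univ_iff.2 h3.2)
  · rw [hB.ncard_block_mul_ncard_orbit_eq h3.1.nonempty, Nat.card_eq_fintype_card]

end perm

section alt

variable {m : ℕ} {U : Subgroup (alternatingGroup (Fin m))}

theorem idx_mul (h : 2 ≤ m) (U : Subgroup (alternatingGroup (Fin m))) : 2 * (U.index * Nat.card U) = m.factorial := by
  rw [U.index_mul_card, card_alt (by simpa only [_root_.Fintype.card_fin] using h), Fintype.card_fin]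

theorem choose_two_le {k : ℕ} (h2 : 2 ≤ k) (hk : 2 * k ≤ m) : m.choose 2 ≤ m.choose k := by
  induction k, h2 using Nat.le_induction with
  | base => exact le_rfl
  | succ k h ih => exact (ih (by omega)).trans (Nat.choose_le_succ_of_lt_half_left (by omega))

/-- the index of an intransitive subgroup -/
theorem idx_SW (h6 : 6 ≤ m) (hm : U.index ≠ m) {O : Finset (Fin m)} (h1 : 1 ≤ O.card) (h2 : 2 * O.card ≤ m)
    (hU : U ≤ (SW O).subgroupOf _) : m.choose 2 ≤ U.index := by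
  have h3 := index_SW (Γ := alternatingGroup (Fin m)) le_rfl (by simpa only [_root_.Fintype.card_fin] using (by omega : 3 ≤ m)) O
  rw [Fintype.card_fin] at h3
  rcases h1.eq_or_lt with h4 | h4
  · rw [← h4, Nat.choose_one_right] at h3
    rcases index_sub h6 hU h3 with h5 | h5
    · exact absurd (h5 ▸ h3) hm
    · rw [Nat.choose_two_right]
      omega
  · exact (choose_two_le h4 h2).trans (h3 ▸ Nat.le_of_dvd (Nat.pos_of_ne_zero index_ne_zero_of_finite) (index_dvd_of_le hU))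

theorem exists_ord {p : ℕ} (hp : p.Prime) (h2 : p ≠ 2) (h : p ≤ m) : ∃ y : alternatingGroup (Fin m), orderOf y = p := by
  have : Fact p.Prime := ⟨hp⟩
  refine exists_prime_orderOf_dvd_card' p ?_
  have h1 := card_alt (α := Fin m) (by simpa only [_root_.Fintype.card_fin] using hp.two_le.trans h)
  have h3 : p ∣ 2 * Nat.card (alternatingGroup (Fin m)) := by
    rw [h1, Fintype.card_fin]
    exact hp.dvd_factorial.2 h
  exact ((Nat.coprime_primes hp Nat.prime_two).2 h2).dvd_of_dvd_mul_left h3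

/-- a prime `r > m / 2` which divides the index does not divide the order -/
theorem not_dvd_of_dvd_index {r : ℕ} (hr : r.Prime) (h2 : 2 ≤ m) (h : m < 2 * r) (hd : r ∣ U.index) : ¬ r ∣ Nat.card U := by
  intro h1
  have h3 : r ^ 2 ∣ m.factorial := by
    rw [← idx_mul h2 U, sq]
    exact (mul_dvd_mul hd h1).mul_left _
  have h4 : m.factorial ∣ (r - 1 + r).factorial := Nat.factorial_dvd_factorial (by omega)
  have h5 := h3.trans h4
  have : Fact r.Prime := ⟨hr⟩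
  rw [hr.pow_dvd_factorial_iff (b := 2) (Nat.log_lt_of_lt_pow (by have := hr.pos; omega) (by
    have := hr.two_le
    have : r * 2 ≤ r * r := Nat.mul_le_mul_left _ this
    rw [sq]
    omega))] at h5
  have h6 : (r - 1 + r) / r = 1 := by
    rw [Nat.add_div_right _ hr.pos, Nat.div_eq_of_lt (by have := hr.pos; omega)]
  simp only [h6, _root_.Nat.Ico_succ_singleton, _root_.Finset.sum_singleton, _root_.pow_one, _root_.Nat.not_ofNat_le_one] at h5

theorem not_dvd_imp {r a b : ℕ} (hr : r.Prime) (h : m < 2 * r) (h1 : 2 ≤ a) (h2 : a < m) (h3 : m = a * b)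
    (h4 : Nat.card U ∣ a.factorial ^ b * b.factorial) : ¬ r ∣ Nat.card U := by
  intro h5
  have hb : 2 ≤ b := by
    by_contra h6
    obtain rfl | rfl : b = 0 ∨ b = 1 := by omega
    all_goals omega
  have h7 : 2 * b ≤ a * b := Nat.mul_le_mul_right _ h1
  have h8 : a * 2 ≤ a * b := Nat.mul_le_mul_left _ hb
  rcases (Nat.Prime.dvd_mul hr).1 (h5.trans h4) with h6 | h6
  · have := hr.dvd_factorial.1 (hr.dvd_of_dvd_pow h6)
    omega
  · have := hr.dvd_factorial.1 h6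
    omega

/-- the element with a small ratio which the criterion `good_two` needs -/
def Two (U : Subgroup (alternatingGroup (Fin m))) : Prop :=
  ∃ c, (c = 1 ∨ c = 2 ∨ c = 5) ∧ ∃ y, orderOf y = 2 * c + 3 ∧ (3 * c + 3) * fx U y ≤ c * U.index

theorem two_of_not_dvd {c : ℕ} (hc : c = 1 ∨ c = 2 ∨ c = 5) (h : 2 * c + 3 ≤ m) (h1 : ¬ 2 * c + 3 ∣ Nat.card U) : Two U := by
  obtain ⟨y, hy⟩ := exists_ord (p := 2 * c + 3) (by rcases hc with rfl | rfl | rfl <;> norm_num) (by omega) h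
  exact ⟨c, hc, y, hy, by rw [fx_eq_zero_of_not_dvd (hy ▸ h1)]; omega⟩

theorem two_of_SW {c : ℕ} (hc : c = 1 ∨ c = 2 ∨ c = 5) (h : 2 * c + 3 ≤ m) {O : Finset (Fin m)} (h1 : 1 ≤ O.card)
    (h2 : O.card < 2 * c + 3) (hU : U ≤ (SW O).subgroupOf _) (h3 : (3 * c + 3) * (m - (2 * c + 3)) ≤ c * m) : Two U := by
  have hp : (2 * c + 3).Prime := by rcases hc with rfl | rfl | rfl <;> norm_num
  obtain ⟨y, hy⟩ := exists_ord hp (by omega) h
  refine ⟨c, hc, y, hy, Nat.le_of_mul_le_mul_right ?_ (by omega : 0 < m)⟩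
  have h4 := fx_SW (by simpa only [_root_.Fintype.card_fin] using (by omega : 3 ≤ m)) h1 hU hp h2 (hy ▸ pow_orderOf_eq_one y)
  have h5 := fix_add_le hp ((Subgroup.orderOf_coe y).trans hy)
  rw [Fintype.card_fin] at h4 h5
  calc _ = (3 * c + 3) * (fx U y * m) := by ring
    _ ≤ (3 * c + 3) * ((m - (2 * c + 3)) * U.index) :=
      Nat.mul_le_mul_left _ (h4.trans (Nat.mul_le_mul_right _ (by omega)))
    _ = (3 * c + 3) * (m - (2 * c + 3)) * U.index := by ring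
    _ ≤ c * m * U.index := Nat.mul_le_mul_right _ h3
    _ = _ := by ring

theorem two_ten {U : Subgroup (alternatingGroup (Fin 10))} {O : Finset (Fin 10)} (h1 : 1 ≤ O.card)
    (h2 : 2 * O.card ≤ 10) (hU : U ≤ (SW O).subgroupOf _) : Two U := by
  rcases (by omega : O.card < 5 ∨ O.card = 5) with h3 | h3
  · let y : alternatingGroup (Fin 10) := ⟨finRotate 10 ^ 2, by rw [mem_alternatingGroup, map_pow, Int.units_sq]⟩
    have h4 : y ^ 5 = 1 := Subtype.ext (by decide +kernel)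
    have h5 : ∀ i, (y : Perm (Fin 10)) i ≠ i := by decide
    have : Fact (Nat.Prime 5) := ⟨by norm_num⟩
    have h6 := fx_SW (by simp) h1 hU (by norm_num) h3 h4
    have h7 : Nat.card (fixedBy (Fin 10) (y : Perm (Fin 10))) = 0 := Nat.card_eq_zero.2 (Or.inl ⟨fun x => h5 _ x.2⟩)
    rw [h7, Fintype.card_fin] at h6
    exact ⟨1, Or.inl rfl, y, orderOf_eq_prime h4 fun h => h5 0 (by rw [h]; rfl), by omega⟩
  · refine two_of_not_dvd (c := 2) (by simp) (by norm_num) (not_dvd_of_dvd_index (by norm_num) (by norm_num) (by norm_num) ?_)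
    have h4 := index_SW (Γ := alternatingGroup (Fin 10)) le_rfl (by simp) O
    rw [Fintype.card_fin, h3] at h4
    exact Dvd.dvd.trans (h4 ▸ by decide) (index_dvd_of_le hU)

theorem fact_le : ∀ m ≤ (41 : ℕ), 9 ≤ m → m.factorial ≤ 2 ^ m.choose 2 ∧ 25 ≤ m.choose 2 := by
  simp only [Nat.choose_two_right]
  decide +kernel

theorem exists_r : ∀ m ≤ 41, 14 ≤ m → ∃ r, r.Prime ∧ 11 ≤ r ∧ m < 2 * r ∧ r + 3 ≤ m := by
  intro m h1 h2
  by_cases h3 : m ≤ 21
  · exact ⟨11, by norm_num, le_rfl, by omega, by omega⟩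
  by_cases h4 : m ≤ 25
  · exact ⟨13, by norm_num, by norm_num, by omega, by omega⟩
  by_cases h5 : m ≤ 33
  · exact ⟨17, by norm_num, by norm_num, by omega, by omega⟩
  · exact ⟨23, by norm_num, by norm_num, by omega, by omega⟩

theorem small_idx (h : m = 9 ∨ m = 10) (h1 : Nat.card U ≤ 3024 ∨ m = 10 ∧ Nat.card U ≤ 30240) : 60 ≤ U.index := by
  have h2 := idx_mul (by omega) U
  by_contra h3
  have h4 : U.index * Nat.card U ≤ 59 * Nat.card U := Nat.mul_le_mul_right _ (by omega)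
  have h5 : Nat.factorial 9 = 362880 := by decide
  have h6 : Nat.factorial 10 = 3628800 := by decide
  rcases h with rfl | rfl <;> omega

/-- **the subgroups of `A_m`** for the degrees where the general theorem on `p`-elements does not suffice -/
theorem core (h : m = 9 ∨ m = 10 ∨ m = 15 ∨ m = 16 ∨ 20 ≤ m) (h41 : m ≤ 41) (hU : U ≠ ⊤) (hm : U.index ≠ m) :
    (∃ y, (orderOf y).Prime ∧ 11 ≤ orderOf y ∧ fx U y = 0) ∨
    (m.factorial ≤ 2 ^ U.index ∧ 25 ≤ U.index ∧ (20 ≤ m ∨ Two U)) := by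
  have hc : Fintype.card (Fin m) = m := Fintype.card_fin m
  have hs : (m = 9 ∨ m = 10) → 60 ≤ U.index → m.factorial ≤ 2 ^ U.index ∧ 25 ≤ U.index := fun h1 h2 =>
    ⟨le_trans (by rcases h1 with rfl | rfl <;> norm_num [Nat.factorial]) (Nat.pow_le_pow_right two_pos h2), by omega⟩
  have hbig : 14 ≤ m → (∀ r, r.Prime → 11 ≤ r → m < 2 * r → r + 3 ≤ m → ¬ r ∣ Nat.card U) →
      ∃ y, (orderOf y).Prime ∧ 11 ≤ orderOf y ∧ fx U y = 0 := fun h1 h2 => by
    obtain ⟨r, h3, h4, h5, h6⟩ := exists_r m h41 h1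
    obtain ⟨y, rfl⟩ := exists_ord (m := m) h3 (by omega) (by omega)
    exact ⟨y, h3, h4, fx_eq_zero_of_not_dvd (h2 _ h3 h4 h5 h6)⟩
  rcases tri' (by (clear * - h hc; omega)) hU with ⟨O, h1, h2, h3⟩ | ⟨a, b, h1, h2, h3, h4⟩ | ⟨h1, h2⟩
  · rw [hc] at h2
    have h4 := idx_SW (by (clear * - h; omega)) hm h1 h2 h3
    obtain ⟨h5, h6⟩ := fact_le m h41 (by (clear * - h; omega))
    refine Or.inr ⟨h5.trans (Nat.pow_le_pow_right two_pos h4), h6.trans h4, ?_⟩
    rcases h with rfl | rfl | rfl | rfl | h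
    · exact Or.inr (two_of_SW (c := 2) (by simp) (by norm_num) h1 (by omega) h3 (by norm_num))
    · exact Or.inr (two_ten h1 h2 h3)
    · exact Or.inr (two_of_SW (c := 5) (by simp) (by norm_num) h1 (by omega) h3 (by norm_num))
    · exact Or.inr (two_of_SW (c := 5) (by simp) (by norm_num) h1 (by omega) h3 (by norm_num))
    · exact Or.inl h
  · rw [hc] at h2 h3
    by_cases h5 : 14 ≤ m
    · exact Or.inl (hbig h5 fun r h6 _ h7 _ => not_dvd_imp h6 h7 h1 h2 h3 h4)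
    have h6 : m = 9 ∨ m = 10 := by (clear * - h h5; omega)
    have h7 := Nat.le_of_dvd (by positivity) h4
    obtain ⟨h8, h9⟩ := hs h6 (small_idx h6 (by
      have hb : b ≤ 5 := by
        have : 2 * b ≤ a * b := Nat.mul_le_mul_right _ h1
        omega
      have ha : a ≤ 9 := by omega
      interval_cases a <;> interval_cases b <;> simp only [Nat.factorial, _root_.Nat.succ_eq_add_one, _root_.Nat.reduceAdd, _root_.zero_add, _root_.mul_one, _root_.pow_zero, _root_.pow_one, _root_.Nat.reducePow, _root_.Nat.reduceMul] at h7 ⊢ <;> (clear * - h41 hc h5 h2 h3 h7 h6; omega)))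
    exact Or.inr ⟨h8, h9, Or.inr (two_of_not_dvd (c := 2) (by simp) (by omega)
      (not_dvd_imp (by norm_num) (by omega) h1 h2 h3 h4))⟩
  · rw [hc] at h1 h2
    by_cases h5 : 14 ≤ m
    · exact Or.inl (hbig h5 fun r h6 h7 h8 h9 => not_dvd_of_dvd_index h6 (by omega) h8 (h2 r h6 (by omega) h9))
    have h6 : m = 9 ∨ m = 10 := by (clear * - h h5; omega)
    obtain ⟨h8, h9⟩ := hs h6 (small_idx h6 (by
      rcases h6 with rfl | rfl <;> norm_num only [Nat.factorial, _root_.false_and, _root_.or_false, _root_.true_and] at h1 ⊢ <;> omega))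
    refine Or.inr ⟨h8, h9, Or.inr ?_⟩
    rcases h6 with rfl | rfl
    · exact two_of_not_dvd (c := 1) (by simp) (by norm_num)
        (not_dvd_of_dvd_index (by norm_num) (by norm_num) (by norm_num) (h2 5 (by norm_num) (by norm_num) (by norm_num)))
    · exact two_of_not_dvd (c := 2) (by simp) (by norm_num)
        (not_dvd_of_dvd_index (by norm_num) (by norm_num) (by norm_num) (h2 7 (by norm_num) (by norm_num) (by norm_num)))

end alt

end Cfsg.Agent.N2.Alt.AS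
end

-- part: N2/Alt/AS2
section
/-!
# N2 (S3519), box AS, part 2: the reduction to three numerical criteria (helper42)
-/

set_option autoImplicit false
set_option linter.unusedSectionVars false

namespace Cfsg.Agent.N2.Alt.AS

open Equiv Equiv.Perm MulAction Subgroup Cfsg.Agent.FP3

variable {Ω : Type} [Fintype Ω] [DecidableEq Ω]

/-- S3578 for an alternating group -/
theorem pelA {N : Subgroup (Perm Ω)} (ht : IsPretransitive N Ω) {m : ℕ} (h9 : 9 ≤ m) (e : N ≃* alternatingGroup (Fin m))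
    {p : ℕ} (hp : p.Prime) (h2 : p ≠ 2) (hpm : p ≤ m) (h : m ≤ p + 1 ∨ p ^ 2 - p ≤ m) (h7 : ∀ k, p + 1 = 2 ^ k → k = 3) :
    ∃ x ∈ N, (∃ k, orderOf x = p ^ k) ∧ (p + 1) * nf x ≤ Fintype.card Ω := by
  have : Fact p.Prime := ⟨hp⟩
  have hs0 : IsSimpleGroup (alternatingGroup (Fin m)) := alternatingGroup.isSimpleGroup (by simp only [_root_.Nat.card_eq_fintype_card, _root_.Fintype.card_fin]; omega)
  have hs : IsSimpleGroup N := e.isSimpleGroup
  have hc : 2 * Nat.card N = m.factorial := by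
    rw [Nat.card_congr e.toEquiv, card_alt (by simp only [_root_.Fintype.card_fin]; omega), Fintype.card_fin]
  obtain ⟨y, hy⟩ := exists_ord (m := m) hp h2 hpm
  have hy' : orderOf (e.symm y) = p := (e.symm.orderOf_eq y).trans hy
  have hq : ∀ (M : Subgroup N) [M.Normal], Nat.card (N ⧸ M) = 1 ∨ 2 * Nat.card (N ⧸ M) = m.factorial := fun M hM => by
    rcases hM.eq_bot_or_eq_top with rfl | rfl
    · exact Or.inr (by rw [← hc, ← index_eq_card, index_bot])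
    · exact Or.inl (by rw [← index_eq_card, index_top])
  obtain ⟨x, h3, h4⟩ := S3578.result (G := N) (Ω := Ω) ht p (hy' ▸ _root_.orderOf_dvd_natCard _) (by
    have hn : (_root_.Subgroup.closure {g : N | ∃ k : ℕ, orderOf g = p ^ k}).Normal := by
      refine ⟨fun g hg t => closure_induction (fun z hz => _root_.Subgroup.subset_closure ?_) (by simp only [_root_.mul_one, _root_.mul_inv_cancel, _root_.OneMemClass.one_mem]) (fun a b _ _ h1 h2 => ?_)
        (fun a _ h1 => ?_) hg⟩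
      · obtain ⟨k, hk⟩ := hz
        exact ⟨k, (orderOf_injective (MulAut.conj t).toMonoidHom (MulAut.conj t).injective z).trans hk⟩
      · rw [← conj_mul]
        exact mul_mem h1 h2
      · rw [← conj_inv]
        exact inv_mem h1
    refine hn.eq_bot_or_eq_top.resolve_left fun h1 => hp.ne_one ?_
    have h5 : e.symm y ∈ _root_.Subgroup.closure {g : N | ∃ k : ℕ, orderOf g = p ^ k} := subset_closure ⟨1, by rw [hy', pow_one]⟩
    rw [h1, mem_bot] at h5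
    rw [← hy', h5, orderOf_one])
    (fun M _ m' h1 h3 ⟨f⟩ => by
      have h4 := card_alt (α := Fin m') (by have := hp.pos; simp only [_root_.Fintype.card_fin, _root_.ge_iff_le]; omega)
      rw [← Nat.card_congr f.toEquiv, Fintype.card_fin] at h4
      rcases hq M with h5 | h5
      · have : Nat.factorial 3 ≤ m'.factorial := Nat.factorial_le (by have := hp.pos; omega)
        rw [← h4, h5] at this
        simp [Nat.factorial] at this
      · have := (Nat.factorial_inj (by omega : 1 < m)).1 (h5.symm.trans h4)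
        omega)
    (fun M _ k h1 ⟨f⟩ => by
      obtain rfl := h7 k h1
      have h4 := hq M
      rw [Nat.card_congr f.toEquiv] at h4
      rcases h4 with h5 | h5
      · have h6 := (Nat.card_eq_one_iff_unique.1 h5).1.elim
          (⟨!![1, 1; 0, 1], by simp [Matrix.det_fin_two]⟩ : Matrix.SpecialLinearGroup (Fin 2) (GaloisField 2 3)) 1
        have h8 := congrArg (fun A : Matrix.SpecialLinearGroup (Fin 2) (GaloisField 2 3) => A.1 0 1) h6
        simp at h8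
      · have h6 : Nat.card (Matrix.SpecialLinearGroup (Fin 2) (GaloisField 2 3)) ≤
            Nat.card (Fin 2 → Fin 2 → GaloisField 2 3) := Nat.card_le_card_of_injective Subtype.val Subtype.val_injective
        rw [Nat.card_fun, Nat.card_fun, GaloisField.card 2 3 (by norm_num), Nat.card_eq_fintype_card (α := Fin 2),
          Fintype.card_fin] at h6
        have h8 : Nat.factorial 9 ≤ m.factorial := Nat.factorial_le h9
        have h10 : Nat.factorial 9 = 362880 := by decide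
        omega)
  obtain ⟨k, hk⟩ := h3
  exact ⟨x, x.2, ⟨k, (Subgroup.orderOf_coe x).trans hk⟩, by rw [← Nat.card_eq_fintype_card]; exact h4⟩

theorem fact_lt : ∀ n < (49 : ℕ), 42 < n → 2 * n.factorial < Nat.factorial 42 * ((n + 1) / 2).factorial := by
  decide +kernel

/-- **the reduction** -/
theorem red {H N : Subgroup (Perm Ω)} {m : ℕ} (h9 : 9 ≤ m) (hN : NF H N) (e : N ≃* alternatingGroup (Fin m))
    (hH : Nat.card H ≤ m.factorial) :
    ∃ x ∈ N, (∃ p, p.Prime ∧ 11 ≤ p ∧ (∃ i, orderOf x = p ^ i) ∧ (p + 1) * nf x ≤ Fintype.card Ω) ∨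
      ((∃ i, orderOf x = 7 ^ i) ∧ 8 * nf x ≤ Fintype.card Ω ∧ 49 ≤ Fintype.card Ω) ∨
      (Nat.card (al H) ≤ 2 ^ Fintype.card Ω ∧ 25 ≤ Fintype.card Ω ∧ ∃ c, (c = 1 ∨ c = 2 ∨ c = 5) ∧
        (∃ i, orderOf x = (2 * c + 3) ^ i) ∧ (3 * c + 3) * nf x ≤ c * Fintype.card Ω) := by
  have ht := hN.tr
  have hc : 2 * Nat.card N = m.factorial := by
    rw [Nat.card_congr e.toEquiv, card_alt (by simp only [_root_.Fintype.card_fin]; omega), Fintype.card_fin]
  have h7 := hN.card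
  have hA := card_alt (α := Ω) (by omega)
  have hlt : m < Fintype.card Ω := by
    by_contra h1
    have h2 : (Fintype.card Ω).factorial ≤ m.factorial := Nat.factorial_le (by omega)
    exact hN.nle ((eq_of_le_of_card_ge hN.even (by omega)).ge.trans hN.le)
  have big : ∀ p, p.Prime → 11 ≤ p → p ≤ m → m ≤ p + 1 → (∀ k, p + 1 ≠ 2 ^ k) → ∃ x ∈ N, ∃ p, p.Prime ∧ 11 ≤ p ∧
      (∃ i, orderOf x = p ^ i) ∧ (p + 1) * nf x ≤ Fintype.card Ω := fun p h1 h2 h3 h4 h5 => by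
    obtain ⟨x, h6, h8, h10⟩ := pelA ht h9 e h1 (by omega) h3 (Or.inl h4) fun k hk => absurd hk (h5 k)
    exact ⟨x, h6, p, h1, h2, h8, h10⟩
  have hpow : ∀ a b k : ℕ, b ≠ 1 → Odd b → 2 ^ a * b ≠ 2 ^ k := fun a b k h1 h2 h3 =>
    h1 ((Nat.Coprime.pow_right k h2.coprime_two_right).eq_one_of_dvd (h3 ▸ dvd_mul_left _ _))
  by_cases h42 : 42 ≤ m
  · obtain ⟨x, h1, h2, h3⟩ := pelA ht h9 e (p := 7) (by norm_num) (by norm_num) (by omega) (Or.inr (by omega))
      fun k hk => (Nat.pow_right_injective le_rfl (hk.symm.trans (by norm_num : 7 + 1 = 2 ^ 3)))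
    refine ⟨x, h1, Or.inr (Or.inl ⟨h2, h3, ?_⟩)⟩
    by_contra h4
    have h5 := fact_lt _ (not_le.1 h4) (by omega)
    have h6 := H427.bochert H hN.prim hN.nle
    have h8 : Nat.factorial 42 ≤ 2 * Nat.card H :=
      (Nat.factorial_le h42).trans (hc ▸ Nat.mul_le_mul_left _ (card_le_of_le hN.le))
    have h10 := Nat.mul_le_mul_right ((Fintype.card Ω + 1) / 2).factorial h8
    rw [mul_assoc] at h10
    omega
  by_cases hm : m = 11 ∨ m = 12 ∨ m = 13 ∨ m = 14 ∨ m = 17 ∨ m = 18 ∨ m = 19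
  · obtain ⟨x, h1, h2⟩ : ∃ x ∈ N, ∃ p, p.Prime ∧ 11 ≤ p ∧ (∃ i, orderOf x = p ^ i) ∧ (p + 1) * nf x ≤ Fintype.card Ω := by
      rcases (by (clear * - hm; omega) : (11 ≤ m ∧ m ≤ 12) ∨ (13 ≤ m ∧ m ≤ 14) ∨ (17 ≤ m ∧ m ≤ 18) ∨ m = 19) with h | h | h | h
      · exact big 11 (by norm_num) le_rfl h.1 h.2 fun k => hpow 2 3 k (by norm_num) (by decide)
      · exact big 13 (by norm_num) (by norm_num) h.1 h.2 fun k => hpow 1 7 k (by norm_num) (by decide)
      · exact big 17 (by norm_num) (by norm_num) h.1 h.2 fun k => hpow 1 9 k (by norm_num) (by decide)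
      · exact big 19 (by norm_num) (by norm_num) h.ge (by omega) fun k => hpow 2 5 k (by norm_num) (by decide)
    exact ⟨x, h1, Or.inl h2⟩
  obtain ⟨ω⟩ : Nonempty Ω := Fintype.card_pos_iff.1 (by omega)
  let U : Subgroup (alternatingGroup (Fin m)) := (stabilizer N ω).comap e.symm.toMonoidHom
  have hi : U.index = Fintype.card Ω := by
    rw [index_comap_of_surjective _ e.symm.surjective, index_stabilizer_of_transitive, Nat.card_eq_fintype_card]
  have hf : ∀ y, fx U y = nf (e.symm y : Perm Ω) := fun y => by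
    rw [fx_comap e.symm, ← card_fixedBy_eq]
    rfl
  have ho : ∀ y, orderOf (e.symm y : Perm Ω) = orderOf y ^ 1 := fun y => by
    rw [Subgroup.orderOf_coe, e.symm.orderOf_eq, pow_one]
  rcases core (U := U) (by (clear * - h9 hm; omega)) (by omega) (fun h => by rw [h, index_top] at hi; omega) (by omega) with
    ⟨y, h1, h2, h3⟩ | ⟨h1, h2, h3⟩
  · exact ⟨_, (e.symm y).2, Or.inl ⟨_, h1, h2, ⟨1, ho y⟩, by rw [← hf, h3]; omega⟩⟩
  rw [hi] at h1 h2
  have h4 : Nat.card (al H) ≤ 2 ^ Fintype.card Ω := by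
    refine le_trans (Nat.card_le_card_of_injective (fun a : al H => (⟨a.1.1, a.2⟩ : H)) fun a b h => ?_) (hH.trans h1)
    exact Subtype.ext (Subtype.ext (Subtype.mk.inj h))
  rcases h3 with h3 | ⟨c, h3, y, h5, h6⟩
  · obtain ⟨x, h5, h6, h8⟩ := pelA ht h9 e (p := 5) (by norm_num) (by norm_num) (by omega) (Or.inr (by omega))
      fun k hk => absurd hk (hpow 1 3 k (by norm_num) (by decide))
    exact ⟨x, h5, Or.inr (Or.inr ⟨h4, h2, 1, Or.inl rfl, h6, by omega⟩)⟩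
  · exact ⟨_, (e.symm y).2, Or.inr (Or.inr ⟨h4, h2, c, h3, ⟨1, h5 ▸ ho y⟩, by rw [← hf, ← hi]; exact h6⟩)⟩

end Cfsg.Agent.N2.Alt.AS
end

-- part: N2/Alt/AS
section
/-!
# N2 (S3519), box AS (helper42)
-/

set_option autoImplicit false

namespace Cfsg.Agent.N2.Alt

theorem boxAS : BoxAS := by
  intro Ω _ _ H N m h9 hN ⟨e⟩ hH
  obtain ⟨x, hx, ⟨p, h1, h2, ⟨i, h3⟩, h4⟩ | ⟨⟨i, h1⟩, h2, h3⟩ | ⟨h1, h2, c, h3, ⟨i, h4⟩, h5⟩⟩ := AS.red h9 hN e hH
  · exact good_big hN.toPr (hN.le hx) h1 h2 h3 h4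
  · exact good_seven hN.toPr (hN.le hx) h1 h2 h3
  · exact good_two (by omega) (hN.le hx) h4 h5 h2 h1

end Cfsg.Agent.N2.Alt
end

-- part: N2/Alt/NA1
section
/-!
# N2 (S3519), alternating groups: almost simple primitive groups (helper51)
-/

set_option autoImplicit false
set_option maxRecDepth 100000
set_option linter.unusedSectionVars false

namespace Cfsg.Agent.N2.Alt

open Equiv Equiv.Perm MulAction Subgroup Cfsg.Agent.FP3 Nat

/-- a multiple of the order of the normaliser in the alternating group -/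
def cm (p f j : ℕ) : ℕ := (p - 1) * if 2 ≤ f ∨ 2 ≤ j then cb p f j / 2 else cb p f j

/-- the check for one cycle type -/
def chk (a n p f j : ℕ) : Prop :=
  2 * cb p f j ^ 3 * a ≤ n ! ∨ (¬ p ^ 2 ∣ a ∧ 2 * (cm p f j / (p * 3)) ^ 3 * a ≤ n ! ∧
    ∀ k < 3, p * k ∣ a → a / (p * k) % p = 1 → 2 * (cm p f j / (p * k)) ^ 3 * a ≤ n !)

/-- the check for all cycle types -/
def sv (a n p c : ℕ) : Prop := ∀ j < 10, p * j ≤ n → n - p * j ≤ c * j → chk a n p (n - p * j) j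

/-- the prime `p` is not exceptional, by the order -/
def neo (p s : ℕ) : Prop := p ∣ s ∧ (∀ m < p ^ 2 - p, p + 1 < m → 2 * s ≠ m !) ∧
  ∀ k ≤ p, p + 1 = 2 ^ k → s ≠ 2 ^ k * ((2 ^ k) ^ 2 - 1)

/-- the numerical conditions for a primitive group -/
def adm (a n : ℕ) : Prop := 7 ≤ n ∧ a * ((n + 1) / 2)! ≤ n ! ∧ a ∣ n ! ∧ ¬ (n = 10 ∧ 81 ∣ a)

instance decChk (a n p f j : ℕ) : Decidable (chk a n p f j) := by unfold chk; infer_instance
instance decSv (a n p c : ℕ) : Decidable (sv a n p c) := by unfold sv; infer_instance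
instance decNeo (p s : ℕ) : Decidable (neo p s) := by unfold neo; infer_instance
instance decAdm (a n : ℕ) : Decidable (adm a n) := by unfold adm; infer_instance

theorem neo.ne {T : Type*} [Group T] {p : ℕ} (h : neo p (Nat.card T)) (hp : 1 ≤ p) : NE p T := NE_of_card hp h.2.1 h.2.2

/-- the orders which are left -/
def L8 : List (ℕ × ℕ) :=
  [(60, 2), (360, 4), (25920, 2), (168, 2), (2520, 2), (6048, 2), (20160, 12), (58800, 4), (126000, 6), (604800, 2),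
    (1451520, 1), (3265920, 8), (138297600, 2), (174182400, 6)]

theorem L7_L8 : ∀ e ∈ L7, e.1 = .alt 9 ∨ e.1 = .alt 10 ∨ e.2 = (504, 3) ∨ ∃ d ∈ L8, e.2.1 = d.1 ∧ e.2.2 ∣ d.2 := by
  decide +kernel

theorem L8_neo : ∀ d ∈ L8, (0 < d.2 ∧ d.2 ≤ 12) ∧ (neo 7 d.1 ∨ neo 5 d.1 ∧ d.2 * d.1 ≤ 2 ^ 25) := by decide +kernel

/-- the check for a socle, a degree and an order -/
def fin (s o n a : ℕ) : Prop := adm a n → neo 7 s ∧ sv a n 7 1 ∨ neo 5 s ∧ (25 ≤ n ∧ o * s ≤ 2 ^ 25 ∨ sv a n 5 1)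

instance decFin (s o n a : ℕ) : Decidable (fin s o n a) := by unfold fin; infer_instance

theorem L8_sv : ∀ d ∈ L8, ∀ n < 49, n ∣ d.1 → ∀ t ≤ 12, t ∣ d.2 → fin d.1 d.2 n (d.1 * t) := by decide +kernel

theorem L28_sv : ∀ n < 25, n ∣ 504 → ∀ t ≤ 3, t ∣ 3 → adm (504 * t) n → sv (504 * t) n 7 2 := by decide +kernel

theorem L28_f : ∀ n ≤ 72, n ∣ 72 → ∀ f < n, f ∣ 72 → f % 7 = n % 7 → 9 * f ≤ 2 * n := by decide +kernel

variable {Ω : Type} [Fintype Ω] [DecidableEq Ω] {H N : Subgroup (Perm Ω)} {x : Perm Ω} {p i j c : ℕ}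

theorem good_chk (h2 : 2 ≤ Fintype.card Ω) (hx : x ∈ H) (hp : p.Prime) (hp2 : p ≠ 2) (ho : orderOf x = p ^ i)
    (hn : Fintype.card Ω = nf x + p * j) (hf : nf x < Fintype.card Ω)
    (h : chk (Nat.card (al H)) (Fintype.card Ω) p (nf x) j) : Good (al H) := by
  rcases h with h | ⟨h1, h3, h4⟩
  · exact good_cb h2 hx hp hp2 ho hn h
  have he := even_of_odd hp hp2 ho
  have ho' : orderOf x = p := orderOf_eq ho hf (G := (al H).map (alternatingGroup Ω).subtype) ⟨⟨x, he⟩, hx, rfl⟩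
    (by rwa [card_map_of_injective (subtype_injective _)])
  have ho2 : orderOf (⟨x, he⟩ : alternatingGroup Ω) = p := by rw [← ho', ← orderOf_coe]
  have k1 := syl (A := al H) (a := ⟨x, he⟩) hx hp ho2 h1
  obtain ⟨k, k2⟩ := dvd_nA (A := al H) (a := ⟨x, he⟩) hx ho2
  have k3 := nA_mod (A := al H) (a := ⟨x, he⟩) hx hp ho2 h1
  have k4 := nA_dvd (al H) ⟨x, he⟩
  have k5 : nn (⟨x, he⟩ : alternatingGroup Ω) ≤ cm p (nf x) j := by
    refine (Nat.le_of_dvd (Nat.mul_pos (by have := hp.two_le; omega) Nat.card_pos) (nn_dvd hp ho2)).trans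
      (Nat.mul_le_mul_left _ ?_)
    split_ifs with k5
    · have := cn_prime he hp ho' hn k5
      change cn _ ≤ _
      omega
    · exact (cn_le he).trans (cen_eq hp ho' hn).le
  have k6 := nA_pos (al H) ⟨x, he⟩
  rw [k2] at k1 k3 k4 k6
  have k7 : fx (al H) ⟨x, he⟩ ≤ cm p (nf x) j / (p * k) := (Nat.le_div_iff_mul_le k6).2 (k1 ▸ k5)
  rcases lt_or_ge k 3 with k8 | k8
  · exact good_fx h2 hx he k7 (h4 k k8 k4 k3)
  · exact good_fx h2 hx he (k7.trans (Nat.div_le_div_left (Nat.mul_le_mul_left _ k8) (Nat.mul_pos hp.pos (by norm_num)))) h3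

theorem good_sv (h7 : 7 ≤ Fintype.card Ω) (h49 : Fintype.card Ω < 49) (hx : x ∈ H) (hp : p.Prime) (h5 : 5 ≤ p)
    (ho : orderOf x = p ^ i) (hf : (p + c) * nf x ≤ c * Fintype.card Ω)
    (h : sv (Nat.card (al H)) (Fintype.card Ω) p c) : Good (al H) := by
  obtain ⟨j, hj⟩ := exists_j hp ho
  have h1 : nf x ≤ c * j := Nat.le_of_mul_le_mul_left (by rw [hj] at hf; linarith only [hf]) hp.pos
  have h2 : Fintype.card Ω - p * j = nf x := by omega
  have h3 : j ≠ 0 := by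
    rintro rfl
    omega
  have h4 : 5 * j ≤ p * j := Nat.mul_le_mul_right _ h5
  exact good_chk (by omega) hx hp (by omega) ho hj (by omega) (h2 ▸ h j (by omega) (by omega) (h2 ▸ h1))

theorem Pr.adm (h : Pr H) : adm (Nat.card (al H)) (Fintype.card Ω) := by
  have h7 := h.card
  refine ⟨h7, h.boch, ?_, fun ⟨h1, h2⟩ => ?_⟩
  · rw [← two_mul_card (by omega)]
    exact (card_subgroup_dvd_card _).mul_left _
  · have : Fact (Nat.Prime 3) := ⟨Nat.prime_three⟩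
    have h3 := H901.Caps.cap_one 3 (by omega) H fun g hg hg1 => H901.MinDeg.three_lt_support H h.prim h.nle g hg hg1
    have h4 : 4 ≤ (Nat.card H).factorization 3 :=
      (Nat.prime_three.pow_dvd_iff_le_factorization Nat.card_pos.ne').1 (h2.trans (card_al_dvd H))
    rw [h1] at h3
    exact absurd ((Nat.prime_three.pow_dvd_iff_le_factorization (factorial_ne_zero 10)).2 (show 5 ≤ _ by omega))
      (by decide +kernel)

theorem NF.exists_t (h : NF H N) {o : ℕ} (ho : Nat.card H ∣ o * Nat.card N) :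
    ∃ t, t ∣ o ∧ Nat.card (al H) = Nat.card N * t := by
  obtain ⟨t, ht⟩ := h.card_dvd
  refine ⟨t, Nat.dvd_of_mul_dvd_mul_left (Nat.card_pos (α := N)) ?_, ht⟩
  rw [← ht, mul_comm]
  exact (card_al_dvd H).trans ho

variable [IsSimpleGroup N]

theorem NF.good_L8 (h : NF H N) {d : ℕ × ℕ} (hd : d ∈ L8) (hs : Nat.card N = d.1) (ho : Nat.card H ∣ d.2 * Nat.card N) :
    Good (al H) := by
  obtain ⟨t, h1, h2⟩ := h.exists_t ho
  obtain ⟨⟨h0, h3⟩, h4⟩ := L8_neo d hd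
  have h7 := h.card
  have five : neo 5 d.1 → 25 ≤ Fintype.card Ω → d.2 * d.1 ≤ 2 ^ 25 → Good (al H) := fun k1 k2 k3 => by
    rw [← hs] at k1
    obtain ⟨x, hx, ⟨i, k4⟩, k5⟩ := h.pel (by norm_num) k1.1 (k1.ne (by norm_num))
    refine good_two (c := 1) (by norm_num) (h.le hx) k4 (by omega) k2 (le_trans ?_ (Nat.pow_le_pow_right two_pos k2))
    rw [h2, hs, mul_comm]
    exact (Nat.mul_le_mul_right _ (Nat.le_of_dvd h0 h1)).trans k3
  rcases lt_or_ge (Fintype.card Ω) 49 with hn | hn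
  · have h5 := L8_sv d hd _ hn (hs ▸ h.deg_dvd) t ((Nat.le_of_dvd h0 h1).trans h3) h1 (by rw [← hs, ← h2]; exact h.adm)
    rw [← hs, ← h2] at h5
    rcases h5 with ⟨k1, k2⟩ | ⟨k1, ⟨k2, k3⟩ | k2⟩
    · obtain ⟨x, hx, ⟨i, k4⟩, k5⟩ := h.pel (by norm_num) k1.1 (k1.ne (by norm_num))
      exact good_sv h7 hn (h.le hx) (by norm_num) (by norm_num) k4 (by omega) k2
    · exact five (hs ▸ k1) k2 (hs ▸ k3)
    · obtain ⟨x, hx, ⟨i, k4⟩, k5⟩ := h.pel (by norm_num) k1.1 (k1.ne (by norm_num))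
      exact good_sv h7 hn (h.le hx) (by norm_num) le_rfl k4 (by omega) k2
  · rcases h4 with k1 | ⟨k1, k2⟩
    · rw [← hs] at k1
      obtain ⟨x, hx, ⟨i, k4⟩, k5⟩ := h.pel (by norm_num) k1.1 (k1.ne (by norm_num))
      exact good_seven h.toPr (h.le hx) k4 k5 hn
    · exact five k1 (by omega) k2

theorem NF.good_504 (h : NF H N) (hs : Nat.card N = 504) (ho : Nat.card H ∣ 3 * Nat.card N) : Good (al H) := by
  obtain ⟨t, h1, h2⟩ := h.exists_t ho
  have h7 := h.card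
  have := h.tr
  obtain ⟨x, hx, ⟨i, k1⟩, k2⟩ := h.hel (p := 7) (by norm_num) (by rw [hs]; norm_num)
  have k3 : orderOf x = 7 := orderOf_eq k1 (by omega) hx (by rw [hs]; norm_num)
  have k4 : orderOf (⟨x, hx⟩ : N) = 7 := by rw [← k3, ← orderOf_coe]
  have hn := hs ▸ h.deg_dvd
  have k5 : 9 * nf x ≤ 2 * Fintype.card Ω := by
    obtain ⟨j, hj⟩ := exists_j (by norm_num) k1
    rcases fix_syl (Ω := Ω) (by norm_num) k4 (by rw [hs]; norm_num) with k5 | ⟨_, ⟨e, rfl⟩, k5⟩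
    · rw [nf_coe] at k5
      change nf x = 0 at k5
      omega
    · rw [nf_coe] at k5
      change nf x * _ = _ at k5
      have k6 : nf x ∣ 72 := by
        refine Nat.dvd_of_mul_dvd_mul_left (show 0 < 7 by norm_num) (dvd_trans ⟨e, ?_⟩ (hs ▸ nn_dvd_card (⟨x, hx⟩ : N)))
        rw [← k5]
        ring
      have k7 : Nat.Coprime (Fintype.card Ω) 7 := by
        rw [Nat.coprime_comm, Nat.Prime.coprime_iff_not_dvd (by norm_num)]
        intro k7
        exact absurd ((show 7 ∣ nf x by omega).trans k6) (by norm_num)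
      have k8 : Fintype.card Ω ∣ 72 := k7.dvd_of_dvd_mul_left hn
      exact L28_f _ (Nat.le_of_dvd (by norm_num) k8) k8 _ (by omega) k6 (by omega)
  have h3 := Nat.le_of_dvd (by norm_num) h1
  rcases lt_or_ge (Fintype.card Ω) 25 with k6 | k6
  · refine good_sv (c := 2) h7 (by omega) (h.le hx) (by norm_num) (by norm_num) k1 k5 ?_
    rw [h2, hs]
    exact L28_sv _ k6 hn t h3 h1 (by rw [← hs, ← h2]; exact h.adm)
  · refine good_two (c := 2) (by norm_num) (h.le hx) k1 k5 k6 (le_trans ?_ (Nat.pow_le_pow_right two_pos k6))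
    rw [h2, hs]
    omega

theorem NF.good_alt (h : NF H N) (hA : Nat.card H ∣ Nat.card (MulAut N)) {m : ℕ} (hm : 9 ≤ m)
    (e : Nonempty (N ≃* alternatingGroup (Fin m))) : Good (al H) := by
  refine boxAS Ω H N m hm h e (Nat.le_of_dvd (factorial_pos m) ?_)
  obtain ⟨e⟩ := e
  rwa [Nat.card_congr (MulAut.congr e).toEquiv, ← Nat.card_eq_of_bijective _ (S2119.result m (by omega) (by omega)),
    Nat.card_perm, Nat.card_eq_fintype_card (α := Fin m), Fintype.card_fin] at hA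

theorem NF.good_simple (h : NF H N) (hna : ¬ ∀ a b : N, a * b = b * a) (hA : Nat.card H ∣ Nat.card (MulAut N)) :
    Good (al H) := by
  rcases kind hna with ⟨p, h1, h2, h3, h4⟩ | ⟨m, h1, h2⟩ | ⟨e, h1, h2, h3, h4⟩
  · obtain ⟨x, hx, ⟨i, k1⟩, k2⟩ := h.pel h1 h3 h4
    exact good_big h.toPr (h.le hx) h1 h2 k1 k2
  · exact h.good_alt hA (by omega) h2
  · have h5 := hA.trans h4
    rcases L7_L8 e h1 with k | k | k | ⟨d, k1, k2, k3⟩
    · rw [k] at h2
      exact h.good_alt hA le_rfl h2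
    · rw [k] at h2
      exact h.good_alt hA (by norm_num) h2
    · rw [k] at h3 h5
      exact h.good_504 h3 (h3 ▸ h5)
    · exact h.good_L8 k1 (h3.trans k2) (h5.trans (h3 ▸ Nat.mul_dvd_mul_right k3 _))

/-- **a simple normal subgroup with trivial centraliser** -/
theorem naOne {H : Subgroup (Perm Ω)} {N : Subgroup H} [N.Normal] (h : NF H (N.map H.subtype))
    (hna : ¬ ∀ x ∈ N, ∀ y ∈ N, Commute x y) (hs : IsSimpleGroup N) (hc : centralizer (N : Set H) = ⊥) : Good (al H) := by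
  let e : N ≃* N.map H.subtype := equivMapOfInjective N H.subtype (subtype_injective _)
  have : IsSimpleGroup (N.map H.subtype) := e.symm.isSimpleGroup
  refine h.good_simple (fun k => hna fun x hx y hy => ?_) ?_
  · have := e.injective ((map_mul e _ _).trans ((k (e ⟨x, hx⟩) (e ⟨y, hy⟩)).trans (map_mul e _ _).symm))
    exact congrArg Subtype.val this
  · rw [← Nat.card_congr (MulAut.congr e).toEquiv]
    refine card_dvd_of_injective (MulAut.conjNormal (H := N)) ((injective_iff_map_eq_one _).2 fun g hg => ?_)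
    rw [← mem_bot, ← hc, mem_centralizer_iff]
    intro y hy
    have h1 : g * y * g⁻¹ = y := (MulAut.conjNormal_apply g ⟨y, hy⟩).symm.trans
      ((congrArg Subtype.val (DFunLike.congr_fun hg ⟨y, hy⟩) :))
    rw [← h1, inv_mul_cancel_right, h1]

end Cfsg.Agent.N2.Alt
end

-- part: N2/Alt/NAP1
section
/-!
# N2 (S3519), box NA, product and diagonal types: the structure (helper42)
-/

set_option autoImplicit false
set_option linter.unusedSectionVars false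

namespace Cfsg.Agent.N2.Alt.NP

open Equiv Equiv.Perm MulAction Subgroup Cfsg.Agent.FP3

section pi

variable {T ι : Type*} [Group T] [Finite T] [Fintype ι]

theorem fx_pi (L : ι → Subgroup T) (a : ι → T) : fx (Subgroup.pi Set.univ L) a ≤ ∏ i, fx (L i) (a i) := by
  let φ : (ι → T) ⧸ Subgroup.pi Set.univ L → ∀ i, T ⧸ L i := Quotient.lift (fun t i => (t i : T ⧸ L i)) fun s t h =>
    funext fun i => QuotientGroup.eq.2 (QuotientGroup.leftRel_apply.1 h i (Set.mem_univ i))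
  unfold fx
  rw [← Nat.card_pi]
  refine Nat.card_le_card_of_injective (fun x i => ⟨φ x.1 i, ?_⟩) ?_
  · obtain ⟨x, hx⟩ := x
    induction x using QuotientGroup.induction_on with | H t => ?_
    exact (smul_mk_iff (L i) (a i) (t i)).2 ((smul_mk_iff _ a t).1 hx i (Set.mem_univ i))
  · rintro ⟨x, hx⟩ ⟨y, hy⟩ h
    induction x using QuotientGroup.induction_on with | H s => ?_
    induction y using QuotientGroup.induction_on with | H t => ?_
    exact Subtype.ext (QuotientGroup.eq.2 fun i _ => QuotientGroup.eq.1 (congrArg Subtype.val (congrFun h i)))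

theorem card_aut [IsSimpleGroup T] (hT : ¬ IsMulCommutative T) :
    Nat.card (MulAut (ι → T)) ≤ Nat.card (MulAut T) ^ Fintype.card ι * (Fintype.card ι).factorial := by
  classical
  choose σ φ h using H936.AutPow.exists_form (ι := ι) hT
  have : Finite (MulAut T) := Finite.of_injective (fun f => f.toEquiv) MulEquiv.toEquiv_injective
  have h1 := Nat.card_le_card_of_injective (fun β => (φ β, σ β)) fun β γ e => by
    obtain ⟨h2, h3⟩ := Prod.mk.inj e
    ext x j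
    obtain ⟨i, rfl⟩ := (σ β).surjective j
    rw [h, h3, h, h2]
  rwa [Nat.card_prod, Nat.card_fun, Nat.card_perm, Nat.card_eq_fintype_card (α := ι)] at h1

theorem ord_pi {p : ℕ} (hp : p.Prime) {a : ι → T} (h : ∀ i, ∃ k, orderOf (a i) = p ^ k) : ∃ k, orderOf a = p ^ k := by
  choose k hk using h
  have h1 : a ^ p ^ (∑ i, k i) = 1 := funext fun i => orderOf_dvd_iff_pow_eq_one.1
    (hk i ▸ pow_dvd_pow p (Finset.single_le_sum (fun _ _ => Nat.zero_le _) (Finset.mem_univ i)))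
  obtain ⟨j, -, hj⟩ := (Nat.dvd_prime_pow hp).1 (orderOf_dvd_of_pow_eq_one h1)
  exact ⟨j, hj⟩

end pi

variable {Ω : Type} [Fintype Ω] [DecidableEq Ω]

/-- diagonal type, or a regular normal subgroup: the elements of one factor have no fixed point -/
structure Free (H : Subgroup (Perm Ω)) (T : Type) [Group T] (m : ℕ) : Prop where
  ord : Nat.card (al H) ≤ Fintype.card Ω * (Nat.card (MulAut T) ^ m * m.factorial)
  deg : ∃ s, 1 ≤ s ∧ m ≤ 2 * s ∧ Nat.card T ^ s ≤ Fintype.card Ω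
  el : ∀ y : T, y ≠ 1 → ∃ x ∈ H, orderOf x = orderOf y ∧ nf x = 0

/-- product type -/
structure Pd (H : Subgroup (Perm Ω)) (T : Type) [Group T] (m : ℕ) (L : Fin m → Subgroup T) : Prop where
  two : 2 ≤ m
  ord : Nat.card (al H) ≤ Nat.card (MulAut T) ^ m * m.factorial
  ne : ∀ i, L i ≠ ⊤
  deg : Fintype.card Ω = ∏ i, (L i).index
  el : ∀ a : Fin m → T, ∃ x ∈ H, orderOf x = orderOf a ∧ nf x ≤ ∏ i, fx (L i) (a i)

theorem struct {H : Subgroup (Perm Ω)} {N : Subgroup H} [hN : N.Normal] (h : NF H (N.map H.subtype))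
    (hmin : ∀ M : Subgroup H, M.Normal → M ≤ N → M = ⊥ ∨ M = N) (hna : ¬ ∀ x ∈ N, ∀ y ∈ N, Commute x y)
    (hc : ¬ IsSimpleGroup N ∨ centralizer (N : Set H) ≠ ⊥) :
    ∃ (T : Type) (_ : Group T) (_ : Finite T) (_ : IsSimpleGroup T) (m : ℕ), ¬ IsMulCommutative T ∧
      (Free H T m ∨ ∃ L, Pd H T m L) := by
  classical
  have h7 := h.card
  have hprim := h.prim
  have : Nontrivial Ω := Fintype.one_lt_card_iff_nontrivial.1 (by omega)
  obtain ⟨ω⟩ : Nonempty Ω := inferInstance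
  have htr : IsPretransitive N Ω := ⟨fun x y => by
    obtain ⟨⟨_, g, hg, rfl⟩, h1⟩ := h.tr.exists_smul_eq x y
    exact ⟨⟨g, hg⟩, h1⟩⟩
  have hfix : ∀ g : H, (∀ x : Ω, g • x = x) → g = 1 := fun g hg => Subtype.ext (Equiv.ext hg)
  set K := stabilizer H ω with hK
  have hmax : ∀ X ≤ N, K ⊓ N ≤ X → K ≤ normalizer (X : Set H) → X = K ⊓ N ∨ X = N := by
    intro X hX hKX hinv
    have hco : IsCoatom K := IsPreprimitive.isCoatom_stabilizer_of_isPreprimitive H ω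
    rcases hco.le_iff.mp (le_sup_left : K ≤ K ⊔ X) with h | h
    · right
      apply le_antisymm hX
      intro n hn
      have hn' : n ∈ ((K ⊔ X : Subgroup H) : Set H) := by
        rw [h]; exact Set.mem_univ _
      rw [Subgroup.coe_mul_of_left_le_normalizer_right _ _ hinv] at hn'
      obtain ⟨k, hk, x, hx, rfl⟩ := hn'
      have hkN : k ∈ N := by
        have := N.mul_mem hn (N.inv_mem (hX hx))
        simpa only [_root_.mul_inv_cancel_right] using this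
      exact X.mul_mem (hKX ⟨hk, hkN⟩) hx
    · exact Or.inl (le_antisymm (le_inf (le_sup_right.trans h.le) hX) hKX)
  obtain ⟨T, _, m, e, hTs, hTna, hm, hcase⟩ := PermutationGroups.OnanScott.onan_scott N hmin hna K (fun g => by
    obtain ⟨n, hn⟩ := htr.exists_smul_eq ω (g⁻¹ • ω)
    refine ⟨n, n.2, ?_⟩
    change (g * n.1) • ω = ω
    rw [mul_smul, show n.1 • ω = g⁻¹ • ω from hn, smul_inv_smul]) (fun h1 => by
    obtain ⟨x, hx⟩ := exists_ne ω
    obtain ⟨n, hn⟩ := htr.exists_smul_eq ω x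
    exact hx (hn.symm.trans (h1 n.2))) hmax
  have hTfin : Finite T := by
    have hfin : Finite (Fin m → T) := Finite.of_equiv N e.toEquiv
    exact Finite.of_surjective (fun f : Fin m → T => f ⟨0, hm⟩) fun t => ⟨fun _ => t, rfl⟩
  have hfa : Finite (MulAut N) := Finite.of_injective (fun f => f.toEquiv) MulEquiv.toEquiv_injective
  have hA : Nat.card (MulAut N) ≤ Nat.card (MulAut T) ^ m * m.factorial := by
    have := card_aut (ι := Fin m) hTna
    rwa [Fintype.card_fin, ← Nat.card_congr (MulAut.congr e).toEquiv] at this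
  have hker : ∀ g : H, MulAut.conjNormal (H := N) g = 1 → g ∈ centralizer (N : Set H) := fun g hg n hn => by
    have h1 : g * n * g⁻¹ = n := congrArg (fun f : MulAut N => (f ⟨n, hn⟩).1) hg
    rw [← mul_inv_eq_iff_eq_mul.1 h1]
  have hord : Nat.card (al H) ≤ Fintype.card Ω * (Nat.card (MulAut T) ^ m * m.factorial) := by
    refine (card_al_le H).trans ?_
    rw [← K.index_mul_card, index_stabilizer_of_transitive, Nat.card_eq_fintype_card]
    refine Nat.mul_le_mul_left _ (le_trans (Nat.card_le_card_of_injective ((MulAut.conjNormal (H := N)).comp K.subtype)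
      ((injective_iff_map_eq_one _).2 fun k hk => Subtype.ext (hfix k fun x => ?_))) hA)
    obtain ⟨n, rfl⟩ := htr.exists_smul_eq ω x
    change k.1 • (n.1 • ω) = n.1 • ω
    rw [← mul_smul, ← hker k hk n n.2, mul_smul, mem_stabilizer_iff.1 k.2]
  have hnf : ∀ n : N, nf (n.1 : Perm Ω) = fx (stabilizer N ω) n := fun n => card_fixedBy_eq ω n
  have ho : ∀ a, orderOf ((e.symm a).1 : Perm Ω) = orderOf a := fun a => by
    rw [Subgroup.orderOf_coe, Subgroup.orderOf_coe, e.symm.orderOf_eq]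
  have hfree : ∀ i : Fin m, (∀ n : N, n.1 ∈ K → (∀ j, j ≠ i → e n j = 1) → e n i = 1) →
      ∀ y : T, y ≠ 1 → ∃ x ∈ H, orderOf x = orderOf y ∧ nf x = 0 := fun i hi y hy => by
    refine ⟨_, (e.symm (Pi.mulSingle i y)).1.2, (ho _).trans
      (orderOf_injective (MonoidHom.mulSingle (fun _ => T) i) (Pi.mulSingle_injective (M := fun _ => T) i) y), ?_⟩
    rw [hnf]
    refine Nat.card_eq_zero.2 (Or.inl ⟨fun ⟨x, hx⟩ => hy ?_⟩)
    induction x using QuotientGroup.induction_on with | H t => ?_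
    have h1 := hi _ ((smul_mk_iff _ _ t).1 hx) fun j hj => by simp only [Pi.mulSingle_eq_of_ne hj, _root_.map_mul, _root_.map_inv, _root_.MulEquiv.apply_symm_apply, _root_.Pi.mul_apply, _root_.Pi.inv_apply, _root_.mul_one, _root_.inv_mul_cancel]
    have h2 : (e t i)⁻¹ * y * e t i = 1 := by simpa only [_root_.map_mul, _root_.map_inv, _root_.MulEquiv.apply_symm_apply, _root_.Pi.mul_apply, _root_.Pi.inv_apply, _root_.Pi.mulSingle_eq_same] using h1
    rw [← conj_eq_one_iff (a := (e t i)⁻¹), inv_inv, h2]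
  refine ⟨T, inferInstance, hTfin, hTs, m, hTna, ?_⟩
  have hi := index_stabilizer_of_transitive N ω
  rw [Nat.card_eq_fintype_card] at hi
  rcases hcase with ⟨L, h1, h2⟩ | ⟨k, c, h1, h2, h3⟩
  · by_cases hC : centralizer (N : Set H) = ⊥
    · have h3 : stabilizer N ω = (Subgroup.pi Set.univ L).comap e.toMonoidHom :=
        Subgroup.ext fun n => (h2 n).trans ⟨fun h i _ => h i, fun h i => h i (Set.mem_univ i)⟩
      refine Or.inr ⟨L, ?_, (card_al_le H).trans (le_trans (Nat.card_le_card_of_injective (MulAut.conjNormal (H := N))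
        ((injective_iff_map_eq_one _).2 fun g hg => mem_bot.1 (hC ▸ hker g hg))) hA), h1, ?_, fun a => ⟨_, (e.symm a).1.2, ho a, ?_⟩⟩
      · by_contra h4
        obtain rfl : m = 1 := by omega
        exact hc.resolve_right (not_not.2 hC) (e.trans (MulEquiv.funUnique (Fin 1) T)).isSimpleGroup
      · rw [← hi, h3, index_comap_of_surjective _ e.surjective, index_pi]
      · rw [hnf, h3, fx_comap _ e.surjective]
        simpa only [_root_.MulEquiv.toMonoidHom_eq_coe, _root_.MonoidHom.coe_coe, _root_.MulEquiv.apply_symm_apply] using fx_pi L a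
    · have h3 : IsPretransitive (centralizer (N : Set H)) Ω :=
        IsQuasiPreprimitive.isPretransitive_of_normal (G := H) fun h => hC (by
          rw [eq_bot_iff]
          exact fun a ha => mem_bot.2 (hfix a fun x => (h.ge (Set.mem_univ x)) ⟨a, ha⟩))
      have h4 : ∀ n : N, n.1 ∈ K → n = 1 := fun n hn => Subtype.ext (hfix n fun x => by
        obtain ⟨z, rfl⟩ := h3.exists_smul_eq ω x
        change n.1 • (z.1 • ω) = z.1 • ω
        rw [← mul_smul, z.2 n n.2, mul_smul, mem_stabilizer_iff.1 hn])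
      refine Or.inl ⟨hord, ⟨m, hm, by omega, ?_⟩, hfree ⟨0, hm⟩ fun n hn _ => by rw [h4 n hn, map_one]; rfl⟩
      rw [← hi, show stabilizer N ω = ⊥ from eq_bot_iff.2 fun n hn => mem_bot.2 (h4 n hn), index_bot, Nat.card_congr e.toEquiv,
        Nat.card_fun, Nat.card_eq_fintype_card (α := Fin m), Fintype.card_fin]
  · have h4 : ∀ i, ∃ j, j ≠ i ∧ c j = c i := fun i => by
      have : Nonempty {j // c j = c i} := ⟨⟨i, rfl⟩⟩
      have h5 := (h2 (c i)).resolve_right Nat.card_pos.ne'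
      have := Finite.one_lt_card_iff_nontrivial.1 (h5 ▸ h1)
      obtain ⟨j, hj⟩ := exists_ne (⟨i, rfl⟩ : {j // c j = c i})
      exact ⟨j, fun h => hj (Subtype.ext h), j.2⟩
    choose d hd hd' using h4
    let r : Fin m → Fin m := fun i => Classical.choose (⟨i, rfl⟩ : ∃ j, c j = c i)
    have hr : ∀ i, c (r i) = c i := fun i => Classical.choose_spec (⟨i, rfl⟩ : ∃ j, c j = c i)
    have hr2 : ∀ i j, c i = c j → r i = r j := fun i j hij => by simp only [r, hij]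
    have h5 : Nat.card {i // r i = i} ≤ Nat.card {i // r i ≠ i} :=
      Nat.card_le_card_of_injective (fun i => ⟨d i, by rw [hr2 _ _ (hd' i), i.2]; exact (hd i).symm⟩) fun i j h =>
        Subtype.ext (by rw [← i.2, ← j.2, ← hr2 _ _ (hd' i), ← hr2 _ _ (hd' j), Subtype.mk.inj h])
    have h6 : Nat.card {i // r i = i} + Nat.card {i // r i ≠ i} = m := by
      rw [← Nat.card_sum, Nat.card_congr (Equiv.sumCompl _), Nat.card_eq_fintype_card, Fintype.card_fin]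
    refine Or.inl ⟨hord, ⟨Nat.card {i // r i ≠ i}, by omega, by omega, ?_⟩,
      hfree ⟨0, hm⟩ fun n hn h8 => ((h3 n).1 hn _ _ (hd' _).symm).trans (h8 _ (hd _))⟩
    rw [← Nat.card_fun, ← Nat.card_eq_fintype_card]
    refine Nat.card_le_card_of_injective
      (fun z => (e.symm fun i => if h : r i = i then 1 else z ⟨i, h⟩ : N) • ω) fun z w hzw => funext fun i => ?_
    have h8 := (h3 _).1 (show (((e.symm fun i => if h : r i = i then 1 else z ⟨i, h⟩ : N)⁻¹ *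
      (e.symm fun i => if h : r i = i then 1 else w ⟨i, h⟩ : N) : N) : H) ∈ K by
        change (_⁻¹ * _ : N) • ω = ω
        rw [mul_smul, inv_smul_eq_iff]
        exact hzw.symm) i (r i) (hr i).symm
    have h9 : r (r i) = r i := hr2 _ _ (hr i)
    simp only [map_mul, map_inv, MulEquiv.apply_symm_apply, Pi.mul_apply, Pi.inv_apply, dif_neg i.2, dif_pos h9, inv_one,
      mul_one] at h8
    exact inv_mul_eq_one.1 h8

end Cfsg.Agent.N2.Alt.NP
end

-- part: N2/Alt/NAP2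
section
/-!
# N2 (S3519), box NA, product and diagonal types: the elements (helper42)
-/

set_option autoImplicit false
set_option linter.unusedSectionVars false

namespace Cfsg.Agent.N2.Alt.NP

open Equiv Equiv.Perm MulAction Subgroup Cfsg.Agent.FP3

/-- what the table of the simple groups has to give -/
def Kd (T : Type) [Group T] : Prop :=
  (∃ p, p.Prime ∧ 11 ≤ p ∧ p ∣ Nat.card T ∧ NE p T) ∨ (∃ m, 11 ≤ m ∧ Nonempty (T ≃* alternatingGroup (Fin m))) ∨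
  (49 ≤ Nat.card T ∧ 7 ∣ Nat.card T ∧ (NE 7 T ∨ Nat.card (MulAut T) ≤ 2 ^ 24)) ∨
  ((Nat.card T = 60 ∨ Nat.card T = 360) ∧ Nat.card (MulAut T) ≤ 2 ^ 12) ∨
  (Nat.card T = 25920 ∧ Nat.card (MulAut T) ≤ 2 ^ 16)

theorem ord_le {A a l m : ℕ} (hA : A ≤ 2 ^ a) (h : 2 * a + 1 ≤ l ^ 2) (hl : 3 ≤ l) (hm : 2 ≤ m) :
    A ^ m * m.factorial ≤ 2 ^ l ^ m := by
  induction m, hm using Nat.le_induction with
  | base =>
    calc A ^ 2 * Nat.factorial 2 ≤ (2 ^ a) ^ 2 * 2 := Nat.mul_le_mul (Nat.pow_le_pow_left hA 2) le_rfl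
      _ = 2 ^ (2 * a + 1) := by ring
      _ ≤ _ := Nat.pow_le_pow_right two_pos h
  | succ m hm ih =>
    have h1 : l ^ 2 ≤ l ^ m := Nat.pow_le_pow_right (by omega) hm
    have h2 : m < l ^ m := Nat.lt_pow_self (by omega)
    have h3 : l ^ m * 3 ≤ l ^ (m + 1) := by rw [pow_succ]; exact Nat.mul_le_mul_left _ hl
    calc A ^ (m + 1) * (m + 1).factorial = A ^ m * m.factorial * A * (m + 1) := by rw [Nat.factorial_succ]; ring
      _ ≤ 2 ^ l ^ m * 2 ^ a * 2 ^ m := Nat.mul_le_mul (Nat.mul_le_mul ih hA) Nat.lt_two_pow_self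
      _ = 2 ^ (l ^ m + a + m) := by ring
      _ ≤ _ := Nat.pow_le_pow_right two_pos (by omega)

theorem lt_seven {m : ℕ} (hm : 3 ≤ m) : 2 * (16 * m + m * m) ≤ 7 ^ m := by
  induction m, hm using Nat.le_induction with
  | base => norm_num
  | succ m hm ih =>
    rw [pow_succ]
    linarith only [hm, ih, _root_.mul_self_nonneg (↑m : ℤ)]

theorem ord_free {A n m : ℕ} (hA : A ≤ 2 ^ 16) (hn : 60 ≤ n) (hm : 7 ^ m ≤ n) : n * (A ^ m * m.factorial) ≤ 2 ^ n := by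
  have h1 : ∀ r, 5 ≤ r → 4 * r + 4 ≤ 2 ^ r := fun r hr => by
    induction r, hr using Nat.le_induction with
    | base => norm_num
    | succ r hr ih => rw [pow_succ]; omega
  have h2 := h1 (n / 4) (by omega)
  have h3 : 16 * m + m * m + n / 4 ≤ n := by
    by_cases h4 : 3 ≤ m
    · have := lt_seven h4
      omega
    · have : m * m ≤ 2 * 2 := Nat.mul_le_mul (by omega) (by omega)
      omega
  have h4 : m.factorial ≤ (2 ^ m) ^ m := (Nat.factorial_le_pow m).trans (Nat.pow_le_pow_left Nat.lt_two_pow_self.le m)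
  calc _ ≤ 2 ^ (n / 4) * ((2 ^ 16) ^ m * (2 ^ m) ^ m) :=
      Nat.mul_le_mul (by omega) (Nat.mul_le_mul (Nat.pow_le_pow_left hA m) h4)
    _ = 2 ^ (16 * m + m * m + n / 4) := by rw [← pow_mul, ← pow_mul, ← pow_add, ← pow_add, add_comm]
    _ ≤ _ := Nat.pow_le_pow_right two_pos h3

theorem fact_le_two (m : ℕ) : m.factorial ≤ 2 ^ m.choose 2 := by
  induction m with
  | zero => simp
  | succ m ih =>
    rw [Nat.factorial_succ, Nat.choose_succ_succ' m 1, Nat.choose_one_right, pow_add]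
    exact Nat.mul_le_mul Nat.lt_two_pow_self ih

variable {T : Type} [Group T] [Finite T] [IsSimpleGroup T]

theorem dvd_idx {L : Subgroup T} (hL : L ≠ ⊤) : Nat.card T ∣ L.index.factorial := by
  have := faithful_quot hL
  have h1 := card_dvd_of_injective (toPermHom T (T ⧸ L)) toPerm_injective
  rwa [Nat.card_perm] at h1

theorem card_of_alt {m : ℕ} (hm : 2 ≤ m) (e : T ≃* alternatingGroup (Fin m)) : 2 * Nat.card T = m.factorial := by
  rw [Nat.card_congr e.toEquiv, two_mul_card (by simpa only [_root_.Fintype.card_fin] using hm), Fintype.card_fin]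

theorem ne_five (h : Nat.card T = 60 ∨ Nat.card T = 360 ∨ Nat.card T = 25920) : NE 5 T := by
  refine ⟨fun m h1 h2 ⟨e⟩ => ?_, fun k hk => ?_⟩
  · have h3 : 7 ∣ 2 * Nat.card T := card_of_alt (by omega) e ▸ Nat.dvd_factorial (by norm_num) (by omega)
    omega
  · have h3 : 3 ∣ 2 ^ k := hk ▸ by norm_num
    exact absurd (Nat.prime_three.dvd_of_dvd_pow h3) (by norm_num)

variable {Ω : Type} [Fintype Ω] [DecidableEq Ω] {H : Subgroup (Perm Ω)} {m : ℕ}

theorem Free.good (hP : Pr H) (h : Free H T m) (hk : Kd T) : Good (al H) := by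
  have hel : ∀ p, p.Prime → p ∣ Nat.card T → ∃ x ∈ H, orderOf x = p ^ 1 ∧ nf x = 0 := fun p hp hd => by
    have : Fact p.Prime := ⟨hp⟩
    obtain ⟨y, hy⟩ := exists_prime_orderOf_dvd_card' p hd
    obtain ⟨x, h1, h2, h3⟩ := h.el y fun h4 => hp.ne_one (by rw [← hy, h4, orderOf_one])
    exact ⟨x, h1, by rw [h2, hy, pow_one], h3⟩
  have big : ∀ p, p.Prime → 11 ≤ p → p ∣ Nat.card T → Good (al H) := fun p hp h1 hd => by
    obtain ⟨x, h2, h3, h4⟩ := hel p hp hd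
    exact good_big hP h2 hp h1 h3 (by rw [h4]; omega)
  obtain ⟨s, h1, h2, h3⟩ := h.deg
  have h4 : Nat.card T ≤ Fintype.card Ω := (Nat.le_self_pow (by omega) _).trans h3
  have five : 60 ≤ Nat.card T → 5 ∣ Nat.card T → Nat.card (MulAut T) ≤ 2 ^ 16 → Good (al H) := fun h5 h6 h7 => by
    obtain ⟨x, h8, h9, h10⟩ := hel 5 (by norm_num) h6
    refine good_two (c := 1) (by simp) h8 h9 (by rw [h10]; omega) (by omega) (h.ord.trans (ord_free h7 (by omega) ?_))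
    calc 7 ^ m ≤ 7 ^ (2 * s) := Nat.pow_le_pow_right (by norm_num) h2
      _ = 49 ^ s := by rw [pow_mul]; norm_num
      _ ≤ _ := (Nat.pow_le_pow_left (by omega) s).trans h3
  rcases hk with ⟨p, h5, h6, h7, -⟩ | ⟨k, h5, ⟨e⟩⟩ | ⟨h5, h6, -⟩ | ⟨h5, h6⟩ | ⟨h5, h6⟩
  · exact big p h5 h6 h7
  · have h6 : 11 ∣ 2 * Nat.card T := card_of_alt (by omega) e ▸ Nat.dvd_factorial (by norm_num) h5
    exact big 11 (by norm_num) le_rfl (by omega)
  · obtain ⟨x, h7, h8, h9⟩ := hel 7 (by norm_num) h6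
    exact good_seven hP h7 h8 (by rw [h9]; omega) (by omega)
  · exact five (by omega) (by omega) (by omega)
  · exact five (by omega) (by omega) h6

variable {L : Fin m → Subgroup T}

theorem Pd.rat (h : Pd H T m L) {p u v : ℕ} (hp : p.Prime) (hu : 0 < u) (hv : v ≤ u)
    (hr : ∀ i, ∃ y : T, (∃ k, orderOf y = p ^ k) ∧ u * fx (L i) y ≤ v * (L i).index) :
    ∃ x ∈ H, (∃ k, orderOf x = p ^ k) ∧ u ^ 2 * nf x ≤ v ^ 2 * Fintype.card Ω := by
  choose a h1 h2 using hr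
  obtain ⟨x, h3, h4, h5⟩ := h.el a
  refine ⟨x, h3, h4 ▸ ord_pi hp h1, ?_⟩
  have h6 : ∏ i, u * fx (L i) (a i) ≤ ∏ i, v * (L i).index := Finset.prod_le_prod' fun i _ => h2 i
  rw [Finset.prod_mul_distrib, Finset.prod_mul_distrib, Finset.prod_const, Finset.prod_const, Finset.card_univ,
    Fintype.card_fin, ← h.deg] at h6
  obtain ⟨j, hj⟩ := Nat.exists_eq_add_of_le h.two
  refine Nat.le_of_mul_le_mul_left ?_ (pow_pos hu j)
  calc _ = u ^ m * nf x := by rw [hj]; ring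
    _ ≤ v ^ m * Fintype.card Ω := (Nat.mul_le_mul_left _ h5).trans h6
    _ = v ^ j * (v ^ 2 * Fintype.card Ω) := by rw [hj]; ring
    _ ≤ _ := Nat.mul_le_mul_right _ (Nat.pow_le_pow_left hv j)

theorem Pd.le (h : Pd H T m L) {l : ℕ} (hl : ∀ K : Subgroup T, K ≠ ⊤ → l ≤ K.index) : l ^ m ≤ Fintype.card Ω := by
  have := Finset.pow_card_le_prod Finset.univ (fun i => (L i).index) l fun i _ => hl _ (h.ne i)
  rwa [Finset.card_univ, Fintype.card_fin, ← h.deg] at this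

theorem Pd.small (h : Pd H T m L) {l a : ℕ} (hl : ∀ K : Subgroup T, K ≠ ⊤ → l ≤ K.index) (h5 : 5 ≤ l)
    (hA : Nat.card (MulAut T) ≤ 2 ^ a) (ha : 2 * a + 1 ≤ l ^ 2) :
    25 ≤ Fintype.card Ω ∧ Nat.card (al H) ≤ 2 ^ Fintype.card Ω :=
  ⟨(Nat.pow_le_pow_left h5 2).trans ((Nat.pow_le_pow_right (by omega) h.two).trans (h.le hl)),
    h.ord.trans ((ord_le hA ha (by omega) h.two).trans (Nat.pow_le_pow_right two_pos (h.le hl)))⟩

theorem Pd.good (hP : Pr H) (h : Pd H T m L) (hk : Kd T) : Good (al H) := by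
  have hidx : ∀ p, p.Prime → p ∣ Nat.card T → ∀ K : Subgroup T, K ≠ ⊤ → p ≤ K.index := fun p hp hd K hK =>
    hp.dvd_factorial.1 (hd.trans (dvd_idx hK))
  have hpel : ∀ p, p.Prime → p ∣ Nat.card T → NE p T → ∃ x ∈ H, ∃ k, orderOf x = p ^ k ∧ (p + 1) * nf x ≤ Fintype.card Ω := by
    intro p hp hd hE
    obtain ⟨x, h1, ⟨k, h2⟩, h3⟩ := h.rat (u := p + 1) (v := 1) hp (by omega) (by omega) fun i => by
      simpa only [_root_.one_mul] using pel (h.ne i) hp hd hE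
    refine ⟨x, h1, k, h2, le_trans (Nat.mul_le_mul_right _ (Nat.le_self_pow two_ne_zero _)) ?_⟩
    simpa only [_root_.one_pow, _root_.one_mul] using h3
  rcases hk with ⟨p, h1, h2, h3, h4⟩ | ⟨k, h1, ⟨e⟩⟩ | ⟨-, h1, h2 | h2⟩ | ⟨h1, h2⟩ | ⟨h1, h2⟩
  · obtain ⟨x, h5, i, h6, h7⟩ := hpel p h1 h3 h4
    exact good_big hP h5 h1 h2 h6 h7
  · have h2 : 11 ∣ 2 * Nat.card T := card_of_alt (by omega) e ▸ Nat.dvd_factorial (by norm_num) h1
    obtain ⟨x, h3, ⟨i, h4⟩, h5⟩ := h.rat (p := 11) (u := 21) (v := 10) (by norm_num) (by norm_num) (by norm_num) fun i =>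
      hel (h.ne i) (by norm_num) (by omega)
    obtain ⟨h6, h7⟩ := h.small (l := k) (a := k.choose 2)
      (fun K hK => by simpa only [_root_.Fintype.card_fin] using TH.Sim.Al.le_index_alt e (by simp only [_root_.Fintype.card_fin]; omega) hK) (by omega) (by
        rw [Nat.card_congr (MulAut.congr e).toEquiv, ← Nat.card_eq_of_bijective _ (S2119.result k (by omega) (by omega)),
          Nat.card_perm, Nat.card_eq_fintype_card, Fintype.card_fin]
        exact fact_le_two k) (by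
        obtain ⟨j, rfl⟩ : ∃ j, k = j + 1 := ⟨k - 1, by omega⟩
        rw [Nat.choose_two_right, Nat.add_sub_cancel]
        have : (j + 1) ^ 2 = (j + 1) * j + (j + 1) := by ring
        omega)
    exact good_two (c := 4) (by simp) h3 h4 (by omega) h6 h7
  · obtain ⟨x, h3, i, h4, h5⟩ := hpel 7 (by norm_num) h1 h2
    exact good_seven hP h3 h4 h5 ((Nat.pow_le_pow_right (n := 7) (by norm_num) h.two).trans (h.le (hidx 7 (by norm_num) h1)))
  · obtain ⟨x, h3, ⟨i, h4⟩, h5⟩ := h.rat (p := 7) (u := 13) (v := 6) (by norm_num) (by norm_num) (by norm_num) fun i =>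
      hel (h.ne i) (by norm_num) h1
    obtain ⟨h6, h7⟩ := h.small (hidx 7 (by norm_num) h1) (by norm_num) h2 (by norm_num)
    exact good_two (c := 2) (by simp) h3 h4 (by omega) h6 h7
  · obtain ⟨x, h3, i, h4, h5⟩ := hpel 5 (by norm_num) (by omega) (ne_five (by omega))
    obtain ⟨h6, h7⟩ := h.small (hidx 5 (by norm_num) (by omega)) le_rfl h2 (by norm_num)
    exact good_two (c := 1) (by simp) h3 h4 (by omega) h6 h7
  · obtain ⟨x, h3, i, h4, h5⟩ := hpel 5 (by norm_num) (by omega) (ne_five (by omega))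
    obtain ⟨h6, h7⟩ := h.small (l := 6) (fun K hK => by
      by_contra h6
      have h7 := (Nat.le_of_dvd (Nat.factorial_pos _) (dvd_idx hK)).trans (Nat.factorial_le (by omega : K.index ≤ 5))
      rw [h1] at h7
      exact absurd h7 (by decide)) (by norm_num) h2 (by norm_num)
    exact good_two (c := 1) (by simp) h3 h4 (by omega) h6 h7

/-- the product and diagonal types, given the table -/
theorem naProd_of (hk : ∀ (T : Type) [Group T] [Finite T] [IsSimpleGroup T], ¬ IsMulCommutative T → Kd T)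
    {N : Subgroup H} [N.Normal] (h : NF H (N.map H.subtype))
    (hmin : ∀ M : Subgroup H, M.Normal → M ≤ N → M = ⊥ ∨ M = N) (hna : ¬ ∀ x ∈ N, ∀ y ∈ N, Commute x y)
    (hc : ¬ IsSimpleGroup N ∨ centralizer (N : Set H) ≠ ⊥) : Good (al H) := by
  obtain ⟨T, _, _, _, m, h1, h2 | ⟨L, h2⟩⟩ := struct h hmin hna hc
  · exact h2.good h.toPr (hk T h1)
  · exact h2.good h.toPr (hk T h1)

end Cfsg.Agent.N2.Alt.NP
end

-- part: N2/Alt/NAP
section
/-!
# N2 (S3519), box NA: the product and diagonal types (helper42)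
-/

set_option autoImplicit false

namespace Cfsg.Agent.N2.Alt

open Equiv Subgroup Cfsg.Agent.FP3

theorem NP.tab : ∀ e ∈ L7, (49 ≤ e.2.1 ∧ 7 ∣ e.2.1 ∧ (e.2.2 * e.2.1 ≤ 2 ^ 24 ∨
    (∀ m < (42 : ℕ), 2 * e.2.1 ≠ m.factorial) ∧ e.2.1 ≠ 504)) ∨ ((e.2.1 = 60 ∨ e.2.1 = 360) ∧ e.2.2 * e.2.1 ≤ 2 ^ 12) ∨
    (e.2.1 = 25920 ∧ e.2.2 * e.2.1 ≤ 2 ^ 16) := by decide +kernel

theorem NP.pos : ∀ e ∈ L7, 0 < e.2.2 * e.2.1 := by decide +kernel

theorem NP.kd (T : Type) [Group T] [Finite T] [IsSimpleGroup T] (h : ¬ IsMulCommutative T) : NP.Kd T := by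
  rcases kind (S := T) (fun k => h ⟨⟨k⟩⟩) with h1 | ⟨m, h1, h2⟩ | ⟨e, he, -, h1, h2⟩
  · exact Or.inl h1
  · exact Or.inr (Or.inl ⟨m, by omega, h2⟩)
  have h3 := Nat.le_of_dvd (NP.pos e he) h2
  refine Or.inr (Or.inr ?_)
  rcases NP.tab e he with ⟨h4, h5, h6 | ⟨h6, h7⟩⟩ | ⟨h4, h5⟩ | ⟨h4, h5⟩
  · exact Or.inl ⟨h1 ▸ h4, h1 ▸ h5, Or.inr (h3.trans h6)⟩
  · refine Or.inl ⟨h1 ▸ h4, h1 ▸ h5, Or.inl (NE_of_card (by norm_num) (fun m hm _ => h1 ▸ h6 m hm) fun k _ hk => ?_)⟩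
    rw [← hk, h1]
    exact h7
  · exact Or.inr (Or.inl ⟨h1 ▸ h4, h3.trans h5⟩)
  · exact Or.inr (Or.inr ⟨h1 ▸ h4, h3.trans h5⟩)

/-- **the product and diagonal types** -/
theorem naProd {Ω : Type} [Fintype Ω] [DecidableEq Ω] {H : Subgroup (Perm Ω)} {N : Subgroup H} [N.Normal]
    (h : NF H (N.map H.subtype)) (hmin : ∀ M : Subgroup H, M.Normal → M ≤ N → M = ⊥ ∨ M = N)
    (hna : ¬ ∀ x ∈ N, ∀ y ∈ N, Commute x y) (hc : ¬ IsSimpleGroup N ∨ centralizer (N : Set H) ≠ ⊥) : Good (al H) :=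
  NP.naProd_of NP.kd h hmin hna hc

end Cfsg.Agent.N2.Alt
end

-- part: N2/Alt/Main
section
/-!
# N2 (S3519): the row of the alternating groups (helper51)
-/

set_option autoImplicit false

namespace Cfsg.Agent.N2

open Subgroup Cfsg.Agent.FP3

theorem Alt.boxNA : Alt.BoxNA := by
  intro Ω _ _ H N _ h hmin hna
  by_cases hc : ¬ IsSimpleGroup N ∨ centralizer (N : Set H) ≠ ⊥
  · exact Alt.naProd h hmin hna hc
  · push Not at hc
    exact Alt.naOne h hna hc.1 hc.2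

/-- **the row of the alternating groups** -/
theorem as_alt {T : Type*} [Group T] (h : IsAlternating T) : ASRow T := Alt.as_alt_of Alt.boxNA h

theorem rowA : Row fA := fun _ _ _ _ _ h => as_alt h

end Cfsg.Agent.N2
end
end

-- part: N2/D4m/Small
section
set_option linter.all false
open scoped Cfsg.Agent.FastGrp

/-!
# N2, dimension four: `U₄(3)` and `U₄(2) = PSp₄(3)` (helper21)
-/

set_option autoImplicit false
set_option linter.unusedSectionVars false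

namespace Cfsg.Agent.N2C.N4

open Cfsg Subgroup Cfsg.Agent.H940.Eng
open Cfsg.Agent.FP3 (Good MI ASRow fx)

variable {T : Type} [Group T] [Finite T]

/-- a Sylow subgroup of prime order -/
theorem fx_loc {ld : LD} (hl : Loc T ld) {B : Subgroup T} (h : ld.r ∣ Nat.card B) : ∃ a ∈ B, orderOf a = ld.r ∧
    fx B a * Nat.card ↥(normalizer (zpowers a : Set T) ⊓ B) ≤ ld.N ∧ ld.r ∣ Nat.card ↥(normalizer (zpowers a : Set T) ⊓ B) := by
  obtain ⟨hr, hp, h2, h3⟩ := hl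
  have := Fact.mk hr
  obtain ⟨a, ha⟩ := exists_prime_orderOf_dvd_card' (G := B) ld.r h
  rw [← orderOf_coe] at ha
  have h4 : Nat.card (zpowers (a : T)) = ld.r := (Nat.card_zpowers _).trans ha
  have h5 : zpowers (a : T) ≤ B := zpowers_le.2 a.2
  have h6 := N2.fs_sylow hr h5 (IsPGroup.of_card (n := 1) (by rw [h4, pow_one])) fun k => h2 (by
    have h7 := ((zpowers (a : T)).subgroupOf B).card_mul_index
    rw [Nat.card_congr (subgroupOfEquivOfLe h5).toEquiv, h4] at h7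
    exact Dvd.dvd.trans (by rw [pow_two, ← h7]; exact Nat.mul_dvd_mul_left _ k) (card_subgroup_dvd_card B))
  refine ⟨a, a.2, ha, (Nat.mul_le_mul_right _ (N2.fx_le_fs B le_rfl)).trans (h6.le.trans (Nat.le_of_dvd ?_ (h3 _ h4).2)),
    h4 ▸ card_dvd_of_le (le_inf le_normalizer h5)⟩
  unfold LD.N
  generalize ld.fN = l at hp
  induction l with
  | nil => exact Nat.one_pos
  | cons x l ih => exact Nat.mul_pos (pow_pos (hp x List.mem_cons_self).pos _) (ih fun y hy => hp y (List.mem_cons_of_mem _ hy))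

theorem good_loc {ld : LD} (hl : Loc T ld) {B : Subgroup T} (h : ld.r ∣ Nat.card B) {m : ℕ} (hm : ld.N ≤ m * ld.r)
    (hi : m ^ 3 ≤ B.index) : Good B := by
  obtain ⟨a, ha, -, h1, h2⟩ := fx_loc hl h
  exact good_of_fx ha (Nat.le_of_mul_le_mul_right ((Nat.mul_le_mul_left _ (Nat.le_of_dvd Nat.card_pos h2)).trans
    (h1.trans hm)) hl.1.pos) hi

/-- **[U43]** -/
theorem boxU43 : BoxU43 := fun K _ _ hK B hB h => by
  have d := SM.U.B43.dt hK
  have : Finite (PSU 4 K 3) := Nat.finite_of_card_ne_zero (by rw [d.card]; norm_num)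
  have h1 := d.idx B hB
  exact h.elim (fun h => good_loc d.loc5 h (m := 4) (by decide) (by omega))
    fun h => good_loc d.loc7 h (m := 3) (by decide) (by omega)

theorem row25920 [IsSimpleGroup T] (hn : ¬ IsMulCommutative T) (hc : Nat.card T = 25920) (h2 : IsLieTypeChar 2 T)
    (h3 : IsLieTypeChar 3 T) (hi : ∀ B : Subgroup T, B ≠ ⊤ → 27 ≤ B.index) : ASRow T := fun B Γ hB => by
  have f2 := Fact.mk Nat.prime_two
  have f3 := Fact.mk Nat.prime_three
  have f5 := Fact.mk Nat.prime_five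
  have key : ∀ N : Subgroup B, N.Normal → ¬ 5 ∣ Nat.card N → N ≠ ⊥ → Good B := fun N hN h5 h1 => by
    have h6 : Nat.card N ∣ 2 ^ 6 * 3 ^ 4 := ((Nat.prime_five.coprime_iff_not_dvd.2 h5).symm).dvd_of_dvd_mul_right
      (((card_subgroup_dvd_card N).trans (card_subgroup_dvd_card B)).trans (by rw [hc]; norm_num))
    have k : ∀ p : ℕ, pCore p N ≠ ⊥ → pCore p B ≠ ⊥ := fun p hp k => by
      have := Lib.Cores.pCore_characteristic (G := N) p
      have h7 := Lib.Cores.le_pCore (N := (pCore p N).map N.subtype) inferInstance ((Lib.Cores.pCore_isPGroup p).map _)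
      rw [k, le_bot_iff] at h7
      exact hp ((map_eq_bot_iff_of_injective _ N.subtype_injective).1 h7)
    exact (SM.U.B43.core23 h6 fun e => h1 (card_eq_one.1 e)).elim (fun h => N2.Par.good_of_par hn h2 hB (k 2 h))
      fun h => N2.Par.good_of_par hn h3 hB (k 3 h)
  by_cases h5 : 5 ∣ Nat.card B
  swap
  · have := (nontrivial_iff_ne_bot B).2 hB.ne_bot
    exact key ⊤ inferInstance (by rwa [card_top]) top_ne_bot
  have hl : Loc T ⟨5, 5, [(2, 2), (5, 1)]⟩ := by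
    obtain ⟨x, hx⟩ := exists_prime_orderOf_dvd_card' (G := T) 5 (by rw [hc]; norm_num)
    refine loc_of_cent (fun h => hn ⟨⟨h⟩⟩) hc (by decide +kernel) (by decide +kernel) (fC := [(5, 1)])
      (by decide +kernel) (R0 := zpowers x) ((Nat.card_zpowers x).trans hx) ?_ (by decide +kernel) (by decide +kernel)
    rw [BMx.LocAbs.cent_zp, S1001.result 5 4 6 Nat.prime_five (by rw [hc]; norm_num) x hx, Nat.card_zpowers, hx]
    decide
  obtain ⟨a, ha, h6, h7, m, h8⟩ := fx_loc hl h5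
  have h9 := hi B hB.ne_top
  change _ ≤ 20 at h7
  change _ = 5 * m at h8
  change _ = 5 at h6
  have h10 : 0 < 5 * m := h8 ▸ Nat.card_pos
  rw [h8] at h7
  by_cases h11 : 2 ≤ m
  · exact good_of_fx ha (m := 2) (by nlinarith) (by omega)
  obtain rfl : m = 1 := by omega
  have h12 : Nat.card ((zpowers a).subgroupOf B) = 5 := by
    rw [Nat.card_congr (subgroupOfEquivOfLe (zpowers_le.2 ha)).toEquiv, Nat.card_zpowers, h6]
  have h13 : ¬ 5 ∣ ((zpowers a).subgroupOf B).index := fun k => hl.2.2.1 (Dvd.dvd.trans (by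
    rw [← ((zpowers a).subgroupOf B).card_mul_index, h12]
    exact Nat.mul_dvd_mul_left 5 k) (card_subgroup_dvd_card B))
  let P : Sylow 5 B := (IsPGroup.of_card (n := 1) h12).toSylow h13
  have h14 : zpowers a = normalizer (zpowers a : Set T) ⊓ B :=
    eq_of_le_of_card_ge (le_inf le_normalizer (zpowers_le.2 ha)) (by rw [h8, Nat.card_zpowers, h6])
  have h15 : normalizer ((P : Subgroup B) : Set B) ≤ centralizer ((P : Subgroup B) : Set B) := fun x hx => by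
    have h16 : (x : T) ∈ zpowers a := by
      rw [h14]
      refine ⟨mem_normalizer_fintype fun y hy => ?_, x.2⟩
      exact (mem_normalizer_iff.1 hx ⟨y, zpowers_le.2 ha hy⟩).1 hy
    refine mem_centralizer_iff.2 fun y hy => Subtype.ext ?_
    obtain ⟨i, hi⟩ := h16
    obtain ⟨j, hj⟩ : (y : T) ∈ zpowers a := hy
    rw [coe_mul, coe_mul, ← hi, ← hj]
    exact zpow_mul_comm a j i
  by_cases h17 : (MonoidHom.transferSylow P h15).ker = ⊥
  · have h18 := (MonoidHom.ker_transferSylow_isComplement' P h15).card_mul_card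
    have h19 := B.card_mul_index
    rw [h17, card_bot, one_mul, show Nat.card (P : Subgroup B) = 5 from h12] at h18
    rw [← h18, hc] at h19
    exact good_of_fx ha (m := 4) (by omega) (by omega)
  · exact key _ inferInstance (MonoidHom.not_dvd_card_ker_transferSylow P h15) h17

/-- **[S43]** -/
theorem boxS43 : BoxS43 := fun K _ _ hK => by
  have f2 := Fact.mk Nat.prime_two
  have f3 := Fact.mk Nat.prime_three
  have h4 := SmallSimple.PSLFacts.card_psp_two_three hK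
  have : Finite (PSp 2 K) := Nat.finite_of_card_ne_zero (by rw [h4]; norm_num)
  let _ : Fintype (GaloisField 2 2) := Fintype.ofFinite _
  have hF : Fintype.card (GaloisField 2 2) = 4 := by rw [← Nat.card_eq_fintype_card, GaloisField.card 2 2 two_ne_zero]; rfl
  obtain ⟨e⟩ := S0822.result hF hK
  have c3 : CharP K 3 := charP_of_card_eq_prime hK
  have := S0270.result (F := K) 2 le_rfl fun _ => hK.ge
  refine row25920 (fun h => ?_) h4
    (Or.inr (Or.inr (Or.inl ⟨GaloisField 2 2, _, _, inferInstance, 4, 2, hF, by norm_num, by norm_num, ⟨e.symm⟩⟩)))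
    (Or.inr (Or.inl ⟨K, _, _, c3, 2, le_rfl, fun _ => hK.ge, ⟨MulEquiv.refl _⟩⟩))
    fun B hB => idx_congr e.symm (S2150.result 2 hF le_rfl).1 hB
  let : CommGroup (PSp 2 K) := { (inferInstance : Group (PSp 2 K)) with mul_comm := h.is_comm.comm }
  have h1 : (Nat.card (PSp 2 K)).Prime := IsSimpleGroup.prime_card
  rw [h4] at h1
  exact absurd h1 (by norm_num)

end Cfsg.Agent.N2C.N4
end
end
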