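import Cfsg.Agent.N2.Sp1.VJ2
import Cfsg.Agent.N2.Sp3.Lyv_m3
import Cfsg.Agent.N2.Sp1.VMcL_m3
import Cfsg.Agent.N2.Sp1.VHS_m3
import Cfsg.Agent.N2.Sp1.Rows
import Cfsg.Agent.N2.Sp3.HNv
import Cfsg.Agent.N2.Sp2.MdSuz_m3
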